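import Mathlib
import Cfsg.Agent.Lib.WD.Defs
import Cfsg.Agent.Lib.J2.Hundred

/-!
# Standard `J2`: vocabulary (project SJ, statement S3094)

`J` is the Hall-Janko group on 100 points.  Named elements:
`z, a, b` of class 2A (`[a,b] = z`, `a, b ∈ Q = O₂(C(z))`), `U = ⟨z,a⟩`;
`v, w` of class 2B, `V = ⟨v,w⟩`; `r` of order 3 (class 3A) centralises `z,a,b,s` and maps `v ↦ w ↦ v w`;
`s` of order 3 centralises `v,w,r` and maps `z ↦ a ↦ z a`.
`B = C(V r) ≅ A5` contains `U` and `s`; `F0 = V U`, `F1 = F0 ^ b`, `P0 = F0 F1 ≅ UT3(4)`, `T = P0⟨b⟩` Sylow.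
-/

set_option autoImplicit false

namespace CfsgLib.SJ

open Subgroup Cfsg CfsgLib.Comput

/-- the Hall-Janko group -/
abbrev J : Type := ↥CfsgLib.J2.QG

/-- the element given by a packed word in the letters of `QG` -/
noncomputable def el (x : ℕ) : J := ev (fun m => (⟨CfsgLib.J2.q m, CfsgLib.J2.q_mem m⟩ : J)) x

noncomputable def z : J := el 0x1
noncomputable def a : J := el 0x20302
noncomputable def b : J := el 0x40104
noncomputable def v : J := el 0x3120d08030a
noncomputable def w : J := el 0x20614050f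
noncomputable def r : J := el 0x513
noncomputable def s : J := el 0x90306010d

/-- an element of order 4 of `O₂(C(a)) ∩ P0`, `x1 ^ 2 = a` -/
noncomputable def x1 : J := el 0x3080a03

/-- an outer involution of the Hall-Janko graph centralising `z, a, b`, inverting `r` -/
noncomputable def alN : Net :=
  (Net.cons 1 0x100
  (Net.cons 2 0x100000000000000020000
  (Net.cons 3 0x80000000000
  (Net.cons 4 0x4000000005
  (Net.cons 6 0x8000000000000
  (Net.cons 8 0x8
  (Net.cons 9 0x10000080000100000000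
  (Net.cons 19 0x10000
  (Net.cons 20 0x820000000000000
  (Net.cons 22 0x40000
  (Net.cons 23 0x8000000000000000000
  (Net.cons 24 0x410000002
  (Net.cons 27 0x100000000800000
  (Net.cons 29 0x4000008000000000
  (Net.cons 30 0x1000000000000
  (Net.cons 36 0x200000000
  (Net.cons 42 0xa00001000000
  (Net.cons 43 0x20100000
  (Net.cons 49 0x20
  (Net.cons 52 0x100000000000
  (Net.cons 54 0x1000000000
  (Net.cons 56 0x2000004000
  (Net.cons 58 0x2080
  (Net.cons 59 0x8000
  (Net.cons 62 0x4000000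
  (Net.cons 64 0x80000000
  (Net.cons 65 0x200000
  (Net.cons 71 0x400
  Net.nil))))))))))))))))))))))))))))

/-- class 2A -/
def A2 (u : J) : Prop := ∃ l : J, l * z * l⁻¹ = u
/-- class 2B -/
def B2 (u : J) : Prop := ∃ l : J, l * v * l⁻¹ = u

noncomputable def U : Subgroup J := closure {z, a}
noncomputable def V : Subgroup J := closure {v, w}
noncomputable def F0 : Subgroup J := closure {v, w, z, a}
noncomputable def F1 : Subgroup J := closure {b * v * b, b * w * b, z, a}
noncomputable def P0 : Subgroup J := closure {v, w, b * v * b, b * w * b}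
noncomputable def T : Subgroup J := closure {v, w, b}
noncomputable def C0 : Subgroup J := centralizer {z}
/-- `O₂(C0)`, extraspecial of order 32 -/
noncomputable def Q : Subgroup J := closure {x | ∃ c ∈ C0, x = c * a * c⁻¹}
noncomputable def B : Subgroup J := centralizer {v, w, r}

variable {G : Type*} [Group G]

/-- the frame: `C(t)` acts on `A = ι J`, `C(t) ∩ C(A) = Y × ⟨t⟩`, `t` is not conjugate into `A`, `t ~ t z` -/
structure Fr (ι : J →* G) (t : G) (Y : Subgroup G) : Prop where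
  inj : Function.Injective ι
  sq : t * t = 1
  ne : t ≠ 1
  comm : ∀ l, t * ι l = ι l * t
  yodd : ∀ y ∈ Y, Odd (orderOf y)
  yt : ∀ y ∈ Y, y * t = t * y
  yl : ∀ y ∈ Y, ∀ l, y * ι l = ι l * y
  act : ∀ g, g * t = t * g → ∃ φ : MulAut J, ∀ l, g * ι l * g⁻¹ = ι (φ l)
  ker : ∀ g, g * t = t * g → (∀ l, g * ι l = ι l * g) → g ∈ Y ∨ g * t ∈ Y
  nconj : ∀ g l, g * t * g⁻¹ ≠ ι l
  fus : ∃ g, g * t * g⁻¹ = t * ι z

/-- the system of involutions `κ u`, `u` in 2A -/
structure Kap (ι : J →* G) (t : G) (Y : Subgroup G) (κ : J → G) : Prop where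
  sq : ∀ u, A2 u → κ u * κ u = 1
  act : ∀ u, A2 u → κ u * t * κ u = t * ι u
  cen : ∀ u, A2 u → ∀ c, c * u = u * c → κ u * ι c = ι c * κ u
  cY : ∀ u, A2 u → ∀ y ∈ Y, κ u * y = y * κ u
  eqv : ∀ u, A2 u → ∀ l, ι l * κ u * (ι l)⁻¹ = κ (l * u * l⁻¹)

/-- `κ` is multiplicative on the lines -/
def Lin (κ : J → G) : Prop := ∀ u u', A2 u → A2 u' → u ≠ u' → u * u' = u' * u → κ (u * u') = κ u * κ u'

/-- wreath type commutator relation for pairs with product of order 4 -/
def Sq0 (κ : J → G) : Prop := ∀ u u', A2 u → A2 u' → (u * u') ^ 2 ≠ 1 → (u * u') ^ 4 = 1 →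
  (κ u * κ u') ^ 2 = κ ((u * u') ^ 2)

/-- field type commutator relation for pairs with product of order 4 -/
def Sq1 (ι : J →* G) (κ : J → G) : Prop := ∀ u u', A2 u → A2 u' → (u * u') ^ 2 ≠ 1 → (u * u') ^ 4 = 1 →
  (κ u * κ u') ^ 2 = κ ((u * u') ^ 2) * ι ((u * u') ^ 2)

/-- the wreathed case: `A1 = α J`, `A2 = t A1 t` commute, `ι J` is the diagonal -/
structure Db (ι : J →* G) (t : G) (Y : Subgroup G) (α : J →* G) : Prop where
  diag : ∀ l, α l * (t * α l * t) = ι l
  comm : ∀ l m, α l * (t * α m * t) = t * α m * t * α l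
  cY : ∀ l, ∀ y ∈ Y, α l * y = y * α l

end CfsgLib.SJ
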