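import Mathlib
import Cfsg.Agent.Lib.SJ.Defs

/-! # SJ model package MREL: relations between the named elements.
Every item is an equality/inequality of words in the 21 letters of `CfsgLib.J2.Q.W` (100 points):
`Subtype.ext` + `map_ev` + the word model `WM.perm` / `ev_permG_eq` + `decide +kernel`
(python model of the group: outputs/live/plans/SJ_j2.py). -/

set_option autoImplicit false
set_option linter.unusedSimpArgs false
set_option Elab.async false

namespace CfsgLib.SJ

open Subgroup Cfsg CfsgLib.Comput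

theorem mr_val (l : List ℕ) : (((l.map el).prod : J) : Equiv.Perm (Fin 100)) = evL CfsgLib.J2.q l :=
  map_evL CfsgLib.J2.QG.subtype (fun m => (⟨CfsgLib.J2.q m, CfsgLib.J2.q_mem m⟩ : J)) l

theorem mr_eq (l l' : List ℕ) (h : eqChk (stepT 100 7 CfsgLib.J2.Q.W) (idTab 100 7) (l, l') = true) :
    (l.map el).prod = (l'.map el).prod :=
  Subtype.ext ((mr_val l).trans
    (((WM.perm CfsgLib.J2.Q.W_ok (by decide)).holds h).trans (mr_val l').symm))

theorem mr_ne (l l' : List ℕ) (h : ∃ i < 100, (actL (stepN CfsgLib.J2.Q.W) l 0x9e3779b97f4a7c15f39cc0605).testBit i ≠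
    (actL (stepN CfsgLib.J2.Q.W) l' 0x9e3779b97f4a7c15f39cc0605).testBit i) :
    (l.map el).prod ≠ (l'.map el).prod := fun e => by
  obtain ⟨i, hi, h⟩ := h
  have M := SM.perm CfsgLib.J2.Q.W_ok (by decide)
  have e1 := congrArg Subtype.val e
  rw [mr_val, mr_val] at e1
  refine h (Bool.eq_iff_iff.2 ?_)
  rw [← M.mem_sem hi, ← M.mem_sem hi, M.sem_actL, M.sem_actL, e1]

theorem mr_bi : (el 0x40104)⁻¹ = el 0x40104 := inv_eq_of_mul_eq_one_right (by
  simpa only [List.map_cons, List.map_nil, List.prod_cons, List.prod_nil, mul_one] using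
    mr_eq [0x40104, 0x40104] [] (by decide +kernel))

theorem mr_ri : (el 0x513)⁻¹ = el 0x513 * (el 0x513) := inv_eq_of_mul_eq_one_right (by
  simpa only [List.map_cons, List.map_nil, List.prod_cons, List.prod_nil, mul_one] using
    mr_eq [0x513, 0x513, 0x513] [] (by decide +kernel))

theorem mr_si : (el 0x90306010d)⁻¹ = el 0x90306010d * (el 0x90306010d) := inv_eq_of_mul_eq_one_right (by
  simpa only [List.map_cons, List.map_nil, List.prod_cons, List.prod_nil, mul_one] using
    mr_eq [0x90306010d, 0x90306010d, 0x90306010d] [] (by decide +kernel))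

theorem mr_xi : (el 0x3080a03)⁻¹ = el 0x3080a03 * (el 0x3080a03 * (el 0x3080a03)) := inv_eq_of_mul_eq_one_right (by
  simpa only [List.map_cons, List.map_nil, List.prod_cons, List.prod_nil, mul_one] using
    mr_eq [0x3080a03, 0x3080a03, 0x3080a03, 0x3080a03] [] (by decide +kernel))

theorem zz : z * z = 1 := by
  simpa only [z, a, b, v, w, r, s, x1, List.map_cons, List.map_nil, List.prod_cons, List.prod_nil, mul_one,
    mul_inv_rev, mr_bi, mr_ri, mr_si, mr_xi, pow_succ, pow_zero, one_mul, mul_assoc] using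
    mr_eq [0x1, 0x1] [] (by decide +kernel)
theorem aa : a * a = 1 := by
  simpa only [z, a, b, v, w, r, s, x1, List.map_cons, List.map_nil, List.prod_cons, List.prod_nil, mul_one,
    mul_inv_rev, mr_bi, mr_ri, mr_si, mr_xi, pow_succ, pow_zero, one_mul, mul_assoc] using
    mr_eq [0x20302, 0x20302] [] (by decide +kernel)
theorem bb : b * b = 1 := by
  simpa only [z, a, b, v, w, r, s, x1, List.map_cons, List.map_nil, List.prod_cons, List.prod_nil, mul_one,
    mul_inv_rev, mr_bi, mr_ri, mr_si, mr_xi, pow_succ, pow_zero, one_mul, mul_assoc] using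
    mr_eq [0x40104, 0x40104] [] (by decide +kernel)
theorem vv : v * v = 1 := by
  simpa only [z, a, b, v, w, r, s, x1, List.map_cons, List.map_nil, List.prod_cons, List.prod_nil, mul_one,
    mul_inv_rev, mr_bi, mr_ri, mr_si, mr_xi, pow_succ, pow_zero, one_mul, mul_assoc] using
    mr_eq [0x3120d08030a, 0x3120d08030a] [] (by decide +kernel)
theorem ww : w * w = 1 := by
  simpa only [z, a, b, v, w, r, s, x1, List.map_cons, List.map_nil, List.prod_cons, List.prod_nil, mul_one,
    mul_inv_rev, mr_bi, mr_ri, mr_si, mr_xi, pow_succ, pow_zero, one_mul, mul_assoc] using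
    mr_eq [0x20614050f, 0x20614050f] [] (by decide +kernel)
theorem r3 : r ^ 3 = 1 := by
  simpa only [z, a, b, v, w, r, s, x1, List.map_cons, List.map_nil, List.prod_cons, List.prod_nil, mul_one,
    mul_inv_rev, mr_bi, mr_ri, mr_si, mr_xi, pow_succ, pow_zero, one_mul, mul_assoc] using
    mr_eq [0x513, 0x513, 0x513] [] (by decide +kernel)
theorem s3 : s ^ 3 = 1 := by
  simpa only [z, a, b, v, w, r, s, x1, List.map_cons, List.map_nil, List.prod_cons, List.prod_nil, mul_one,
    mul_inv_rev, mr_bi, mr_ri, mr_si, mr_xi, pow_succ, pow_zero, one_mul, mul_assoc] using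
    mr_eq [0x90306010d, 0x90306010d, 0x90306010d] [] (by decide +kernel)
theorem z_ne : z ≠ 1 := by
  simpa only [z, a, b, v, w, r, s, x1, List.map_cons, List.map_nil, List.prod_cons, List.prod_nil, mul_one] using
    mr_ne [0x1] [] (by decide +kernel)
theorem a_ne : a ≠ 1 := by
  simpa only [z, a, b, v, w, r, s, x1, List.map_cons, List.map_nil, List.prod_cons, List.prod_nil, mul_one] using
    mr_ne [0x20302] [] (by decide +kernel)
theorem a_ne_z : a ≠ z := by
  simpa only [z, a, b, v, w, r, s, x1, List.map_cons, List.map_nil, List.prod_cons, List.prod_nil, mul_one] using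
    mr_ne [0x20302] [0x1] (by decide +kernel)
theorem v_ne : v ≠ 1 := by
  simpa only [z, a, b, v, w, r, s, x1, List.map_cons, List.map_nil, List.prod_cons, List.prod_nil, mul_one] using
    mr_ne [0x3120d08030a] [] (by decide +kernel)
theorem w_ne : w ≠ 1 := by
  simpa only [z, a, b, v, w, r, s, x1, List.map_cons, List.map_nil, List.prod_cons, List.prod_nil, mul_one] using
    mr_ne [0x20614050f] [] (by decide +kernel)
theorem w_ne_v : w ≠ v := by
  simpa only [z, a, b, v, w, r, s, x1, List.map_cons, List.map_nil, List.prod_cons, List.prod_nil, mul_one] using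
    mr_ne [0x20614050f] [0x3120d08030a] (by decide +kernel)
theorem r_ne : r ≠ 1 := by
  simpa only [z, a, b, v, w, r, s, x1, List.map_cons, List.map_nil, List.prod_cons, List.prod_nil, mul_one] using
    mr_ne [0x513] [] (by decide +kernel)
theorem za : z * a = a * z := by
  simpa only [z, a, b, v, w, r, s, x1, List.map_cons, List.map_nil, List.prod_cons, List.prod_nil, mul_one,
    mul_inv_rev, mr_bi, mr_ri, mr_si, mr_xi, pow_succ, pow_zero, one_mul, mul_assoc] using
    mr_eq [0x1, 0x20302] [0x20302, 0x1] (by decide +kernel)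
theorem zb : z * b = b * z := by
  simpa only [z, a, b, v, w, r, s, x1, List.map_cons, List.map_nil, List.prod_cons, List.prod_nil, mul_one,
    mul_inv_rev, mr_bi, mr_ri, mr_si, mr_xi, pow_succ, pow_zero, one_mul, mul_assoc] using
    mr_eq [0x1, 0x40104] [0x40104, 0x1] (by decide +kernel)
theorem abab : a * b * a * b = z := by
  simpa only [z, a, b, v, w, r, s, x1, List.map_cons, List.map_nil, List.prod_cons, List.prod_nil, mul_one,
    mul_inv_rev, mr_bi, mr_ri, mr_si, mr_xi, pow_succ, pow_zero, one_mul, mul_assoc] using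
    mr_eq [0x20302, 0x40104, 0x20302, 0x40104] [0x1] (by decide +kernel)
theorem vw : v * w = w * v := by
  simpa only [z, a, b, v, w, r, s, x1, List.map_cons, List.map_nil, List.prod_cons, List.prod_nil, mul_one,
    mul_inv_rev, mr_bi, mr_ri, mr_si, mr_xi, pow_succ, pow_zero, one_mul, mul_assoc] using
    mr_eq [0x3120d08030a, 0x20614050f] [0x20614050f, 0x3120d08030a] (by decide +kernel)
theorem vz : v * z = z * v := by
  simpa only [z, a, b, v, w, r, s, x1, List.map_cons, List.map_nil, List.prod_cons, List.prod_nil, mul_one,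
    mul_inv_rev, mr_bi, mr_ri, mr_si, mr_xi, pow_succ, pow_zero, one_mul, mul_assoc] using
    mr_eq [0x3120d08030a, 0x1] [0x1, 0x3120d08030a] (by decide +kernel)
theorem va : v * a = a * v := by
  simpa only [z, a, b, v, w, r, s, x1, List.map_cons, List.map_nil, List.prod_cons, List.prod_nil, mul_one,
    mul_inv_rev, mr_bi, mr_ri, mr_si, mr_xi, pow_succ, pow_zero, one_mul, mul_assoc] using
    mr_eq [0x3120d08030a, 0x20302] [0x20302, 0x3120d08030a] (by decide +kernel)
theorem wz : w * z = z * w := by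
  simpa only [z, a, b, v, w, r, s, x1, List.map_cons, List.map_nil, List.prod_cons, List.prod_nil, mul_one,
    mul_inv_rev, mr_bi, mr_ri, mr_si, mr_xi, pow_succ, pow_zero, one_mul, mul_assoc] using
    mr_eq [0x20614050f, 0x1] [0x1, 0x20614050f] (by decide +kernel)
theorem wa : w * a = a * w := by
  simpa only [z, a, b, v, w, r, s, x1, List.map_cons, List.map_nil, List.prod_cons, List.prod_nil, mul_one,
    mul_inv_rev, mr_bi, mr_ri, mr_si, mr_xi, pow_succ, pow_zero, one_mul, mul_assoc] using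
    mr_eq [0x20614050f, 0x20302] [0x20302, 0x20614050f] (by decide +kernel)
theorem rz : r * z = z * r := by
  simpa only [z, a, b, v, w, r, s, x1, List.map_cons, List.map_nil, List.prod_cons, List.prod_nil, mul_one,
    mul_inv_rev, mr_bi, mr_ri, mr_si, mr_xi, pow_succ, pow_zero, one_mul, mul_assoc] using
    mr_eq [0x513, 0x1] [0x1, 0x513] (by decide +kernel)
theorem ra : r * a = a * r := by
  simpa only [z, a, b, v, w, r, s, x1, List.map_cons, List.map_nil, List.prod_cons, List.prod_nil, mul_one,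
    mul_inv_rev, mr_bi, mr_ri, mr_si, mr_xi, pow_succ, pow_zero, one_mul, mul_assoc] using
    mr_eq [0x513, 0x20302] [0x20302, 0x513] (by decide +kernel)
theorem rb : r * b = b * r := by
  simpa only [z, a, b, v, w, r, s, x1, List.map_cons, List.map_nil, List.prod_cons, List.prod_nil, mul_one,
    mul_inv_rev, mr_bi, mr_ri, mr_si, mr_xi, pow_succ, pow_zero, one_mul, mul_assoc] using
    mr_eq [0x513, 0x40104] [0x40104, 0x513] (by decide +kernel)
theorem rs : r * s = s * r := by
  simpa only [z, a, b, v, w, r, s, x1, List.map_cons, List.map_nil, List.prod_cons, List.prod_nil, mul_one,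
    mul_inv_rev, mr_bi, mr_ri, mr_si, mr_xi, pow_succ, pow_zero, one_mul, mul_assoc] using
    mr_eq [0x513, 0x90306010d] [0x90306010d, 0x513] (by decide +kernel)
theorem rv : r * v * r⁻¹ = w := by
  simpa only [z, a, b, v, w, r, s, x1, List.map_cons, List.map_nil, List.prod_cons, List.prod_nil, mul_one,
    mul_inv_rev, mr_bi, mr_ri, mr_si, mr_xi, pow_succ, pow_zero, one_mul, mul_assoc] using
    mr_eq [0x513, 0x3120d08030a, 0x513, 0x513] [0x20614050f] (by decide +kernel)
theorem rw : r * w * r⁻¹ = v * w := by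
  simpa only [z, a, b, v, w, r, s, x1, List.map_cons, List.map_nil, List.prod_cons, List.prod_nil, mul_one,
    mul_inv_rev, mr_bi, mr_ri, mr_si, mr_xi, pow_succ, pow_zero, one_mul, mul_assoc] using
    mr_eq [0x513, 0x20614050f, 0x513, 0x513] [0x3120d08030a, 0x20614050f] (by decide +kernel)
theorem sv : s * v = v * s := by
  simpa only [z, a, b, v, w, r, s, x1, List.map_cons, List.map_nil, List.prod_cons, List.prod_nil, mul_one,
    mul_inv_rev, mr_bi, mr_ri, mr_si, mr_xi, pow_succ, pow_zero, one_mul, mul_assoc] using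
    mr_eq [0x90306010d, 0x3120d08030a] [0x3120d08030a, 0x90306010d] (by decide +kernel)
theorem sw : s * w = w * s := by
  simpa only [z, a, b, v, w, r, s, x1, List.map_cons, List.map_nil, List.prod_cons, List.prod_nil, mul_one,
    mul_inv_rev, mr_bi, mr_ri, mr_si, mr_xi, pow_succ, pow_zero, one_mul, mul_assoc] using
    mr_eq [0x90306010d, 0x20614050f] [0x20614050f, 0x90306010d] (by decide +kernel)
theorem sz : s * z * s⁻¹ = a := by
  simpa only [z, a, b, v, w, r, s, x1, List.map_cons, List.map_nil, List.prod_cons, List.prod_nil, mul_one,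
    mul_inv_rev, mr_bi, mr_ri, mr_si, mr_xi, pow_succ, pow_zero, one_mul, mul_assoc] using
    mr_eq [0x90306010d, 0x1, 0x90306010d, 0x90306010d] [0x20302] (by decide +kernel)
theorem sa : s * a * s⁻¹ = z * a := by
  simpa only [z, a, b, v, w, r, s, x1, List.map_cons, List.map_nil, List.prod_cons, List.prod_nil, mul_one,
    mul_inv_rev, mr_bi, mr_ri, mr_si, mr_xi, pow_succ, pow_zero, one_mul, mul_assoc] using
    mr_eq [0x90306010d, 0x20302, 0x90306010d, 0x90306010d] [0x1, 0x20302] (by decide +kernel)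
/-- word 0x4 -/
theorem A2_b : A2 b := ⟨el 0x4, mul_inv_eq_of_eq_mul (by
  simpa only [z, a, b, v, w, r, s, x1, List.map_cons, List.map_nil, List.prod_cons, List.prod_nil, mul_one] using mr_eq [0x4, 0x1] [0x40104, 0x4] (by decide +kernel))⟩
/-- word 0x20103 -/
theorem swap : ∃ l : J, l * z * l⁻¹ = a ∧ l * a * l⁻¹ = z := ⟨el 0x20103, mul_inv_eq_of_eq_mul (by
  simpa only [z, a, b, v, w, r, s, x1, List.map_cons, List.map_nil, List.prod_cons, List.prod_nil, mul_one] using mr_eq [0x20103, 0x1] [0x20302, 0x20103] (by decide +kernel)), mul_inv_eq_of_eq_mul (by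
  simpa only [z, a, b, v, w, r, s, x1, List.map_cons, List.map_nil, List.prod_cons, List.prod_nil, mul_one] using mr_eq [0x20103, 0x20302] [0x1, 0x20103] (by decide +kernel))⟩
theorem x1_sq : x1 * x1 = a := by
  simpa only [z, a, b, v, w, r, s, x1, List.map_cons, List.map_nil, List.prod_cons, List.prod_nil, mul_one,
    mul_inv_rev, mr_bi, mr_ri, mr_si, mr_xi, pow_succ, pow_zero, one_mul, mul_assoc] using
    mr_eq [0x3080a03, 0x3080a03] [0x20302] (by decide +kernel)
theorem x1z : x1 * z = z * x1 := by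
  simpa only [z, a, b, v, w, r, s, x1, List.map_cons, List.map_nil, List.prod_cons, List.prod_nil, mul_one,
    mul_inv_rev, mr_bi, mr_ri, mr_si, mr_xi, pow_succ, pow_zero, one_mul, mul_assoc] using
    mr_eq [0x3080a03, 0x1] [0x1, 0x3080a03] (by decide +kernel)
/-- `x0 = b * (x1 b x1⁻¹)` -/
theorem x0_sq : (b * (x1 * b * x1⁻¹)) ^ 2 = z := by
  simpa only [z, a, b, v, w, r, s, x1, List.map_cons, List.map_nil, List.prod_cons, List.prod_nil, mul_one,
    mul_inv_rev, mr_bi, mr_ri, mr_si, mr_xi, pow_succ, pow_zero, one_mul, mul_assoc] using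
    mr_eq [0x40104, 0x3080a03, 0x40104, 0x3080a03, 0x3080a03, 0x3080a03, 0x40104, 0x3080a03, 0x40104, 0x3080a03, 0x3080a03, 0x3080a03] [0x1] (by decide +kernel)
theorem x0a : b * (x1 * b * x1⁻¹) * a = a * (b * (x1 * b * x1⁻¹)) := by
  simpa only [z, a, b, v, w, r, s, x1, List.map_cons, List.map_nil, List.prod_cons, List.prod_nil, mul_one,
    mul_inv_rev, mr_bi, mr_ri, mr_si, mr_xi, pow_succ, pow_zero, one_mul, mul_assoc] using
    mr_eq [0x40104, 0x3080a03, 0x40104, 0x3080a03, 0x3080a03, 0x3080a03, 0x20302] [0x20302, 0x40104, 0x3080a03, 0x40104, 0x3080a03, 0x3080a03, 0x3080a03] (by decide +kernel)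
theorem x0x1 : b * (x1 * b * x1⁻¹) * x1 = x1 * (b * (x1 * b * x1⁻¹)) := by
  simpa only [z, a, b, v, w, r, s, x1, List.map_cons, List.map_nil, List.prod_cons, List.prod_nil, mul_one,
    mul_inv_rev, mr_bi, mr_ri, mr_si, mr_xi, pow_succ, pow_zero, one_mul, mul_assoc] using
    mr_eq [0x40104, 0x3080a03, 0x40104, 0x3080a03, 0x3080a03, 0x3080a03, 0x3080a03] [0x3080a03, 0x40104, 0x3080a03, 0x40104, 0x3080a03, 0x3080a03, 0x3080a03] (by decide +kernel)
/-- with `b1 = s b s⁻¹`: `b1 * (x0 b1 x0⁻¹) = x1` -/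
theorem y1_eq : s * b * s⁻¹ * (b * (x1 * b * x1⁻¹) * (s * b * s⁻¹) * (b * (x1 * b * x1⁻¹))⁻¹) = x1 := by
  simpa only [z, a, b, v, w, r, s, x1, List.map_cons, List.map_nil, List.prod_cons, List.prod_nil, mul_one,
    mul_inv_rev, mr_bi, mr_ri, mr_si, mr_xi, pow_succ, pow_zero, one_mul, mul_assoc] using
    mr_eq [0x90306010d, 0x40104, 0x90306010d, 0x90306010d, 0x40104, 0x3080a03, 0x40104, 0x3080a03, 0x3080a03, 0x3080a03, 0x90306010d, 0x40104, 0x90306010d, 0x90306010d, 0x3080a03, 0x3080a03, 0x3080a03, 0x3080a03, 0x3080a03, 0x3080a03, 0x3080a03, 0x3080a03, 0x3080a03, 0x40104, 0x3080a03, 0x3080a03, 0x3080a03, 0x40104] [0x3080a03] (by decide +kernel)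
/-- with `b2 = s⁻¹ b s`: `x0 b2 x0⁻¹ = x1 b2 x1⁻¹` -/
theorem y2_eq : b * (x1 * b * x1⁻¹) * (s⁻¹ * b * s) * (b * (x1 * b * x1⁻¹))⁻¹ = x1 * (s⁻¹ * b * s) * x1⁻¹ := by
  simpa only [z, a, b, v, w, r, s, x1, List.map_cons, List.map_nil, List.prod_cons, List.prod_nil, mul_one,
    mul_inv_rev, mr_bi, mr_ri, mr_si, mr_xi, pow_succ, pow_zero, one_mul, mul_assoc] using
    mr_eq [0x40104, 0x3080a03, 0x40104, 0x3080a03, 0x3080a03, 0x3080a03, 0x90306010d, 0x90306010d, 0x40104, 0x90306010d, 0x3080a03, 0x3080a03, 0x3080a03, 0x3080a03, 0x3080a03, 0x3080a03, 0x3080a03, 0x3080a03, 0x3080a03, 0x40104, 0x3080a03, 0x3080a03, 0x3080a03, 0x40104] [0x3080a03, 0x90306010d, 0x90306010d, 0x40104, 0x90306010d, 0x3080a03, 0x3080a03, 0x3080a03] (by decide +kernel)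
/-- `x0 * x1 * (b2 * x1 b2 x1⁻¹) = 1` -/
theorem y3_eq : b * (x1 * b * x1⁻¹) * x1 * (s⁻¹ * b * s * (x1 * (s⁻¹ * b * s) * x1⁻¹)) = 1 := by
  simpa only [z, a, b, v, w, r, s, x1, List.map_cons, List.map_nil, List.prod_cons, List.prod_nil, mul_one,
    mul_inv_rev, mr_bi, mr_ri, mr_si, mr_xi, pow_succ, pow_zero, one_mul, mul_assoc] using
    mr_eq [0x40104, 0x3080a03, 0x40104, 0x3080a03, 0x3080a03, 0x3080a03, 0x3080a03, 0x90306010d, 0x90306010d, 0x40104, 0x90306010d, 0x3080a03, 0x90306010d, 0x90306010d, 0x40104, 0x90306010d, 0x3080a03, 0x3080a03, 0x3080a03] [] (by decide +kernel)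

end CfsgLib.SJ
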