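import Mathlib
import Cfsg.Agent.Lib.SJ.Defs
import Cfsg.Agent.Lib.SJ.MRel
import Cfsg.Agent.Lib.SJ.MCard
import Cfsg.Agent.S2066

/-! # SJ model package MAL: the outer automorphism `al` (conjugation by `netPerm 100 alN`), `Aut J = J.2`.
Images of the four generators (letters 0..3): words 0x1, 0x612030513, 0x60909, 0x4.  Not inner: it fixes `z, a`
and inverts `r`, but an element of `C(U) = P0⟨r⟩` centralises `r` modulo `P0` (or as in MultC `OM.two_le`).
`aut`: S2066 (`|Out| = 2`) transported along `CfsgLib.J2.isoQ`. -/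

set_option autoImplicit false
set_option linter.unusedSimpArgs false
set_option maxRecDepth 100000
set_option Elab.async false

namespace CfsgLib.SJ

open Subgroup Cfsg CfsgLib.Comput

theorem mal_ok : alN.ok 100 = true := by decide +kernel

theorem mal_norm (l l' : List ℕ) (h : CfsgLib.MultC.normOK 100 7 CfsgLib.J2.Q.W alN l l' = true) :
    netPerm 100 alN * evL CfsgLib.J2.q l = evL CfsgLib.J2.q l' * netPerm 100 alN := by
  have h0 := acts_permG (n := 100) CfsgLib.J2.Q.W_ok
  have h1 := acts_netPerm (Net.ok_sound mal_ok)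
  have h2 := (actL_rel (TabSt.step h0 (idTab 100 7)) l (TabSt.one 100 7 (finPt 100) (idTab 100 7))).app h1
  have h3 := actL_rel (TabSt.step h0 (idTab 100 7)) l' ((TabSt.one 100 7 (finPt 100) (idTab 100 7)).app h1)
  rw [Nat.eq_of_beq_eq_true h] at h2
  have h4 := perm_eq_one_of_fix _ (TabSt.smul_eq (lab_idTab (by norm_num)) h2 h3)
  rw [mul_inv_eq_one, mul_one, mul_one] at h4
  exact h4.symm

theorem mal_sq : netPerm 100 alN * netPerm 100 alN = 1 := by
  have h1 := acts_netPerm (Net.ok_sound mal_ok)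
  have h2 := ((TabSt.one (G := Equiv.Perm (Fin 100)) 100 7 (finPt 100) (idTab 100 7)).app h1).app h1
  have e : Nat.beq ((alN.widen (ones 100 7)).app ((alN.widen (ones 100 7)).app (idTab 100 7)))
      (idTab 100 7) = true := by decide +kernel
  rw [Nat.eq_of_beq_eq_true e] at h2
  have h4 := perm_eq_one_of_fix _ (TabSt.smul_eq (lab_idTab (by norm_num))
    (TabSt.one 100 7 (finPt 100) (idTab 100 7)) h2)
  simpa using h4

theorem mal_conj (l l' : List ℕ) (h : CfsgLib.MultC.normOK 100 7 CfsgLib.J2.Q.W alN l l' = true) :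
    netPerm 100 alN * evL CfsgLib.J2.q l * netPerm 100 alN = evL CfsgLib.J2.q l' := by
  rw [mal_norm l l' h, mul_assoc, mal_sq, mul_one]

theorem mal_mem {x : Equiv.Perm (Fin 100)} (hx : x ∈ CfsgLib.J2.QG) :
    netPerm 100 alN * x * netPerm 100 alN ∈ CfsgLib.J2.QG := by
  have k : ∀ w w', CfsgLib.MultC.normOK 100 7 CfsgLib.J2.Q.W alN [w] [w'] = true →
      ev CfsgLib.J2.q w ∈ CfsgLib.J2.QG.comap (MulAut.conj (netPerm 100 alN)).toMonoidHom := fun w w' h => by
    have h1 := mal_conj _ _ h
    rw [evL_one, evL_one] at h1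
    change netPerm 100 alN * _ * (netPerm 100 alN)⁻¹ ∈ CfsgLib.J2.QG
    rw [inv_eq_of_mul_eq_one_right mal_sq, h1]
    exact ev_mem_of_all CfsgLib.J2.q_mem _
  have h : CfsgLib.J2.QG ≤ CfsgLib.J2.QG.comap (MulAut.conj (netPerm 100 alN)).toMonoidHom :=
    cl_le.2 (List.forall_mem_cons.2 ⟨k 1 0x1 (by decide +kernel), List.forall_mem_cons.2
      ⟨k 2 0x612030513 (by decide +kernel), List.forall_mem_cons.2 ⟨k 3 0x60909 (by decide +kernel),
        List.forall_mem_cons.2 ⟨k 4 0x4 (by decide +kernel), List.forall_mem_nil _⟩⟩⟩⟩)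
  have h2 : netPerm 100 alN * x * (netPerm 100 alN)⁻¹ ∈ CfsgLib.J2.QG := h hx
  rwa [inv_eq_of_mul_eq_one_right mal_sq] at h2

theorem mal_inv (x : Equiv.Perm (Fin 100)) :
    netPerm 100 alN * (netPerm 100 alN * x * netPerm 100 alN) * netPerm 100 alN = x := by
  rw [← mul_assoc, ← mul_assoc, mal_sq, one_mul, mul_assoc, mal_sq, mul_one]

noncomputable def al : MulAut J where
  toFun l := ⟨netPerm 100 alN * l * netPerm 100 alN, mal_mem l.2⟩
  invFun l := ⟨netPerm 100 alN * l * netPerm 100 alN, mal_mem l.2⟩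
  left_inv l := Subtype.ext (mal_inv l)
  right_inv l := Subtype.ext (mal_inv l)
  map_mul' x y := Subtype.ext (by
    change _ * (x.1 * y.1) * _ = _ * x.1 * _ * (_ * y.1 * _)
    generalize x.1 = x, y.1 = y
    have h := mal_sq
    generalize netPerm 100 alN = c at h ⊢
    calc c * (x * y) * c = c * x * (c * c) * y * c := by rw [h]; group
      _ = _ := by group)

theorem al_coe (l : J) : ((al l : J) : Equiv.Perm (Fin 100)) = netPerm 100 alN * l * netPerm 100 alN := rfl
theorem al_al (l : J) : al (al l) = l := Subtype.ext (mal_inv l)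

/-- the images of words under `al` -/
theorem mal_eq (l l' : List ℕ) (h : CfsgLib.MultC.normOK 100 7 CfsgLib.J2.Q.W alN l l' = true) :
    al (l.map el).prod = (l'.map el).prod :=
  Subtype.ext (by rw [al_coe, mr_val, mr_val, mal_conj l l' h])

theorem al_z : al z = z := by
  simpa only [z, List.map_cons, List.map_nil, List.prod_cons, List.prod_nil, mul_one] using
    mal_eq [0x1] [0x1] (by decide +kernel)
theorem al_a : al a = a := by
  simpa only [a, List.map_cons, List.map_nil, List.prod_cons, List.prod_nil, mul_one] using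
    mal_eq [0x20302] [0x20302] (by decide +kernel)
theorem al_b : al b = b := by
  simpa only [b, List.map_cons, List.map_nil, List.prod_cons, List.prod_nil, mul_one] using
    mal_eq [0x40104] [0x40104] (by decide +kernel)
theorem al_r : al r = r⁻¹ := by
  simpa only [r, mr_ri, List.map_cons, List.map_nil, List.prod_cons, List.prod_nil, mul_one] using
    mal_eq [0x513] [0x513, 0x513] (by decide +kernel)
theorem al_v : al v = b * v * b := by
  simpa only [v, b, mul_assoc, List.map_cons, List.map_nil, List.prod_cons, List.prod_nil, mul_one] using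
    mal_eq [0x3120d08030a] [0x40104, 0x3120d08030a, 0x40104] (by decide +kernel)
theorem al_w : al w = b * (v * w) * b := by
  simpa only [v, w, b, mul_assoc, List.map_cons, List.map_nil, List.prod_cons, List.prod_nil, mul_one] using
    mal_eq [0x20614050f] [0x40104, 0x3120d08030a, 0x20614050f, 0x40104] (by decide +kernel)
theorem al_s : al s = el 0x904020f15 := by
  simpa only [s, List.map_cons, List.map_nil, List.prod_cons, List.prod_nil, mul_one] using
    mal_eq [0x90306010d] [0x904020f15] (by decide +kernel)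

theorem al_out (l : J) : ¬ ∀ x, al x = l * x * l⁻¹ := fun h => by
  have h1 : l * z = z * l := mul_inv_eq_iff_eq_mul.1 ((h z).symm.trans al_z)
  have h2 : l * a = a * l := mul_inv_eq_iff_eq_mul.1 ((h a).symm.trans al_a)
  have h3 : l * r * l⁻¹ = r⁻¹ := (h r).symm.trans al_r
  have k : ∀ p ∈ P0, p * r * p⁻¹ ≠ r⁻¹ := fun p hp e => r_not (by
    have k1 := mul_mem hp (r_norm (inv_mem hp))
    have k2 : p * (r * p⁻¹ * r⁻¹) = r := by
      calc p * (r * p⁻¹ * r⁻¹) = p * r * p⁻¹ * r⁻¹ := by group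
        _ = (r ^ 3)⁻¹ * r := by rw [e]; group
        _ = r := by rw [r3, inv_one, one_mul]
    rwa [k2] at k1)
  rcases CU h1 h2 with e | e | e <;> exact k _ e (Eq.trans (by group) h3)

theorem aut (φ : MulAut J) : (∃ l : J, ∀ x, φ x = l * x * l⁻¹) ∨ ∃ l : J, ∀ x, φ x = l * al x * l⁻¹ := by
  have hc : Nat.card (Cfsg.Out J) = 2 :=
    (CfsgLib.MultC.card_out_congr CfsgLib.J2.isoQ).symm.trans Cfsg.Agent.S2066.result
  obtain ⟨y, -, hy⟩ := (Nat.card_eq_two_iff' (1 : Cfsg.Out J)).1 hc
  by_cases h : (φ : Cfsg.Out J) = 1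
  · obtain ⟨l, hl⟩ := (QuotientGroup.eq_one_iff _).1 h
    exact Or.inl ⟨l, fun x => by rw [← hl]; rfl⟩
  have h1 : (al : Cfsg.Out J) ≠ 1 := fun e => by
    obtain ⟨l, hl⟩ := (QuotientGroup.eq_one_iff _).1 e
    exact al_out l fun x => by rw [← hl]; rfl
  obtain ⟨l, hl⟩ := QuotientGroup.eq.1 ((hy _ h1).trans (hy _ h).symm)
  refine Or.inr ⟨al l, fun x => ?_⟩
  have h2 : φ = al * MulAut.conj l := by rw [show MulAut.conj l = al⁻¹ * φ from hl, mul_inv_cancel_left]
  rw [h2, MulAut.mul_apply, MulAut.conj_apply, map_mul, map_mul, map_inv]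

end CfsgLib.SJ
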