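import Mathlib
import Cfsg.Agent.Lib.SJ.Defs
import Cfsg.Agent.Lib.QT3.KJ2A
import Cfsg.Agent.Lib.QT3.KJ2B
import Cfsg.Agent.Lib.HJC.J2
import Cfsg.Agent.Lib.HJC.Basic

/-! # SJ model package MCLS: the two classes of involutions of `J`, `C(v)`, generation of `C0`.
`T` (order 128) is a Sylow 2-subgroup: list its involutions with conjugating words to `z` or `v`.
`|C(v)| = 240`: class of 2520 elements or `C(v) = (V × B).2`.  `C0 = ⟨y, r, a⟩` with `y = el 0x208041113`. -/

set_option autoImplicit false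
set_option maxRecDepth 100000

namespace CfsgLib.SJ

open Subgroup Cfsg CfsgLib.Comput

namespace MCls

open CfsgLib.J2 CfsgLib.QT3.J2O

/-- the letters -/
noncomputable def gJ (m : ℕ) : J := ⟨q m, q_mem m⟩

theorem MJ : SM gJ 100 (finPt 100) (stepN Q.W) := ⟨Q.M.inj, Q.M.small, Q.M.img⟩

theorem eqL {l l' : List ℕ} (h : eqChk (stepT 100 7 Q.W) (idTab 100 7) (l, l') = true) :
    evL gJ l = evL gJ l' := Subtype.ext ((map_evL QG.subtype gJ l).trans
  (((WM.perm Q.W_ok (k := 7) (by norm_num)).holds h).trans (map_evL QG.subtype gJ l').symm))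

theorem cm {x y : ℕ} (h : eqChk (stepT 100 7 Q.W) (idTab 100 7) ([x, y], [y, x]) = true) :
    el x * el y = el y * el x := (evL_two _ _ _).symm.trans ((eqL h).trans (evL_two _ _ _))

theorem sq {x : ℕ} (h : eqChk (stepT 100 7 Q.W) (idTab 100 7) ([x, x], []) = true) :
    el x * el x = 1 := (evL_two _ _ _).symm.trans (eqL h)

theorem z2 : z * z = 1 := sq (by decide +kernel)
theorem v2 : v * v = 1 := sq (by decide +kernel)

theorem z1 : z ≠ 1 := fun e => JT.ne_of_chk MJ (l := [0x1]) (l' := []) 1 (by decide +kernel)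
  ((evL_one _ _).trans e)

theorem nc : ¬ IsConj z v := fun h => by
  obtain ⟨l, e⟩ := isConj_iff.1 h
  have h1 : z • finPt 100 0 = finPt 100 0 :=
    MJ.smul_pt (w := 0x1) (by norm_num) (by norm_num) (by decide +kernel)
  have h2 : ∀ i < 100, v • finPt 100 i ≠ finPt 100 i := fun i hi => MJ.smul_pt_ne (w := 0x3120d08030a) hi
    (by simpa using allLt_sound (p := fun i => !tb (act (stepN Q.W) 0x3120d08030a (1 <<< i)) i)
          (by decide +kernel) i hi)
  refine h2 _ (l • finPt 100 0).2 ?_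
  rw [finPt_coe, ← e, mul_smul, mul_smul, inv_smul_smul, h1]

theorem v1 : v ≠ 1 := fun e => JT.ne_of_chk MJ (l := [0x3120d08030a]) (l' := []) 0 (by decide +kernel)
  ((evL_one _ _).trans e)

theorem facts : (∀ u : J, u * u = 1 → u ≠ 1 → IsConj z u ∨ IsConj v u) ∧
    Nat.card (centralizer {v} : Subgroup J) = 240 ∧ Nat.card C0 = 1920 ∧
    ∀ l, (∀ c ∈ C0, l * c = c * l) → l = 1 ∨ l = z := by
  obtain ⟨Q, q, u, n, y, r, A⟩ := HJC.amal_J2 (isoQ.symm.trans J2.iso)
  generalize (isoQ.symm.trans J2.iso).symm _ = z0 at A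
  obtain ⟨R, h2, h5, h3, -, -, ⟨i⟩, h4⟩ := HJC.shape A
  have kb : ∀ d, d * d = 1 → d ≠ 1 → ¬ IsConj z0 d → IsConj u d ∧ ∃ φ ψ, KB z0 d φ ψ :=
    fun d hd d1 h1 => by
      have h2 := (A.invol_conj hd d1).resolve_left h1
      obtain ⟨_, _, H⟩ := JT.exists_hyp A fun h => h1 (h.trans h2)
      exact ⟨h2, exists_kb H h2⟩
  have cz : IsConj z0 z := by_contra fun h => by
    obtain ⟨-, φ, ψ, k⟩ := kb z z2 z1 h
    exact k.not_sq (a * b) (by
      simpa [evL, mul_assoc] using! eqL (l := [0x20302, 0x40104, 0x20302, 0x40104]) (l' := [0x1])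
        (by decide +kernel))
  obtain ⟨c1, φ, ψ, k⟩ := kb v v2 v1 fun h => nc (cz.symm.trans h)
  obtain ⟨g, hg⟩ := isConj_iff.1 cz
  have cen : ∀ l, (∀ c ∈ centralizer {z0}, l * c = c * l) → l ∈ R.map (centralizer {z0}).subtype ∧
      ∃ x : center R, x.1.1.1 = l := fun l hl => by
    have m : l ∈ centralizer {z0} :=
      mem_centralizer_singleton_iff.2 (hl z0 (mem_centralizer_singleton_iff.2 rfl))
    have m' : (⟨l, m⟩ : centralizer {z0}) ∈ R := h4 fun c _ => Subtype.ext (hl c c.2).symm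
    exact ⟨⟨_, m', rfl⟩, ⟨⟨_, m'⟩, mem_center_iff.2 fun c => Subtype.ext (Subtype.ext (hl _ c.1.2).symm)⟩, rfl⟩
  refine ⟨fun x hx x1 => (A.invol_conj hx x1).imp cz.symm.trans c1.symm.trans, k.cen.1, ?_, fun l hl => ?_⟩
  · rw [← HJ.card_cent R h3 i (by rw [nat_card_alternatingGroup, Nat.card_fin]; rfl), C0, ← hg,
      ← Tech.cj_centralizer_singleton, Tech.card_cj]
  · obtain ⟨-, x, hx⟩ := cen (g⁻¹ * l * g) fun c hc => by
      have := hl (g * c * g⁻¹) (by rw [C0, ← hg, ← Tech.cj_centralizer_singleton]; exact Tech.conj_mem_cj.2 hc)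
      calc _ = g⁻¹ * (l * (g * c * g⁻¹)) * g := by group
        _ = _ := by rw [this]; group
    obtain ⟨-, x0, hx0⟩ := cen z0 fun c hc => (mem_centralizer_singleton_iff.1 hc).symm
    obtain ⟨w, -, hw⟩ := (Nat.card_eq_two_iff' (1 : center R)).1 h5.2
    refine or_iff_not_imp_left.2 fun l1 => ?_
    have e1 : x = x0 := (hw x fun e => l1 (by simpa [e, mul_eq_one_iff_eq_inv] using hx.symm)).trans
      (hw x0 fun e => z1 (by rw [← hg, ← hx0, e]; simp)).symm
    rw [← hg, ← hx0, ← e1, hx]; group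

theorem memC {x : ℕ} (h : eqChk (stepT 100 7 Q.W) (idTab 100 7) ([x, 0x1], [0x1, x]) = true) : el x ∈ C0 :=
  mem_centralizer_singleton_iff.2 (cm h)

/-- four involutions generating `C0` -/
def us : List ℕ := [0x3120d08030a, 0x20614050f, 0x40104, 0x2040a15]

theorem C0_le {H : Subgroup J} (h1 : H ≤ C0) (h : ∀ x ∈ us, el x ∈ H) : C0 ≤ H :=
  (eq_of_le_of_card_ge h1 (facts.2.2.1.trans_le (le_trans (by decide +kernel)
    (lbVal_le (MJ.words us) (ev_nth_mem h) [(1, 4, [0x1, 0x2, 0x3, 0x4]),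
      (2, 3, [0x40304, 0x102030103, 0x203010203, 0x1040104010204])])))).ge

theorem com {x c d : ℕ} (h : band (band (eqChk (stepT 100 7 Q.W) (idTab 100 7) ([c, 0x1], [0x1, c]))
    (eqChk (stepT 100 7 Q.W) (idTab 100 7) ([d, 0x1], [0x1, d])))
    (eqChk (stepT 100 7 Q.W) (idTab 100 7) ([c, d], [x, d, c])) = true) : el x ∈ ⁅C0, C0⁆ := by
  simp only [band_eq_true] at h
  have e : el c * el d = el x * el d * el c := (evL_two _ _ _).symm.trans ((eqL h.2).trans (evL_three ..))
  have := commutator_mem_commutator (memC h.1.1) (memC h.1.2)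
  rwa [commutatorElement_def, e, mul_inv_cancel_right, mul_inv_cancel_right] at this

theorem memB {x : ℕ} (h : allL (fun y => eqChk (stepT 100 7 Q.W) (idTab 100 7) ([y, x], [x, y]))
    [0x3120d08030a, 0x20614050f, 0x513] = true) : el x ∈ B := by
  rintro y (rfl | rfl | rfl) <;> exact cm (allL_sound h _ (by simp))

theorem notB {l : List ℕ} (h : band (Nat.ble (Nat.succ 0) 100) (Nat.beq (Nat.land
    (actL (stepN Q.W) (0x513 :: l) (Nat.shiftLeft 1 0)) (actL (stepN Q.W) (l ++ [0x513]) (Nat.shiftLeft 1 0))) 0) =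
      true) : evL gJ l ∉ B := fun e => JT.ne_of_chk MJ 0 h (by
  rw [evL_cons, evL_append, evL_one]; exact e r (by simp))

end MCls

open MCls

theorem cls {u : J} (h : u * u = 1) : u = 1 ∨ A2 u ∨ B2 u :=
  or_iff_not_imp_left.2 fun h1 => (facts.1 u h h1).imp isConj_iff.1 isConj_iff.1

theorem card_Cv : Nat.card (centralizer {v} : Subgroup J) = 240 := facts.2.1

theorem card_B : Nat.card B = 60 := by
  have l : B ≤ centralizer {v} := centralizer_le (by simp)
  have h1 : 60 ≤ Nat.card B := le_trans (by decide +kernel)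
    (lbVal_le (MJ.words [0x90306010d, 0x2031102]) (ev_nth_mem (by
      simp only [List.forall_mem_cons]
      exact ⟨memB (by decide +kernel), memB (by decide +kernel), by simp⟩))
      [(2, 4, [0x1, 0x2]), (1, 2, [0x1020201, 0x2010102])])
  have h2 := Tech.card_mul_relIndex' l
  have h3 : 3 ∣ Nat.card B := by
    have : orderOf s = 3 := orderOf_eq_prime
      ((evL_replicate gJ _ 3).symm.trans (eqL (l' := []) (by decide +kernel))) fun e =>
        JT.ne_of_chk MJ (l := [0x90306010d]) (l' := []) 0 (by decide +kernel) ((evL_one _ _).trans e)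
    exact this ▸ B.orderOf_dvd_natCard (memB (by decide +kernel))
  have n1 : v ∉ B := fun e => notB (l := [0x3120d08030a]) (by decide +kernel) ((evL_one gJ _).symm ▸ e)
  have n2 : w ∉ B := fun e => notB (l := [0x20614050f]) (by decide +kernel) ((evL_one gJ _).symm ▸ e)
  have n3 : v * w ∉ B := evL_two gJ _ _ ▸ notB (l := [0x3120d08030a, 0x20614050f]) (by decide +kernel)
  have m1 : v ∈ centralizer {v} := mem_centralizer_singleton_iff.2 rfl
  have m2 : w ∈ centralizer {v} := mem_centralizer_singleton_iff.2 (cm (by decide +kernel))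
  have h4 : B.relIndex (centralizer {v}) ≠ 1 := fun e => n1 (relIndex_eq_one.1 e m1)
  have h5 : B.relIndex (centralizer {v}) ≠ 2 := fun e =>
    n3 ((mul_mem_iff_of_index_two e (a := ⟨v, m1⟩) (b := ⟨w, m2⟩)).2 (iff_of_false n1 n2))
  rw [card_Cv] at h2
  generalize B.relIndex (centralizer {v}) = k at *
  have : k ≤ 4 := by nlinarith
  interval_cases k <;> omega

theorem C0_perf : ⁅C0, C0⁆ = C0 :=
  have l : ⁅C0, C0⁆ ≤ C0 := commutator_le.2 fun _ h _ h' =>
    mul_mem (mul_mem (mul_mem h h') (inv_mem h)) (inv_mem h')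
  le_antisymm l (C0_le l (by
    simp only [us, List.forall_mem_cons]
    exact ⟨com (c := 0x513) (d := 0x20614050f) (by decide +kernel),
      com (c := 0x612) (d := 0x201150a0f) (by decide +kernel),
      com (c := 0x2050e) (d := 0x209051509) (by decide +kernel),
      com (c := 0xa0d1412) (d := 0xd031505) (by decide +kernel), by simp⟩))

theorem C0_gen : C0 ≤ closure {c | c ∈ C0 ∧ c * c = 1} :=
  C0_le ((closure_le _).2 fun _ h => h.1) fun x hx => subset_closure
    ⟨memC (allL_sound (p := fun x => eqChk (stepT 100 7 J2.Q.W) (idTab 100 7) ([x, 0x1], [0x1, x]))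
      (by decide +kernel) x hx), sq (allL_sound (p := fun x => eqChk (stepT 100 7 J2.Q.W) (idTab 100 7)
        ([x, x], [])) (by decide +kernel) x hx)⟩

theorem J_gen : closure {u : J | A2 u} = ⊤ := by
  have e : {u : J | A2 u} = Group.conjugatesOfSet {z} := Set.ext fun u => by
    simp [A2, Group.mem_conjugatesOfSet_iff, isConj_iff]
  rw [e]
  exact (normalClosure_normal (s := {z})).eq_bot_or_eq_top.resolve_left fun h =>
    z1 (mem_bot.1 (h ▸ subset_normalClosure rfl))

theorem J_cen (l : J) (h : ∀ x, l * x = x * l) : l = 1 :=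
  QT3.J2O.conj_inj (MulEquiv.ext fun x => by rw [map_one, MulAut.conj_apply, h, mul_inv_cancel_right]; rfl)

theorem C0_cen {l : J} (h : ∀ c ∈ C0, l * c = c * l) : l = 1 ∨ l = z := facts.2.2.2 l h

end CfsgLib.SJ
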