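import Mathlib
import Cfsg.Agent.Lib.SJ.Defs
import Cfsg.Agent.Lib.SJ.MRel
import Cfsg.Agent.Lib.SJ.MCard
import Cfsg.Agent.Lib.SJ.MCls
import Cfsg.Agent.Lib.SJ.MAl

/-! # SJ package MAUT: centralisers in `Aut J`.
By `aut` an automorphism fixing `z, a` is `x ↦ l x l⁻¹` or `l (al x) l⁻¹` with `l ∈ C(U) = P0⟨r⟩` (`CU`); all such act on
`P0/U`; `r^{±1}` and `r^i al` act non-trivially on `P0/U` and on `(Q ∩ P0)/U` (finite check on `v`, resp. on `x0`,
`r x0 r⁻¹`; `P0` acts trivially modulo `U` by `P0_comm`), so `l ∈ P0` and `φ` is inner.  For `cl`: `l ∈ P0` commuting with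
`x0` and `r x0 r⁻¹` lies in `U` (64 cases). `A2_aut`: `al z = z`. -/

set_option autoImplicit false

namespace CfsgLib.SJ

open Subgroup Cfsg CfsgLib.Comput

theorem out2 (φ ψ : MulAut J) (hφ : ¬ ∃ l : J, ∀ x, φ x = l * x * l⁻¹) (hψ : ¬ ∃ l : J, ∀ x, ψ x = l * x * l⁻¹) :
    ∃ l : J, ∀ x, φ (ψ x) = l * x * l⁻¹ := by
  obtain ⟨l, hl⟩ := (aut φ).resolve_left hφ
  obtain ⟨m, hm⟩ := (aut ψ).resolve_left hψ
  refine ⟨l * al m, fun x => ?_⟩
  rw [hm, hl, map_mul, map_mul, map_inv, al_al]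
  group

theorem A2_aut (φ : MulAut J) {u : J} (hu : A2 u) : A2 (φ u) := by
  obtain ⟨l, rfl⟩ := hu
  obtain ⟨m, hm⟩ : A2 (φ z) := by
    rcases aut φ with ⟨m, hm⟩ | ⟨m, hm⟩
    · exact ⟨m, (hm z).symm⟩
    · exact ⟨m, by rw [hm, al_z]⟩
  exact ⟨φ l * m, by rw [map_mul, map_mul, map_inv, ← hm]; group⟩

theorem not_A2_B2 {u : J} (h : A2 u) (h' : B2 u) : False := by
  obtain ⟨l, hl⟩ := h
  obtain ⟨m, hm⟩ := h'
  have e : (m⁻¹ * l) * z * (m⁻¹ * l)⁻¹ = v := by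
    calc _ = m⁻¹ * (l * z * l⁻¹) * m := by group
      _ = v := by rw [hl, ← hm]; group
  have h1 : (centralizer {v} : Subgroup J) = C0.map (MulAut.conj (m⁻¹ * l)).toMonoidHom := by
    ext x
    rw [mem_map_equiv, C0, mem_centralizer_singleton_iff, mem_centralizer_singleton_iff, ← e,
      MulAut.conj_symm_apply]
    generalize m⁻¹ * l = g
    constructor
    · intro k
      calc g⁻¹ * x * g * z = g⁻¹ * (x * (g * z * g⁻¹)) * g := by group
        _ = _ := by rw [k]; group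
    · intro k
      calc x * (g * z * g⁻¹) = g * (g⁻¹ * x * g * z) * g⁻¹ := by group
        _ = _ := by rw [k]; group
  have h2 := card_Cv
  rw [h1, card_map_of_injective (MulAut.conj (m⁻¹ * l)).injective, card_C0] at h2
  omega

theorem B2_aut (φ : MulAut J) {u : J} (hu : B2 u) : B2 (φ u) := by
  obtain ⟨l, rfl⟩ := hu
  obtain ⟨m, hm⟩ : B2 (φ v) := by
    rcases cls (u := φ v) (by rw [← map_mul, vv, map_one]) with h | h | h
    · exact absurd ((map_eq_one_iff φ φ.injective).1 h) v_ne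
    · have h1 := A2_aut φ⁻¹ h
      rw [MulAut.inv_apply_self] at h1
      exact (not_A2_B2 h1 ⟨1, by group⟩).elim
    · exact h
  exact ⟨φ l * m, by rw [map_mul, map_mul, map_inv, ← hm]; group⟩

/-! ### words -/

/-- products of words -/
noncomputable def mautW (l : List ℕ) : J := evL (fun m => (⟨CfsgLib.J2.q m, CfsgLib.J2.q_mem m⟩ : J)) l

theorem mautW_append (l l' : List ℕ) : mautW (l ++ l') = mautW l * mautW l' := evL_append _ _ _

theorem mautW_eq {l l' : List ℕ} (h : eqChk (stepT 100 7 CfsgLib.J2.Q.W) (idTab 100 7) (l, l') = true) :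
    mautW l = mautW l' := by
  apply CfsgLib.J2.QG.subtype_injective
  rw [mautW, mautW, map_evL, map_evL]
  exact (WM.perm CfsgLib.J2.Q.W_ok (by norm_num)).holds h

/-- the generators of `P0` -/
def mautG : Fin 4 → List ℕ :=
  ![[0x3120d08030a], [0x20614050f], [0x40104, 0x3120d08030a, 0x40104], [0x40104, 0x20614050f, 0x40104]]
/-- the elements of `U` -/
def mautU : Fin 4 → List ℕ := ![[], [0x1], [0x20302], [0x1, 0x20302]]
/-- representatives of `P0 / U` -/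
def mautR (k : Fin 16) : List ℕ :=
  (if k.val % 2 = 1 then mautG 0 else []) ++ (if k.val / 2 % 2 = 1 then mautG 1 else []) ++
    (if k.val / 4 % 2 = 1 then mautG 2 else []) ++ (if k.val / 8 % 2 = 1 then mautG 3 else [])
def mautX : List ℕ := [0x40104, 0x3080a03, 0x40104, 0x3080a03, 0x20302]
def mautY : List ℕ := [0x513] ++ mautX ++ [0x513, 0x513]

theorem maut_step : ∀ (k : Fin 16) (g : Fin 4), ∃ j : Fin 4,
    eqChk (stepT 100 7 CfsgLib.J2.Q.W) (idTab 100 7)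
      (mautR k ++ mautG g, mautR (Fin.ofNat 16 (Nat.xor k.val (2 ^ g.val))) ++ mautU j) = true := by
  decide +kernel

theorem maut_cen : ∀ k : Fin 16, k ≠ 0 → ∃ j : Fin 4, j ≠ 0 ∧
    (eqChk (stepT 100 7 CfsgLib.J2.Q.W) (idTab 100 7) (mautR k ++ mautX, mautX ++ mautR k ++ mautU j) = true ∨
      eqChk (stepT 100 7 CfsgLib.J2.Q.W) (idTab 100 7) (mautR k ++ mautY, mautY ++ mautR k ++ mautU j) = true) := by
  decide +kernel

theorem maut_v : eqChk (stepT 100 7 CfsgLib.J2.Q.W) (idTab 100 7)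
      (mautG 0 ++ mautX, mautX ++ mautG 0 ++ mautU 1) = true ∧
    eqChk (stepT 100 7 CfsgLib.J2.Q.W) (idTab 100 7) (mautG 0 ++ mautY, mautY ++ mautG 0 ++ mautU 2) = true := by
  decide +kernel

theorem mautW_cons (x : ℕ) (l : List ℕ) : mautW (x :: l) = el x * mautW l := evL_cons _ _ _
theorem mautW_nil : mautW [] = 1 := evL_nil _

theorem maut_G : mautW (mautG 0) = v ∧ mautW (mautG 1) = w ∧ mautW (mautG 2) = b * v * b ∧
    mautW (mautG 3) = b * w * b := by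
  refine ⟨?_, ?_, ?_, ?_⟩ <;>
    simp only [mautG, Matrix.cons_val_zero, Matrix.cons_val_one, Matrix.cons_val, mautW_cons, mautW_nil, mul_one,
      mul_assoc] <;> rfl

theorem maut_U : mautW (mautU 0) = 1 ∧ mautW (mautU 1) = z ∧ mautW (mautU 2) = a ∧ mautW (mautU 3) = z * a := by
  refine ⟨?_, ?_, ?_, ?_⟩ <;>
    simp only [mautU, Matrix.cons_val_zero, Matrix.cons_val_one, Matrix.cons_val, mautW_cons, mautW_nil,
      mul_one] <;> rfl

theorem maut_U_mem (j : Fin 4) : mautW (mautU j) ∈ U := by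
  obtain ⟨h0, h1, h2, h3⟩ := maut_U
  rw [mem_U]
  fin_cases j
  exacts [Or.inl h0, Or.inr (Or.inl h1), Or.inr (Or.inr (Or.inl h2)), Or.inr (Or.inr (Or.inr h3))]

theorem maut_U_ne {j : Fin 4} (hj : j ≠ 0) : mautW (mautU j) ≠ 1 := by
  obtain ⟨h0, h1, h2, h3⟩ := maut_U
  fin_cases j
  · exact absurd rfl hj
  · exact fun e => z_ne (h1.symm.trans e)
  · exact fun e => a_ne (h2.symm.trans e)
  · exact fun e => a_ne_z (mul_left_cancel (a := z) ((h3.symm.trans e).trans zz.symm))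

theorem maut_rinv : r⁻¹ = r * r := inv_eq_of_mul_eq_one_right (by rw [← r3, pow_three])

theorem maut_X : mautW mautX = b * (x1 * b * x1⁻¹) := by
  have e : x1⁻¹ = x1 * a := inv_eq_of_mul_eq_one_right (by rw [← mul_assoc, x1_sq, aa])
  rw [e]
  simp only [mautX, mautW_cons, mautW_nil, mul_one, mul_assoc]
  rfl

theorem maut_Y : mautW mautY = r * (b * (x1 * b * x1⁻¹)) * r⁻¹ := by
  rw [mautY, mautW_append, mautW_append, maut_X, maut_rinv]
  simp only [mautW_cons, mautW_nil, mul_one]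
  rfl

theorem maut_cU {l u : J} (h1 : l * z = z * l) (h2 : l * a = a * l) (hu : u ∈ U) : l * u = u * l := by
  rcases mem_U.1 hu with rfl | rfl | rfl | rfl
  · rw [mul_one, one_mul]
  · exact h1
  · exact h2
  · rw [← mul_assoc, h1, mul_assoc, h2, mul_assoc]

theorem maut_PU {p u : J} (hp : p ∈ P0) (hu : u ∈ U) : p * u = u * p := maut_cU (P0_cent hp).1 (P0_cent hp).2 hu

theorem maut_nf {p : J} (hp : p ∈ P0) : ∃ k, ∃ u ∈ U, p = mautW (mautR k) * u := by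
  obtain ⟨g0, g1, g2, g3⟩ := maut_G
  have key : ∀ y ∈ ({v, w, b * v * b, b * w * b} : Set J), ∀ x, (∃ k, ∃ u ∈ U, x = mautW (mautR k) * u) →
      ∃ k, ∃ u ∈ U, x * y = mautW (mautR k) * u := by
    rintro y hy x ⟨k, u, hu, rfl⟩
    obtain ⟨g, hg⟩ : ∃ g, mautW (mautG g) = y := by
      rcases hy with rfl | rfl | rfl | rfl
      exacts [⟨0, g0⟩, ⟨1, g1⟩, ⟨2, g2⟩, ⟨3, g3⟩]
    obtain ⟨j, hj⟩ := maut_step k g
    have e := mautW_eq hj
    rw [mautW_append, mautW_append, hg] at e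
    exact ⟨_, _, mul_mem (maut_U_mem j) hu, by
      rw [mul_assoc, ← maut_PU (subset_closure hy) hu, ← mul_assoc, e, mul_assoc]⟩
  have inv : ∀ y ∈ ({v, w, b * v * b, b * w * b} : Set J), y⁻¹ = y := by
    have k : ∀ y : J, y * y = 1 → (b * y * b)⁻¹ = b * y * b := fun y hy => by
      rw [mul_inv_rev, mul_inv_rev, inv_eq_of_mul_eq_one_right bb, inv_eq_of_mul_eq_one_right hy, mul_assoc]
    rintro y (rfl | rfl | rfl | rfl)
    exacts [inv_eq_of_mul_eq_one_right vv, inv_eq_of_mul_eq_one_right ww, k v vv, k w ww]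
  induction hp using closure_induction_right with
  | one => exact ⟨0, 1, one_mem _, by rw [mul_one]; exact mautW_nil.symm⟩
  | mul_right x _ y hy ih => exact key y hy x ih
  | mul_inv_cancel x _ y hy ih => rw [inv y hy]; exact key y hy x ih

theorem maut_cP {p : J} (hp : p ∈ P0) (h0 : p * mautW mautX = mautW mautX * p)
    (h1 : p * mautW mautY = mautW mautY * p) : p ∈ U := by
  obtain ⟨k, u, hu, rfl⟩ := maut_nf hp
  by_cases hk : k = 0
  · subst hk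
    have : mautW (mautR 0) = 1 := mautW_nil
    rwa [this, one_mul]
  have key : ∀ (x : J) (j : Fin 4), x ∈ P0 → j ≠ 0 → mautW (mautR k) * u * x = x * (mautW (mautR k) * u) →
      mautW (mautR k) * x ≠ x * mautW (mautR k) * mautW (mautU j) := fun x j hx hj e e' => by
    rw [mul_assoc, ← maut_PU hx hu, ← mul_assoc, ← mul_assoc, mul_left_inj] at e
    exact maut_U_ne hj (mul_left_cancel (a := x * mautW (mautR k)) (by rw [← e', e, mul_one]))
  obtain ⟨j, hj, e | e⟩ := maut_cen k hk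
  · have e' := mautW_eq e
    rw [mautW_append, mautW_append, mautW_append] at e'
    exact (key _ j (maut_X ▸ x0_mem_P0) hj h0 e').elim
  · have e' := mautW_eq e
    rw [mautW_append, mautW_append, mautW_append] at e'
    exact (key _ j (maut_Y ▸ r_norm x0_mem_P0) hj h1 e').elim

/-- `r` moves `x0` modulo `U` -/
theorem maut_XY {u : J} (hu : u ∈ U) : mautW mautY ≠ mautW mautX * u := fun e => by
  have e1 := mautW_eq maut_v.1
  have e2 := mautW_eq maut_v.2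
  simp only [mautW_append, maut_G.1, maut_U.2.1, maut_U.2.2.1, e] at e1 e2
  have hv : v * u = u * v := maut_cU vz va hu
  have hz : z * u = u * z := maut_cU rfl za hu
  rw [← mul_assoc, e1] at e2
  refine a_ne_z (mul_left_cancel (a := mautW mautX * u * v) ?_)
  rw [← e2, mul_assoc _ z, hz, mul_assoc _ u v, ← hv]
  group

theorem maut_conj {p x : J} (hp : p ∈ P0) (hx : x ∈ P0) : ∃ u ∈ U, p * x * p⁻¹ = x * u :=
  ⟨_, P0_comm hp hx, by rw [maut_PU hx (P0_comm hp hx)]; group⟩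

theorem maut_main (φ : MulAut J) (hz : φ z = z) (ha : φ a = a)
    (h0 : (b * (x1 * b * x1⁻¹))⁻¹ * φ (b * (x1 * b * x1⁻¹)) ∈ U)
    (h1 : (r * (b * (x1 * b * x1⁻¹)) * r⁻¹)⁻¹ * φ (r * (b * (x1 * b * x1⁻¹)) * r⁻¹) ∈ U) :
    ∃ y ∈ P0, ∀ x, φ x = y * x * y⁻¹ := by
  have hX := x0_mem_P0
  have hXY : ∀ u ∈ U, r * (b * (x1 * b * x1⁻¹)) * r⁻¹ ≠ b * (x1 * b * x1⁻¹) * u := fun u hu => by
    rw [← maut_Y, ← maut_X]
    exact maut_XY hu
  generalize b * (x1 * b * x1⁻¹) = X at h0 h1 hX hXY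
  have hY := r_norm hX
  have ri : ∀ p ∈ P0, r⁻¹ * p * r ∈ P0 := fun p hp => by
    have := r_norm (r_norm hp)
    rwa [show r * (r * p * r⁻¹) * r⁻¹ = (r * r) * p * (r * r)⁻¹ by group, ← maut_rinv, inv_inv] at this
  obtain ⟨u0, hu0, e0⟩ : ∃ u ∈ U, φ X = X * u := ⟨_, h0, by group⟩
  obtain ⟨u1, hu1, e1⟩ : ∃ u ∈ U, φ (r * X * r⁻¹) = r * X * r⁻¹ * u := ⟨_, h1, by group⟩
  rcases aut φ with ⟨l, hl⟩ | ⟨l, hl⟩
  · rcases CU (l := l) (mul_inv_eq_iff_eq_mul.1 ((hl z).symm.trans hz))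
      (mul_inv_eq_iff_eq_mul.1 ((hl a).symm.trans ha)) with h | h | h
    · exact ⟨l, h, hl⟩
    · obtain ⟨u, hu, e⟩ := maut_conj h hY
      refine (hXY (u0 * u⁻¹) (mul_mem hu0 (inv_mem hu)) ?_).elim
      rw [← mul_assoc, ← e0, hl, eq_mul_inv_iff_mul_eq, ← e]
      group
    · obtain ⟨u, hu, e⟩ := maut_conj h hX
      refine (hXY (u * u1⁻¹) (mul_mem hu (inv_mem hu1)) ?_).elim
      rw [← mul_assoc, ← e, eq_mul_inv_iff_mul_eq, ← e1, hl]
      group
  · exfalso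
    obtain ⟨p, hp, e⟩ : ∃ p ∈ P0, l * r⁻¹ * l⁻¹ = p * r⁻¹ * p⁻¹ := by
      have k1 := (hl z).symm.trans hz
      have k2 := (hl a).symm.trans ha
      rw [al_z] at k1
      rw [al_a] at k2
      rcases CU (l := l) (mul_inv_eq_iff_eq_mul.1 k1) (mul_inv_eq_iff_eq_mul.1 k2) with h | h | h
      exacts [⟨l, h, rfl⟩, ⟨_, h, by group⟩, ⟨_, h, by group⟩]
    obtain ⟨y, hy, e2⟩ : ∃ y ∈ P0, φ r = y * r⁻¹ :=
      ⟨_, mul_mem hp (ri _ (inv_mem hp)), by rw [hl, al_r, e]; group⟩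
    obtain ⟨u, hu, e3⟩ := maut_conj hy (ri _ hX)
    have e4 : r * X * r⁻¹ * u1 = r⁻¹ * X * r * (u * u0) := by
      rw [← e1, map_mul, map_mul, map_inv, e2, e0, ← mul_assoc _ u, ← e3]
      calc _ = y * (r⁻¹ * X * (u0 * r)) * y⁻¹ := by group
        _ = y * (r⁻¹ * X * r) * (u0 * y⁻¹) := by rw [← maut_cU rz ra hu0]; group
        _ = _ := by rw [← maut_PU (inv_mem hy) hu0]; group
    refine hXY (u1 * (u * u0)⁻¹) (mul_mem hu1 (inv_mem (mul_mem hu hu0))) ?_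
    rw [← mul_assoc, eq_mul_inv_iff_mul_eq]
    calc r * X * r⁻¹ * (u * u0) = (r * r)⁻¹ * X * (r * r) * (u * u0) := by rw [← maut_rinv, inv_inv]
      _ = r⁻¹ * r⁻¹ * X * r * (r * (u * u0)) := by group
      _ = r⁻¹ * (r⁻¹ * X * r * (u * u0)) * r := by rw [maut_cU rz ra (mul_mem hu hu0)]; group
      _ = X * r⁻¹ * (u1 * r) := by rw [← e4]; group
      _ = X * u1 := by rw [← maut_cU rz ra hu1]; group

/-- `C_Aut(Q ∩ P0) = U`; `Q ∩ P0 = ⟨a, x0, r x0 r⁻¹⟩` -/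
theorem cl (φ : MulAut J) (hz : φ z = z) (ha : φ a = a) (h0 : φ (b * (x1 * b * x1⁻¹)) = b * (x1 * b * x1⁻¹))
    (h1 : φ (r * (b * (x1 * b * x1⁻¹)) * r⁻¹) = r * (b * (x1 * b * x1⁻¹)) * r⁻¹) :
    ∃ u ∈ U, ∀ x, φ x = u * x * u⁻¹ := by
  obtain ⟨y, hy, h⟩ := maut_main φ hz ha (by rw [h0, inv_mul_cancel]; exact one_mem _)
    (by rw [h1, inv_mul_cancel]; exact one_mem _)
  refine ⟨y, maut_cP hy ?_ ?_, h⟩
  · rw [maut_X]
    exact mul_inv_eq_iff_eq_mul.1 ((h _).symm.trans h0)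
  · rw [maut_Y]
    exact mul_inv_eq_iff_eq_mul.1 ((h _).symm.trans h1)

/-- an automorphism trivial on `U` and on `P0/U` is induced by `P0` -/
theorem fi (φ : MulAut J) (hz : φ z = z) (ha : φ a = a) (h : ∀ p ∈ P0, p⁻¹ * φ p ∈ U) :
    ∃ y ∈ P0, ∀ x, φ x = y * x * y⁻¹ :=
  maut_main φ hz ha (h _ x0_mem_P0) (h _ (r_norm x0_mem_P0))

/-- `C_Aut(P0) = U` -/
theorem cP0 (φ : MulAut J) (h : ∀ p ∈ P0, φ p = p) : ∃ u ∈ U, ∀ x, φ x = u * x * u⁻¹ :=
  cl φ (h _ z_mem_P0) (h _ a_mem_P0) (h _ x0_mem_P0) (h _ (r_norm x0_mem_P0))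

/-- `C_Aut(C0) = ⟨z⟩` -/
theorem cC0 (φ : MulAut J) (h : ∀ c ∈ C0, φ c = c) : (∀ x, φ x = x) ∨ ∀ x, φ x = z * x * z := by
  obtain ⟨u, -, hu⟩ := cP0 φ fun p hp => h p (mem_centralizer_singleton_iff.2 (P0_cent hp).1)
  rcases C0_cen (l := u) fun c hc => mul_inv_eq_iff_eq_mul.1 ((hu c).symm.trans (h c hc)) with e | e
  · exact Or.inl fun x => by rw [hu, e]; group
  · exact Or.inr fun x => by rw [hu, e, inv_eq_of_mul_eq_one_right zz]

end CfsgLib.SJ
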