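import Mathlib
import Cfsg.Agent.Lib.SJ.Defs
import Cfsg.Agent.Lib.SJ.MRel
import Cfsg.Agent.Lib.SJ.MCard
import Cfsg.Agent.Lib.SJ.MCls
import Cfsg.Agent.Lib.SJ.MOrb
import Cfsg.Agent.Lib.SJ.MAut

/-! # SJ package K0: basic lemmas on the frame -/

set_option autoImplicit false

namespace CfsgLib.SJ

open Subgroup Cfsg

variable {G : Type*} [Group G] {ι : J →* G} {t : G} {Y : Subgroup G} {κ : J → G}

theorem A2_z : A2 z := ⟨1, by simp⟩
theorem A2_a : A2 a := by obtain ⟨l, h, -⟩ := swap; exact ⟨l, h⟩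
theorem A2.conj {u : J} (h : A2 u) (l : J) : A2 (l * u * l⁻¹) := by
  obtain ⟨m, rfl⟩ := h; exact ⟨l * m, by group⟩
theorem A2.sq {u : J} (h : A2 u) : u * u = 1 := by
  obtain ⟨m, rfl⟩ := h
  calc _ = m * (z * z) * m⁻¹ := by group
    _ = 1 := by rw [zz]; group
theorem A2.ne {u : J} (h : A2 u) : u ≠ 1 := by
  obtain ⟨m, rfl⟩ := h
  intro e
  exact z_ne (by calc z = m⁻¹ * (m * z * m⁻¹) * m := by group
    _ = 1 := by rw [e]; group)
theorem A2_za : A2 (z * a) := sa ▸ A2_a.conj s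
theorem mem_C0 {c : J} : c ∈ C0 ↔ c * z = z * c := mem_centralizer_singleton_iff
/-- commuting pairs are conjugate to `(z, a)` -/
theorem tr2' {u u' : J} (hu : A2 u) (hu' : A2 u') (h1 : u ≠ u') (h2 : u * u' = u' * u) :
    ∃ l : J, l * z * l⁻¹ = u ∧ l * a * l⁻¹ = u' := by
  obtain ⟨m, rfl⟩ := hu
  have e : A2 (m⁻¹ * u' * m) := by simpa using hu'.conj m⁻¹
  obtain ⟨c, hc, h⟩ := tr2 e (fun h => h1 (by rw [← h]; group)) (by
    calc _ = m⁻¹ * (u' * (m * z * m⁻¹)) * m := by group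
      _ = _ := by rw [← h2]; group)
  refine ⟨m * c, ?_, ?_⟩
  · calc _ = m * (c * z) * c⁻¹ * m⁻¹ := by group
      _ = _ := by rw [mem_C0.1 hc]; group
  · calc _ = m * (c * a * c⁻¹) * m⁻¹ := by group
      _ = _ := by rw [h]; group
theorem A2.mul {u u' : J} (hu : A2 u) (hu' : A2 u') (h1 : u ≠ u') (h2 : u * u' = u' * u) : A2 (u * u') := by
  obtain ⟨l, rfl, rfl⟩ := tr2' hu hu' h1 h2
  have := A2_za.conj l
  rwa [show l * (z * a) * l⁻¹ = l * z * l⁻¹ * (l * a * l⁻¹) by group] at this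

namespace Fr

theorem t_inv (f : Fr ι t Y) : t⁻¹ = t := inv_eq_of_mul_eq_one_right f.sq

theorem y_one (f : Fr ι t Y) {y : G} (hy : y ∈ Y) {k : ℕ} (h : y ^ 2 ^ k = 1) : y = 1 := by
  have h1 := orderOf_dvd_of_pow_eq_one h
  have h2 : (orderOf y).Coprime (2 ^ k) := Nat.Coprime.pow_right _ (Nat.coprime_two_right.2 (f.yodd y hy))
  exact orderOf_eq_one_iff.1 (Nat.Coprime.eq_one_of_dvd h2 h1)

theorem y_sq (f : Fr ι t Y) {y : G} (hy : y ∈ Y) (h : y * y = 1) : y = 1 :=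
  f.y_one hy (k := 1) (by simpa [pow_two] using h)

/-- an element of `C(t)` acting as the inner automorphism given by `l` -/
theorem dec (f : Fr ι t Y) {g : G} (hg : g * t = t * g) {l : J} (h : ∀ x, g * ι x * g⁻¹ = ι (l * x * l⁻¹)) :
    ∃ y ∈ Y, g = ι l * y ∨ g = ι l * y * t := by
  have h1 : (ι l)⁻¹ * g * t = t * ((ι l)⁻¹ * g) := by
    rw [mul_assoc, hg, ← mul_assoc, ← mul_assoc, ← map_inv, f.comm]
  have h2 : ∀ x, (ι l)⁻¹ * g * ι x = ι x * ((ι l)⁻¹ * g) := fun x => by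
    calc _ = (ι l)⁻¹ * (g * ι x * g⁻¹) * g := by group
      _ = _ := by rw [h]; simp only [map_mul, map_inv]; group
  rcases f.ker _ h1 h2 with h3 | h3
  · exact ⟨_, h3, Or.inl (by group)⟩
  · refine ⟨_, h3, Or.inr ?_⟩
    calc g = g * (t * t) := by rw [f.sq, mul_one]
      _ = _ := by group

theorem inj2 (f : Fr ι t Y) {l : J} {y : G} (hy : y ∈ Y) (h : ι l * y = 1) : l = 1 ∧ y = 1 := by
  have e : ι l = y⁻¹ := eq_inv_of_mul_eq_one_left h
  have hl : l = 1 := J_cen l fun x => f.inj (by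
    rw [map_mul, map_mul, e]; exact f.yl _ (Y.inv_mem hy) x)
  subst hl
  exact ⟨rfl, by simpa using h⟩

theorem ne_t (f : Fr ι t Y) (l : J) {y : G} (hy : y ∈ Y) : ι l * y ≠ t := by
  intro h
  have e : ι l = t * y⁻¹ := by rw [← h]; group
  have hl : l = 1 := J_cen l fun x => f.inj (by
    rw [map_mul, map_mul, e, mul_assoc, f.yl _ (Y.inv_mem hy) x, ← mul_assoc, f.comm, mul_assoc])
  subst hl
  rw [map_one, one_mul] at h
  exact f.ne (h ▸ f.y_sq hy (h ▸ f.sq))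

/-- an element of odd order centralising `t` and `ι J` lies in `Y` -/
theorem mem_Y (f : Fr ι t Y) {x : G} (h1 : x * t = t * x) (h2 : ∀ l, x * ι l = ι l * x) (ho : Odd (orderOf x)) :
    x ∈ Y := by
  rcases f.ker x h1 h2 with h | h
  · exact h
  · exfalso
    have c : Commute x t := h1
    have o := f.yodd _ h
    have e : (x * t) ^ (orderOf x * orderOf (x * t)) = 1 := by rw [mul_comm, pow_mul, pow_orderOf_eq_one, one_pow]
    rw [c.mul_pow, pow_mul, pow_orderOf_eq_one, one_pow, one_mul] at e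
    obtain ⟨n, hn⟩ := ho.mul o
    rw [hn, pow_succ, pow_mul, pow_two, f.sq, one_pow, one_mul] at e
    exact f.ne e

theorem normY (f : Fr ι t Y) {g y : G} (hg : g * t = t * g) (hy : y ∈ Y) : g * y * g⁻¹ ∈ Y := by
  have hg' : g⁻¹ * t = t * g⁻¹ := by
    calc _ = g⁻¹ * (t * g) * g⁻¹ := by group
      _ = _ := by rw [← hg]; group
  obtain ⟨φ, hφ⟩ := f.act g⁻¹ hg'
  refine f.mem_Y ?_ (fun l => ?_) ?_
  · calc _ = g * y * (g⁻¹ * t) := by group
      _ = g * (y * t) * g⁻¹ := by rw [hg']; group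
      _ = (g * t) * y * g⁻¹ := by rw [f.yt y hy]; group
      _ = _ := by rw [hg]; group
  · calc _ = g * (y * (g⁻¹ * ι l * g⁻¹⁻¹)) * g⁻¹ := by group
      _ = g * ((g⁻¹ * ι l * g⁻¹⁻¹) * y) * g⁻¹ := by rw [hφ, f.yl y hy]
      _ = _ := by group
  · have : orderOf (g * y * g⁻¹) = orderOf y := (MulAut.conj g).orderOf_eq y
    exact this ▸ f.yodd y hy

/-- an element of `C(t)` centralising `ι P0` -/
theorem decP (f : Fr ι t Y) {g : G} (hg : g * t = t * g) (h : ∀ p ∈ P0, g * ι p = ι p * g) :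
    ∃ u ∈ U, ∃ y ∈ Y, g = ι u * y ∨ g = ι u * y * t := by
  obtain ⟨φ, hφ⟩ := f.act g hg
  obtain ⟨u, hu, e⟩ := cP0 φ fun p hp => f.inj (by rw [← hφ, h p hp]; group)
  exact ⟨u, hu, f.dec hg fun x => by rw [hφ, e]⟩

/-- an element of `C(t)` centralising `ι C0` -/
theorem decC (f : Fr ι t Y) {g : G} (hg : g * t = t * g) (h : ∀ c ∈ C0, g * ι c = ι c * g) :
    ∃ u : J, (u = 1 ∨ u = z) ∧ ∃ y ∈ Y, g = ι u * y ∨ g = ι u * y * t := by
  obtain ⟨φ, hφ⟩ := f.act g hg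
  rcases cC0 φ fun p hp => f.inj (by rw [← hφ, h p hp]; group) with e | e
  · exact ⟨1, Or.inl rfl, f.dec hg fun x => by rw [hφ, e]; simp⟩
  · exact ⟨z, Or.inr rfl, f.dec hg fun x => by rw [hφ, e, inv_eq_of_mul_eq_one_right zz]⟩

/-- `t` does not commute with an element mapping `t` to `t u` -/
theorem not_comm (f : Fr ι t Y) {g : G} {u : J} (hu : u ≠ 1) (h : g * t * g⁻¹ = t * ι u) : g * t ≠ t * g := by
  intro e
  rw [e, mul_inv_cancel_right] at h
  exact hu (f.inj (by rw [map_one]; exact (mul_eq_left.1 h.symm)))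

end Fr

namespace Kap

theorem inv (k : Kap ι t Y κ) {u : J} (hu : A2 u) : (κ u)⁻¹ = κ u := inv_eq_of_mul_eq_one_right (k.sq u hu)

theorem act' (k : Kap ι t Y κ) {u : J} (hu : A2 u) : κ u * t * (κ u)⁻¹ = t * ι u := by rw [k.inv hu, k.act u hu]

theorem self (k : Kap ι t Y κ) {u : J} (hu : A2 u) : κ u * ι u = ι u * κ u := k.cen u hu u rfl

/-- `t κ(u) t = κ(u) u` -/
theorem tconj (k : Kap ι t Y κ) (f : Fr ι t Y) {u : J} (hu : A2 u) : t * κ u * t = κ u * ι u := by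
  calc t * κ u * t = t * (κ u * t * κ u) * (κ u)⁻¹ := by group
    _ = (t * t) * ι u * κ u := by rw [k.act u hu, k.inv hu]; group
    _ = _ := by rw [f.sq, one_mul, k.self hu]

end Kap

end CfsgLib.SJ
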