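import Mathlib
import Cfsg.Agent.Lib.SJ.K0

/-! # SJ package K1A: the fusing element can be chosen to fix `z, a` and to normalise `C0`.
Proof. `g t g⁻¹ = t z` (`fus`). `D = g⁻¹ ι(C0) g ≤ C(t)` (ι C0 centralises `t z`). Step 1: `D ≤ ι J`.
Commutators of `C(t)` act as inner automorphisms (`act`, `out2`: the elements acting inner form a subgroup `I` of index ≤ 2
of `C(t)`), `D` is perfect (`C0_perf`), so `D ≤ I`; an involution of `I` is `ι l * y` or `ι l * y * t` (`Fr.dec`) and `y = 1`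
(`inj2`, `y_sq`), so by `C0_gen` `D ≤ ι J ⊔ ⟨t⟩`, and its commutators lie in `ι J`.
Step 2: `g⁻¹ ι z g = ι z0`, `D = ι D0`, `|D0| = 1920`, `D0 ≤ C(z0)`; `cls` + `card_Cv` (240 < 1920) give `z0 = l z l⁻¹`.
`g1 = g * ι l` maps `t ↦ t z`, fixes `ι z`, `g1⁻¹ ι(C0) g1 ≤ ι C0`, equality by finiteness.
Step 3: `g1 ι a g1⁻¹ = ι a0`, `a0 ∈ C0`, `a0 ≠ z`, the centraliser of `a0` in `C0` has order 192 (`card_CU`), `192 ∤ 240`, so `A2 a0`
and `a0 = c a c⁻¹` (`tr2`); take `(ι c)⁻¹ * g1`. -/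

set_option autoImplicit false

namespace CfsgLib.SJ

open Subgroup Cfsg

variable {G : Type*} [Group G] {ι : J →* G} {t : G} {Y : Subgroup G} {κ : J → G}

open scoped commutatorElement

theorem k1a_out (φ ψ : MulAut J) : ⁅φ, ψ⁆ ∈ Inn J := by
  have k : ∀ {φ : MulAut J}, φ ∈ Inn J ↔ ∃ l : J, ∀ x, φ x = l * x * l⁻¹ :=
    ⟨fun ⟨l, e⟩ => ⟨l, fun x => e ▸ rfl⟩, fun ⟨l, e⟩ => ⟨l, MulEquiv.ext fun x => (e x).symm⟩⟩
  have n : (Inn J).Normal := inferInstance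
  rw [commutatorElement_def]
  by_cases h1 : φ ∈ Inn J
  · simpa only [mul_assoc] using mul_mem h1 (n.conj_mem _ (inv_mem h1) ψ)
  by_cases h2 : ψ ∈ Inn J
  · exact mul_mem (n.conj_mem _ h2 φ) (inv_mem h2)
  rw [mul_assoc]
  exact mul_mem (k.2 (out2 φ ψ (mt k.2 h1) (mt k.2 h2)))
    (k.2 (out2 φ⁻¹ ψ⁻¹ (mt k.2 (mt inv_mem_iff.1 h1)) (mt k.2 (mt inv_mem_iff.1 h2))))

/-- a copy of `C0` inside `C(t)` lies in `ι J` -/
theorem k1a_le (f : Fr ι t Y) (ψ : J →* G) (h : ∀ c ∈ C0, ψ c * t = t * ψ c) : ∀ c ∈ C0, ψ c ∈ ι.range := by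
  choose θ hθ using f.act
  let Θ : centralizer {t} →* MulAut J := MonoidHom.mk'
    (fun x => θ x (mem_centralizer_singleton_iff.1 x.2)) fun x y => MulEquiv.ext fun l => f.inj (by
      rw [MulAut.mul_apply, ← hθ, ← hθ, ← hθ, coe_mul]; group)
  have h1 : C0 ≤ (((Inn J).comap Θ).map (centralizer {t}).subtype).comap ψ := by
    rw [← C0_perf, commutator_le]
    intro c hc d hd
    refine ⟨⁅(⟨ψ c, mem_centralizer_singleton_iff.2 (h c hc)⟩ : centralizer {t}),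
      ⟨ψ d, mem_centralizer_singleton_iff.2 (h d hd)⟩⁆, ?_, by rw [map_commutatorElement, map_commutatorElement]; rfl⟩
    rw [SetLike.mem_coe, mem_comap, map_commutatorElement]
    exact k1a_out _ _
  let η := ι.noncommCoprod (zpowers t).subtype fun l u => by
    obtain ⟨_, k, rfl⟩ := u
    exact (show Commute (ι l) t from (f.comm l).symm).zpow_right k
  have h2 : C0 ≤ η.range.comap ψ := C0_gen.trans ((closure_le _).2 fun c ⟨hc, h2⟩ => by
    obtain ⟨x, ⟨l, hl⟩, e⟩ := h1 hc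
    have e2 : ψ c * ψ c = 1 := by rw [← map_mul, h2, map_one]
    obtain ⟨y, hy, e'⟩ := f.dec (h c hc) (l := l) fun w => by
      rw [← e]; exact (hθ x _ w).trans (congrArg ι (show Θ x w = _ from hl ▸ rfl))
    have y1 : ι (l * l) * (y * y) = 1 → y = 1 := fun k => f.y_sq hy (f.inj2 (mul_mem hy hy) k).2
    rcases e' with e' | e'
    · rw [y1 (by rw [← e2, e', map_mul, mul_assoc, mul_assoc, ← mul_assoc y, f.yl y hy, mul_assoc]), mul_one] at e'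
      exact ⟨(l, 1), (mul_one _).trans e'.symm⟩
    · rw [y1 (by
        calc _ = ι l * (ι l * y) * y * (t * t) := by rw [f.sq, map_mul]; group
          _ = ι l * (y * ι l) * (y * t) * t := by rw [f.yl y hy]; group
          _ = ι l * y * (t * ι l) * y * t := by rw [f.yt y hy, f.comm]; group
          _ = 1 := by rw [← e2, e']; group), mul_one] at e'
      exact ⟨(l, ⟨t, mem_zpowers t⟩), e'.symm⟩)
  refine fun c hc => (show C0 ≤ ι.range.comap ψ from ?_) hc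
  rw [← C0_perf, commutator_le]
  intro c hc d hd
  obtain ⟨⟨l, u⟩, e⟩ := h2 hc
  obtain ⟨⟨l', u'⟩, e'⟩ := h2 hd
  rw [mem_comap, map_commutatorElement, ← e, ← e', ← map_commutatorElement]
  have : ⁅(l, u), (l', u')⁆ = (⁅l, l'⁆, 1) := Prod.ext rfl (commutatorElement_eq_one_iff_mul_comm.2 (by
    obtain ⟨_, k, rfl⟩ := u
    obtain ⟨_, k', rfl⟩ := u'
    exact Subtype.ext (Commute.zpow_zpow_self t k k')))
  exact ⟨⁅l, l'⁆, this ▸ (mul_one _).symm⟩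

theorem k1a_A2 (f : Fr ι t Y) {ψ : J →* G} (hψ : Function.Injective ψ) {K : Subgroup J}
    (hK : ∀ c ∈ K, ψ c ∈ ι.range) {u u₀ : J} (e : ι u₀ = ψ u) (hu : u * u = 1) (h1 : u ≠ 1)
    (hc : ∀ c ∈ K, c * u = u * c) (hd : ¬ Nat.card K ∣ 240) : A2 u₀ := by
  rcases cls (u := u₀) (f.inj (by rw [map_mul, e, ← map_mul, hu, map_one, map_one])) with h | h | ⟨l, h⟩
  · exact absurd (hψ (by rw [← e, h, map_one, map_one])) h1
  · exact h
  refine absurd ?_ hd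
  rw [← card_map_of_injective hψ, ← map_comap_eq_self (f := ι) (H := K.map ψ) (by
    rintro _ ⟨c, hc, rfl⟩; exact hK c hc), card_map_of_injective f.inj,
    ← card_map_of_injective (f := (MulAut.conj l⁻¹).toMonoidHom) (MulAut.conj l⁻¹).injective, ← card_Cv]
  refine card_dvd_of_le ?_
  rintro _ ⟨d, ⟨c, hc', e'⟩, rfl⟩
  have : d * u₀ = u₀ * d := f.inj (by rw [map_mul, map_mul, ← e', e, ← map_mul, hc c hc', map_mul])
  refine mem_centralizer_singleton_iff.2 (show l⁻¹ * d * l⁻¹⁻¹ * v = v * (l⁻¹ * d * l⁻¹⁻¹) from ?_)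
  calc _ = l⁻¹ * (d * (l * v * l⁻¹)) * l := by group
    _ = _ := by rw [h, this, ← h]; group

theorem k1a [Finite G] (f : Fr ι t Y) : ∃ g : G, g * t * g⁻¹ = t * ι z ∧ g * ι z = ι z * g ∧ g * ι a = ι a * g ∧
    ∀ c ∈ C0, ∃ c' ∈ C0, g * ι c * g⁻¹ = ι c' := by
  obtain ⟨g, hg⟩ := f.fus
  have ci : ∀ g : G, Function.Injective ((MulAut.conj g).toMonoidHom.comp ι) := fun g =>
    (MulAut.conj g).injective.comp f.inj
  have h1 := k1a_le f ((MulAut.conj g⁻¹).toMonoidHom.comp ι) fun c hc => by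
    change g⁻¹ * ι c * g⁻¹⁻¹ * t = t * (g⁻¹ * ι c * g⁻¹⁻¹)
    calc _ = g⁻¹ * (ι c * (g * t * g⁻¹)) * g := by group
      _ = g⁻¹ * ((g * t * g⁻¹) * ι c) * g := by
        rw [hg, ← mul_assoc (ι c), ← f.comm, mul_assoc t, mul_assoc t, ← map_mul, ← map_mul, mem_C0.1 hc]
      _ = _ := by group
  have zC : z ∈ C0 := mem_C0.2 rfl
  have aC : a ∈ C0 := mem_C0.2 za.symm
  obtain ⟨z₀, e0⟩ := h1 z zC
  obtain ⟨l, rfl⟩ := k1a_A2 f (ci _) h1 e0 zz z_ne (fun c => mem_C0.1) (by rw [card_C0]; decide)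
  replace e0 : ι l * ι z * (ι l)⁻¹ = g⁻¹ * ι z * g⁻¹⁻¹ := by rwa [map_mul, map_mul, map_inv] at e0
  have a1 : g * ι l * t * (g * ι l)⁻¹ = t * ι z := by rw [← hg, mul_assoc g, ← f.comm]; group
  have a2 : g * ι l * ι z = ι z * (g * ι l) := by
    calc _ = g * (ι l * ι z * (ι l)⁻¹) * ι l := by group
      _ = _ := by rw [e0]; group
  have a3 : (g * ι l)⁻¹ ∈ normalizer (C0.map ι : Set G) := mem_normalizer_fintype (by
    rintro _ ⟨c, hc, rfl⟩
    obtain ⟨d, hd⟩ := h1 c hc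
    have e : ι (l⁻¹ * d * l) = (g * ι l)⁻¹ * ι c * (g * ι l)⁻¹⁻¹ := by
      rw [map_mul, map_mul, map_inv, show ι d = g⁻¹ * ι c * g⁻¹⁻¹ from hd]; group
    refine ⟨_, mem_C0.2 (f.inj ?_), e⟩
    rw [map_mul ι _ z, map_mul ι z, e]
    calc _ = (g * ι l)⁻¹ * ι c * (g * ι l * ι z) := by group
      _ = (g * ι l)⁻¹ * (ι z * ι c) * (g * ι l) := by
        rw [a2, ← map_mul, ← mem_C0.1 hc, map_mul]; group
      _ = (g * ι l)⁻¹ * (ι z * (g * ι l)) * (g * ι l)⁻¹ * ι c * (g * ι l) := by group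
      _ = _ := by rw [← a2]; group)
  have a4 : ∀ c ∈ C0, ∃ c' ∈ C0, ι c' = g * ι l * ι c * (g * ι l)⁻¹ := fun c hc =>
    (mem_normalizer_iff.1 (inv_mem_iff.1 a3) _).1 ⟨c, hc, rfl⟩
  generalize g * ι l = g at a1 a2 a4
  obtain ⟨a₀, ha, e1⟩ := a4 a aC
  obtain ⟨c, hc, rfl⟩ := tr2 (k1a_A2 f (ci g) (K := centralizer {z, a})
    (fun c hc => let ⟨d, _, e⟩ := a4 c (mem_C0.2 (hc z (by simp)).symm); ⟨d, e⟩) e1 aa a_ne
    (fun c hc => (hc a (by simp)).symm) (by rw [card_CU]; decide))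
    (fun e => a_ne_z (ci g (show g * ι a * g⁻¹ = g * ι z * g⁻¹ by rw [← e1, e, a2]; group))) (mem_C0.1 ha)
  have cz : ι c * ι z = ι z * ι c := by rw [← map_mul, mem_C0.1 hc, map_mul]
  refine ⟨(ι c)⁻¹ * g, ?_, ?_, ?_, fun d hd => ?_⟩
  · calc _ = (ι c)⁻¹ * (g * t * g⁻¹) * ι c := by group
      _ = _ := by rw [a1, mul_assoc, mul_assoc, ← cz, ← mul_assoc t, f.comm]; group
  · calc _ = (ι c)⁻¹ * (ι z * ι c) * (ι c)⁻¹ * g := by rw [mul_assoc, a2]; group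
      _ = _ := by rw [← cz]; group
  · calc _ = (ι c)⁻¹ * (g * ι a * g⁻¹) * g := by group
      _ = _ := by rw [← e1, map_mul, map_mul, map_inv]; group
  · obtain ⟨d', hd', e⟩ := a4 d hd
    exact ⟨c⁻¹ * d' * c, mul_mem (mul_mem (inv_mem hc) hd') hc, by
      rw [map_mul, map_mul, map_inv, e]; group⟩

end CfsgLib.SJ
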