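import Mathlib
import Cfsg.Agent.Lib.SJ.K0
import Cfsg.Agent.Lib.SJ.MInn

/-! # SJ package K1B: the fusing element can be chosen to centralise `C0`.
Proof. `X = C_J(z,a) = P0 ∪ P0 r ∪ P0 r⁻¹` (`CU`), `P0` = elements of `X` with `x^4 = 1` (`P0_sq`, `r_norm`, `r_not`, `r3`).
Call `h ∈ G` good if it centralises `ι z, ι a` and conjugates `ι X` into `ι X`; then it maps `ι P0` to `ι P0` and `ι r` into
`ι (P0 r)` (sign +) or `ι (P0 r⁻¹)` (sign -); the sign is multiplicative.  `g` is good.  If its sign is -, then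
`g2 = ι s g (ι s)⁻¹` (`t ↦ t a`), `g3 = ι s g2 (ι s)⁻¹` (`t ↦ t z a`) are good of sign - (`rs`, `s_norm`, `sz`, `sa`), so `d = g g2 g3`
is good of sign -, centralises `t`, acts (`act`) as `φ` with `φ z = z`, hence normalises `ι C0`; replace `g` by `g * d`.
Now `g ι r g⁻¹ = ι (p r)`, `o3` gives `y ∈ P0`; `g' = (ι y)⁻¹ g` fixes `ι z, ι a, ι r`.  `inn` applied to the map `c ↦ c'` gives
`c0 ∈ C0`; take `(ι c0)⁻¹ g'`. -/

set_option autoImplicit false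

namespace CfsgLib.SJ

open Subgroup Cfsg

variable {G : Type*} [Group G] {ι : J →* G} {t : G} {Y : Subgroup G} {κ : J → G}

theorem k1b_ri : r⁻¹ = r * r := by
  rw [inv_eq_iff_mul_eq_one, ← r3, pow_three]

theorem k1b_si : s⁻¹ = s * s := by
  rw [inv_eq_iff_mul_eq_one, ← s3, pow_three]

theorem k1b_rn {p : J} (hp : p ∈ P0) : r⁻¹ * p * r ∈ P0 := by
  have := r_norm (r_norm hp)
  rwa [show r * (r * p * r⁻¹) * r⁻¹ = r * r * p * (r * r)⁻¹ by group, ← k1b_ri, inv_inv] at this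

theorem k1b_sn {p : J} (hp : p ∈ P0) : s⁻¹ * p * s ∈ P0 := by
  have := s_norm (s_norm hp)
  rwa [show s * (s * p * s⁻¹) * s⁻¹ = s * s * p * (s * s)⁻¹ by group, ← k1b_si, inv_inv] at this

theorem k1b_four {p : J} (hp : p ∈ P0) : p ^ 4 = 1 := by
  rw [show p ^ 4 = p * p * (p * p) by simp only [pow_succ, pow_zero, one_mul, mul_assoc]]
  rcases mem_U.1 (P0_sq hp) with e | e | e | e <;> rw [e]
  · exact one_mul 1
  · exact zz
  · exact aa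
  · exact A2_za.sq

theorem k1b_cube {p e : J} (he : ∀ p ∈ P0, e * p * e⁻¹ ∈ P0) (h3 : e ^ 3 = 1) (hp : p ∈ P0)
    (h4 : (p * e) ^ 4 = 1) : e ∈ P0 := by
  have h1 := P0.mul_mem (P0.mul_mem (P0.mul_mem hp (he _ hp)) (he _ (he _ hp))) hp
  have h2 : p * (e * p * e⁻¹) * (e * (e * p * e⁻¹) * e⁻¹) * p * e = 1 := by
    rw [← h4, show (p * e) ^ 4 = p * (e * p * e⁻¹) * (e * (e * p * e⁻¹) * e⁻¹) * e ^ 3 * p * e by
      simp only [pow_succ, pow_zero, one_mul]; group, h3, mul_one]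
  rw [eq_inv_of_mul_eq_one_right h2]
  exact P0.inv_mem h1

theorem k1b_mem {x : J} (h1 : x * z = z * x) (h2 : x * a = a * x) (h4 : x ^ 4 = 1) : x ∈ P0 := by
  rcases CU h1 h2 with h | h | h
  · exact h
  · exact absurd (k1b_cube (fun _ => r_norm) r3 h (by rwa [inv_mul_cancel_right])) r_not
  · refine absurd (P0.inv_mem_iff.1 (k1b_cube (e := r⁻¹) (fun p hp => ?_) (by rw [inv_pow, r3, inv_one]) h
      (by rwa [mul_inv_cancel_right]))) r_not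
    rw [inv_inv]; exact k1b_rn hp

/-- good elements, `e = r` or `r⁻¹` is the sign -/
structure K1bG (ι : J →* G) (h : G) (e : J) : Prop where
  cz : h * ι z = ι z * h
  ca : h * ι a = ι a * h
  P : ∀ p ∈ P0, ∃ p' ∈ P0, h * ι p * h⁻¹ = ι p'
  R : ∃ p ∈ P0, h * ι r * h⁻¹ = ι (p * e)

theorem k1b_cm (hi : Function.Injective ι) {h : G} {x x' u : J} (e : h * ι x * h⁻¹ = ι x')
    (hu : h * ι u = ι u * h) (hx : x * u = u * x) : x' * u = u * x' := hi (by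
  rw [map_mul, map_mul, ← e, ← mul_inv_eq_iff_eq_mul.2 hu]
  calc _ = h * (ι x * ι u) * h⁻¹ := by group
    _ = h * (ι u * ι x) * h⁻¹ := by rw [← map_mul, hx, map_mul]
    _ = _ := by group)

theorem k1b_pow (hi : Function.Injective ι) {h : G} {x x' : J} (e : h * ι x * h⁻¹ = ι x') {n : ℕ}
    (hx : x ^ n = 1) : x' ^ n = 1 := hi (by
  rw [map_pow, ← e, conj_pow, ← map_pow, hx, map_one, mul_one, mul_inv_cancel])

theorem k1b_of (hi : Function.Injective ι) {h : G} (h2 : h * ι z = ι z * h) (h3 : h * ι a = ι a * h)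
    (h4 : ∀ c ∈ C0, ∃ c' ∈ C0, h * ι c * h⁻¹ = ι c') : K1bG ι h r ∨ K1bG ι h r⁻¹ := by
  have P : ∀ p ∈ P0, ∃ p' ∈ P0, h * ι p * h⁻¹ = ι p' := fun p hp => by
    obtain ⟨p', -, e⟩ := h4 p (mem_C0.2 (P0_cent hp).1)
    exact ⟨p', k1b_mem (k1b_cm hi e h2 (P0_cent hp).1) (k1b_cm hi e h3 (P0_cent hp).2)
      (k1b_pow hi e (k1b_four hp)), e⟩
  obtain ⟨r', -, e⟩ := h4 r (mem_C0.2 rz)
  rcases CU (k1b_cm hi e h2 rz) (k1b_cm hi e h3 ra) with k | k | k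
  · have k1 := k1b_four k
    rw [pow_succ, k1b_pow hi e r3, one_mul] at k1
    rw [k1, map_one, mul_inv_eq_one, mul_eq_left] at e
    exact absurd (hi (e.trans (map_one ι).symm)) r_ne
  · exact .inl ⟨h2, h3, P, _, k, by rwa [inv_mul_cancel_right]⟩
  · exact .inr ⟨h2, h3, P, _, k, by rwa [mul_inv_cancel_right]⟩

theorem K1bG.aux {h k : G} {e e' e'' : J} (H : K1bG ι h e) (K : K1bG ι k e')
    (R : ∃ p ∈ P0, h * ι e' * h⁻¹ = ι (p * e'')) : K1bG ι (h * k) e'' := by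
  refine ⟨by rw [mul_assoc, K.cz, ← mul_assoc, H.cz, mul_assoc],
    by rw [mul_assoc, K.ca, ← mul_assoc, H.ca, mul_assoc], fun p hp => ?_, ?_⟩
  · obtain ⟨p', hp', e1⟩ := K.P p hp
    obtain ⟨p'', hp'', e2⟩ := H.P p' hp'
    exact ⟨p'', hp'', by rw [← e2, ← e1]; group⟩
  · obtain ⟨p, hp, e1⟩ := K.R
    obtain ⟨p', hp', e2⟩ := H.P p hp
    obtain ⟨q, hq, e3⟩ := R
    refine ⟨p' * q, P0.mul_mem hp' hq, ?_⟩
    rw [mul_assoc p', map_mul, ← e2, ← e3]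
    calc _ = h * (k * ι r * k⁻¹) * h⁻¹ := by group
      _ = _ := by rw [e1, map_mul]; group

theorem K1bG.pp {h k : G} (H : K1bG ι h r) (K : K1bG ι k r) : K1bG ι (h * k) r := H.aux K H.R

theorem K1bG.mm {h k : G} (H : K1bG ι h r⁻¹) (K : K1bG ι k r⁻¹) : K1bG ι (h * k) r := by
  obtain ⟨p, hp, e⟩ := H.R
  refine H.aux K ⟨r * p⁻¹ * r⁻¹, r_norm (P0.inv_mem hp), ?_⟩
  rw [map_inv, show h * (ι r)⁻¹ * h⁻¹ = (h * ι r * h⁻¹)⁻¹ by group, e, ← map_inv]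
  congr 1
  group

theorem k1b_cj {h : G} {x x' : J} (e : h * ι (s⁻¹ * x * s) * h⁻¹ = ι x') :
    ι s * h * (ι s)⁻¹ * ι x * (ι s * h * (ι s)⁻¹)⁻¹ = ι (s * x' * s⁻¹) := by
  rw [map_mul, map_mul, ← e, map_mul, map_mul, map_inv]
  group

theorem k1b_sza : s * (z * a) * s⁻¹ = z := by
  rw [show s * (z * a) * s⁻¹ = s * z * s⁻¹ * (s * a * s⁻¹) by group, sz, sa, ← mul_assoc, ← za,
    mul_assoc, aa, mul_one]

theorem K1bG.cj {h : G} (H : K1bG ι h r⁻¹) : K1bG ι (ι s * h * (ι s)⁻¹) r⁻¹ := by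
  have c : ∀ u, h * ι u = ι u * h →
      ι s * h * (ι s)⁻¹ * ι (s * u * s⁻¹) = ι (s * u * s⁻¹) * (ι s * h * (ι s)⁻¹) := fun u hu =>
    mul_inv_eq_iff_eq_mul.1 (k1b_cj (by
      rw [show s⁻¹ * (s * u * s⁻¹) * s = u by group, hu, mul_inv_cancel_right]))
  refine ⟨?_, ?_, fun p hp => ?_, ?_⟩
  · have := c (z * a) (by rw [map_mul, ← mul_assoc, H.cz, mul_assoc, H.ca, mul_assoc])
    rwa [k1b_sza] at this
  · have := c z H.cz
    rwa [sz] at this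
  · obtain ⟨p', hp', e⟩ := H.P _ (k1b_sn hp)
    exact ⟨_, s_norm hp', k1b_cj e⟩
  · obtain ⟨p, hp, e⟩ := H.R
    have e1 : s⁻¹ * r * s = r := by rw [mul_assoc, rs, inv_mul_cancel_left]
    refine ⟨_, s_norm hp, (k1b_cj (by rw [e1]; exact e)).trans (congrArg ι ?_)⟩
    rw [mul_assoc s, mul_assoc p, ← mul_inv_rev, ← rs]
    group

theorem k1b_t (f : Fr ι t Y) {g : G} {u : J} (h : g * t * g⁻¹ = t * ι u) (l : J) :
    ι l * g * (ι l)⁻¹ * t * (ι l * g * (ι l)⁻¹)⁻¹ = t * ι (l * u * l⁻¹) := by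
  have c : (ι l)⁻¹ * t * ι l = t := by rw [mul_assoc, f.comm, inv_mul_cancel_left]
  calc _ = ι l * (g * ((ι l)⁻¹ * t * ι l) * g⁻¹) * (ι l)⁻¹ := by group
    _ = _ := by rw [c, h, ← mul_assoc, ← f.comm, map_mul, map_mul, map_inv]; group

theorem k1b_t' (f : Fr ι t Y) {g : G} (h : g * t * g⁻¹ = t * ι z) {c : J} (hc : c * z = z * c) :
    (ι c)⁻¹ * g * t * ((ι c)⁻¹ * g)⁻¹ = t * ι z := by
  calc _ = (ι c)⁻¹ * (g * t * g⁻¹) * ι c := by group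
    _ = _ := by
      rw [h, mul_assoc, mul_assoc, ← map_mul, ← hc, map_mul, ← mul_assoc t, f.comm, mul_assoc,
        inv_mul_cancel_left]

theorem k1b_fin (f : Fr ι t Y) {g : G} (h1 : g * t * g⁻¹ = t * ι z) (H : K1bG ι g r)
    (h4 : ∀ c ∈ C0, ∃ c' ∈ C0, g * ι c * g⁻¹ = ι c') :
    ∃ g : G, g * t * g⁻¹ = t * ι z ∧ ∀ c ∈ C0, g * ι c = ι c * g := by
  obtain ⟨p, hp, e⟩ := H.R
  obtain ⟨y, hy, ey⟩ := o3 hp (k1b_pow f.inj e r3)
  have yC : y ∈ C0 := mem_C0.2 (P0_cent hy).1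
  choose! φ m eφ using h4
  have aC : a ∈ C0 := mem_C0.2 za.symm
  have rC : r ∈ C0 := mem_C0.2 rz
  obtain ⟨c, hc, ec⟩ := inn (fun x => y⁻¹ * φ x * y)
    (fun x hx => C0.mul_mem (C0.mul_mem (C0.inv_mem yC) (m x hx)) yC)
    (fun x hx x' hx' => by
      have : φ (x * x') = φ x * φ x' := f.inj (by
        rw [map_mul, ← eφ _ (C0.mul_mem hx hx'), ← eφ x hx, ← eφ x' hx', map_mul]; group)
      rw [this]; group)
    (fun x hx k => by
      have k1 : φ x = 1 := by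
        rw [show φ x = y * (y⁻¹ * φ x * y) * y⁻¹ by group, k, mul_one, mul_inv_cancel]
      have k2 := eφ x hx
      rw [k1, map_one, mul_inv_eq_one, mul_eq_left] at k2
      exact f.inj (k2.trans (map_one ι).symm))
    (by
      have : φ a = a := f.inj (by rw [← eφ a aC, H.ca, mul_inv_cancel_right])
      rw [this, mul_assoc, ← (P0_cent hy).2, inv_mul_cancel_left])
    (by
      have : φ r = y * r * y⁻¹ := f.inj (by rw [← eφ r rC, e, ey])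
      rw [this]; group)
  refine ⟨(ι c)⁻¹ * ((ι y)⁻¹ * g), k1b_t' f (k1b_t' f h1 (mem_C0.1 yC)) (mem_C0.1 hc), fun x hx => ?_⟩
  have k := congrArg ι (ec x hx)
  simp only [map_mul, map_inv, ← eφ x hx] at k
  calc _ = (ι c)⁻¹ * ((ι y)⁻¹ * (g * ι x * g⁻¹) * ι y) * ((ι y)⁻¹ * g) := by group
    _ = _ := by rw [k]; group

theorem k1b (f : Fr ι t Y) {g : G} (h1 : g * t * g⁻¹ = t * ι z) (h2 : g * ι z = ι z * g) (h3 : g * ι a = ι a * g)
    (h4 : ∀ c ∈ C0, ∃ c' ∈ C0, g * ι c * g⁻¹ = ι c') :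
    ∃ g : G, g * t * g⁻¹ = t * ι z ∧ ∀ c ∈ C0, g * ι c = ι c * g := by
  rcases k1b_of f.inj h2 h3 h4 with H | H
  · exact k1b_fin f h1 H h4
  have H2 := H.cj
  have H3 := H2.cj
  have t2 := k1b_t f h1 s
  rw [sz] at t2
  have t3 := k1b_t f t2 s
  rw [sa] at t3
  generalize ι s * (ι s * g * (ι s)⁻¹) * (ι s)⁻¹ = g3 at H3 t3
  generalize ι s * g * (ι s)⁻¹ = g2 at H2 t2
  have cz : ∀ {h e}, K1bG ι h e → h * ι z * h⁻¹ = ι z := fun K => mul_inv_eq_iff_eq_mul.2 K.cz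
  have ca : ∀ {h e}, K1bG ι h e → h * ι a * h⁻¹ = ι a := fun K => mul_inv_eq_iff_eq_mul.2 K.ca
  have dt : g * (g2 * g3) * t * (g * (g2 * g3))⁻¹ = t := by
    calc _ = g * (g2 * (g3 * t * g3⁻¹) * g2⁻¹) * g⁻¹ := by group
      _ = g * (g2 * t * g2⁻¹ * (g2 * ι z * g2⁻¹) * (g2 * ι a * g2⁻¹)) * g⁻¹ := by
        rw [t3, map_mul]; group
      _ = g * t * g⁻¹ * (g * ι a * g⁻¹) * (g * ι z * g⁻¹) * (g * ι a * g⁻¹) := by
        rw [t2, cz H2, ca H2]; group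
      _ = t * ι (z * a * (z * a)) := by
        rw [h1, cz H, ca H, map_mul, map_mul]; group
      _ = t := by rw [A2_za.sq, map_one, mul_one]
  obtain ⟨φ, hφ⟩ := f.act _ (mul_inv_eq_iff_eq_mul.1 dt)
  have dz : g * (g2 * g3) * ι z = ι z * (g * (g2 * g3)) := by
    rw [mul_assoc, (H2.mm H3).cz, ← mul_assoc, h2, mul_assoc]
  refine k1b_fin f (g := g * g * (g2 * g3)) ?_ ((H.mm H).pp (H2.mm H3)) fun c hc => ?_
  · calc _ = g * (g * (g2 * g3) * t * (g * (g2 * g3))⁻¹) * g⁻¹ := by group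
      _ = _ := by rw [dt, h1]
  · obtain ⟨c', hc', e⟩ := h4 (φ c) (mem_C0.2 (k1b_cm f.inj (hφ c) dz (mem_C0.1 hc)))
    exact ⟨c', hc', by rw [← e, ← hφ]; group⟩

end CfsgLib.SJ
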