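import Mathlib
import Cfsg.Agent.Lib.SJ.K0

/-! # SJ package K2: the dichotomy.
`k2`: `p = κ z κ a` maps `t ↦ t z a`; `p²` centralises `t`, `ι P0` (`cen`, `P0_cent`), `Y`.  `decP`: `p² = ι u y` or `ι u y t`; the second is
impossible as `p` commutes with `p², ι u, y` but not with `t` (`not_comm`); `κ z` inverts `p²` and centralises `ι u, y`, so `y² = 1`,
`y = 1`.  Conjugating with `ι l` (`swap`, `eqv`) inverts `p²`, so `l u l⁻¹ = u`, `u ∈ {1, z a}` (`mem_U`).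
`lin`: `κ z, κ a, κ (z a)` commute pairwise (conjugate by `ι s`: `sz, sa, s3`), `q = κ z κ a κ (z a)` centralises `t, ι P0, Y`,
`q² = 1`, commutes with `κ z`, so `q = ι u`; `ι s` centralises `q`, so `u = 1`.  General pairs by `tr2'` and `eqv`. -/

set_option autoImplicit false

namespace CfsgLib.SJ

open Subgroup Cfsg

variable {G : Type*} [Group G] {ι : J →* G} {t : G} {Y : Subgroup G} {κ : J → G}

/-- `g` maps `t ↦ t ι u` and centralises `ι C(U)` and `Y` -/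
structure K2Gd (ι : J →* G) (t : G) (Y : Subgroup G) (g : G) (u : J) : Prop where
  act : g * t * g⁻¹ = t * ι u
  cen : ∀ c, c * z = z * c → c * a = a * c → g * ι c = ι c * g
  cY : ∀ y ∈ Y, g * y = y * g

theorem k2_Uz {u : J} (hu : u ∈ U) : u * z = z * u := by
  rcases mem_U.1 hu with rfl | rfl | rfl | rfl
  · simp
  · rfl
  · exact za.symm
  · rw [mul_assoc, ← za]

theorem k2_Ua {u : J} (hu : u ∈ U) : u * a = a * u := by
  rcases mem_U.1 hu with rfl | rfl | rfl | rfl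
  · simp
  · exact za
  · rfl
  · rw [← mul_assoc, ← za]

theorem k2_Usq {u : J} (hu : u ∈ U) : u * u = 1 := by
  rcases mem_U.1 hu with rfl | rfl | rfl | rfl
  · simp
  · exact zz
  · exact aa
  · exact A2_za.sq

theorem K2Gd.mul {g h : G} {u u' : J} (h1 : K2Gd ι t Y g u) (h2 : K2Gd ι t Y h u') (hu : u' ∈ U) :
    K2Gd ι t Y (g * h) (u * u') := by
  refine ⟨?_, fun c c1 c2 => ?_, fun y hy => ?_⟩
  · calc _ = g * (h * t * h⁻¹) * g⁻¹ := by group
      _ = g * t * g⁻¹ * (g * ι u') * g⁻¹ := by rw [h2.act]; group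
      _ = _ := by rw [h1.act, h1.cen u' (k2_Uz hu) (k2_Ua hu), map_mul]; group
  · rw [mul_assoc, h2.cen c c1 c2, ← mul_assoc, h1.cen c c1 c2, mul_assoc]
  · rw [mul_assoc, h2.cY y hy, ← mul_assoc, h1.cY y hy, mul_assoc]

theorem k2_gz (k : Kap ι t Y κ) : K2Gd ι t Y (κ z) z :=
  ⟨k.act' A2_z, fun c h _ => k.cen z A2_z c h, k.cY z A2_z⟩

theorem k2_ga (k : Kap ι t Y κ) : K2Gd ι t Y (κ a) a :=
  ⟨k.act' A2_a, fun c _ h => k.cen a A2_a c h, k.cY a A2_a⟩

theorem k2_gw (k : Kap ι t Y κ) : K2Gd ι t Y (κ (z * a)) (z * a) :=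
  ⟨k.act' A2_za, fun c h h' => k.cen _ A2_za c (by rw [← mul_assoc, h, mul_assoc, h', mul_assoc]),
    k.cY _ A2_za⟩

theorem k2_one (f : Fr ι t Y) {g h h' : G} {u₀ u₁ : J} (hg : K2Gd ι t Y g 1) (h0 : K2Gd ι t Y h u₀)
    (hu : u₀ ≠ 1) (hc : h * g = g * h) (h1 : K2Gd ι t Y h' u₁) (hi : h' * g * h'⁻¹ = g⁻¹) :
    ∃ u ∈ U, g = ι u := by
  have e : g * t = t * g := by
    have := hg.act
    rw [map_one, mul_one] at this
    exact mul_inv_eq_iff_eq_mul.1 this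
  obtain ⟨u, mu, y, hy, e1 | e1⟩ := f.decP e fun p hp => hg.cen p (P0_cent hp).1 (P0_cent hp).2
  · have e2 : h' * g = g * h' := by
      rw [e1, ← mul_assoc, h1.cen u (k2_Uz mu) (k2_Ua mu), mul_assoc, h1.cY y hy, mul_assoc]
    rw [e2, mul_inv_cancel_right] at hi
    have e3 : g * g = 1 := by nth_rewrite 1 [hi]; exact inv_mul_cancel g
    have e4 : y * y = 1 := by
      calc y * y = ι (u * u) * y * y := by rw [k2_Usq mu, map_one, one_mul]
        _ = ι u * (y * ι u) * y := by rw [f.yl y hy, map_mul, mul_assoc (ι u)]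
        _ = 1 := by rw [← e3, e1]; simp only [mul_assoc]
    exact ⟨u, mu, by rw [e1, f.y_sq hy e4, mul_one]⟩
  · refine absurd ?_ (f.not_comm hu h0.act)
    have c1 : Commute h (ι u) := h0.cen u (k2_Uz mu) (k2_Ua mu)
    have c2 : Commute h y := h0.cY y hy
    have c3 : Commute h g := hc
    have e2 : t = (ι u * y)⁻¹ * g := by rw [e1, inv_mul_cancel_left]
    rw [e2]
    exact (c1.mul_right c2).inv_right.mul_right c3

theorem k2 (f : Fr ι t Y) (k : Kap ι t Y κ) :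
    κ z * κ a * κ z * κ a = 1 ∨ κ z * κ a * κ z * κ a = ι (z * a) := by
  have mz : z ∈ U := mem_U.2 (by simp)
  have ma : a ∈ U := mem_U.2 (by simp)
  have hp := (k2_gz k).mul (k2_ga k) ma
  have hg := hp.mul hp (U.mul_mem mz ma)
  rw [A2_za.sq, ← mul_assoc] at hg
  have hinv : (κ z * κ a * κ z * κ a)⁻¹ = κ a * κ z * κ a * κ z := by
    simp only [mul_inv_rev, k.inv A2_z, k.inv A2_a, mul_assoc]
  obtain ⟨u, mu, e⟩ := k2_one f hg hp A2_za.ne (by simp only [mul_assoc]) (k2_gz k) (by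
    rw [hinv, k.inv A2_z]
    calc _ = (κ z * κ z) * (κ a * κ z * κ a * κ z) := by simp only [mul_assoc]
      _ = _ := by rw [k.sq z A2_z, one_mul])
  obtain ⟨l, l1, l2⟩ := swap
  have e1 : ι l * κ z * (ι l)⁻¹ = κ a := l1 ▸ k.eqv z A2_z l
  have e2 : ι l * κ a * (ι l)⁻¹ = κ z := by rw [k.eqv a A2_a l, l2]
  have e3 : l * u * l⁻¹ = u := f.inj (by
    rw [map_mul, map_mul, map_inv]
    calc ι l * ι u * (ι l)⁻¹ = (ι l * κ z * (ι l)⁻¹) * (ι l * κ a * (ι l)⁻¹) * (ι l * κ z * (ι l)⁻¹) *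
          (ι l * κ a * (ι l)⁻¹) := by rw [← e]; group
      _ = (ι u)⁻¹ := by rw [e1, e2, ← hinv, e]
      _ = ι u := by rw [← map_inv, inv_eq_of_mul_eq_one_right (k2_Usq mu)])
  rcases mem_U.1 mu with rfl | rfl | rfl | rfl
  · exact Or.inl (by rw [e, map_one])
  · exact absurd (l1.symm.trans e3) a_ne_z
  · exact absurd (e3.symm.trans l2) a_ne_z
  · exact Or.inr e

theorem k2_sw : s * (z * a) * s⁻¹ = z := by
  calc _ = (s * z * s⁻¹) * (s * a * s⁻¹) := by group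
    _ = z := by rw [sz, sa, za, ← mul_assoc, aa, one_mul]

theorem k2_lin0 (f : Fr ι t Y) (k : Kap ι t Y κ) (h : κ z * κ a * κ z * κ a = 1) :
    κ (z * a) = κ z * κ a := by
  have mz : z ∈ U := mem_U.2 (by simp)
  have ma : a ∈ U := mem_U.2 (by simp)
  have e1 : ι s * κ z * (ι s)⁻¹ = κ a := by rw [k.eqv z A2_z s, sz]
  have e2 : ι s * κ a * (ι s)⁻¹ = κ (z * a) := by rw [k.eqv a A2_a s, sa]
  have e3 : ι s * κ (z * a) * (ι s)⁻¹ = κ z := by rw [k.eqv _ A2_za s, k2_sw]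
  have c1 : Commute (κ z) (κ a) := by
    have : (κ z * κ a)⁻¹ = κ z * κ a := inv_eq_of_mul_eq_one_right (by rw [← mul_assoc, h])
    rw [mul_inv_rev, k.inv A2_z, k.inv A2_a] at this
    exact this.symm
  have c2 : Commute (κ a) (κ (z * a)) := by
    rw [← e1, ← e2]
    exact c1.conj _
  have c3 : Commute (κ (z * a)) (κ z) := by
    have := c2.conj (ι s)
    rwa [e2, e3] at this
  have hg := ((k2_gz k).mul (k2_ga k) ma).mul (k2_gw k) (U.mul_mem mz ma)
  rw [A2_za.sq] at hg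
  have c4 : Commute (κ z) (κ z * κ a * κ (z * a)) := ((Commute.refl _).mul_right c1).mul_right c3.symm
  have hinv : (κ z * κ a * κ (z * a))⁻¹ = κ z * κ a * κ (z * a) := by
    rw [mul_inv_rev, mul_inv_rev, k.inv A2_z, k.inv A2_a, k.inv A2_za, ← c1.eq,
      (c3.mul_right c2.symm).eq]
  obtain ⟨u, mu, e⟩ := k2_one f hg (k2_gz k) z_ne c4 (k2_gz k) (by
    rw [hinv, c4.eq, mul_inv_cancel_right])
  have e4 : s * u * s⁻¹ = u := f.inj (by
    rw [map_mul, map_mul, map_inv]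
    calc ι s * ι u * (ι s)⁻¹ = (ι s * κ z * (ι s)⁻¹) * (ι s * κ a * (ι s)⁻¹) *
          (ι s * κ (z * a) * (ι s)⁻¹) := by rw [← e]; group
      _ = ι u := by rw [e1, e2, e3, ← e, ← (c1.mul_right c3.symm).eq, mul_assoc])
  rcases mem_U.1 mu with rfl | rfl | rfl | rfl
  · rw [map_one] at e
    rw [eq_inv_of_mul_eq_one_right e, mul_inv_rev, k.inv A2_z, k.inv A2_a, c1.eq]
  · exact absurd (sz.symm.trans e4) a_ne_z
  · exact absurd (mul_eq_right.1 (sa.symm.trans e4)) z_ne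
  · exact absurd (mul_eq_left.1 (e4.symm.trans k2_sw)) a_ne

theorem lin (f : Fr ι t Y) (k : Kap ι t Y κ) (h : κ z * κ a * κ z * κ a = 1) : Lin κ := by
  intro u u' hu hu' h1 h2
  obtain ⟨l, rfl, rfl⟩ := tr2' hu hu' h1 h2
  rw [show l * z * l⁻¹ * (l * a * l⁻¹) = l * (z * a) * l⁻¹ by group, ← k.eqv _ A2_za, ← k.eqv _ A2_z,
    ← k.eqv _ A2_a, k2_lin0 f k h]
  group

end CfsgLib.SJ
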