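import Mathlib
import Cfsg.Agent.Lib.SJ.K0

/-! # SJ package K3: commutators of `κ` for pairs with product of order 4.
`Lin` gives `κ u κ u' = κ u' κ u` for commuting `u, u'`.  `ι b κ a ι b = κ (b a b) = κ (a z) = κ a κ z` so `κ a ι b κ a = ι b κ z`, likewise
`κ b ι a κ b = ι a κ z`.  `e = (κ a κ b)² κ z` centralises `t` (compute), `ι z, ι a, ι b`, `Y` and `ι c` for `c` commuting with `a, b`
(then also with `z = abab`), in particular `r` and `x0 a` (`x0 = b x1 b x1⁻¹`; `x0 a` commutes with `b` by `x0_sq`, `abab`; with `a` by `x0a`).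
So `e` acts as `φ` fixing `z, a, b, x0, r x0 r⁻¹`: `cl` gives `u ∈ U` commuting with `b`, `u ∈ {1, z}`; `dec`: `e = ι u y` (no `t`, as `e`
commutes with `κ z`); `κ a` inverts `(κ a κ b)²` and centralises `κ z, ι u, y`, so `y = 1`.  General pairs by `tr4`, `eqv`. -/

set_option autoImplicit false

namespace CfsgLib.SJ

open Subgroup Cfsg

variable {G : Type*} [Group G] {ι : J →* G} {t : G} {Y : Subgroup G} {κ : J → G}

theorem Lin.comm (h : Lin κ) {u u' : J} (hu : A2 u) (hu' : A2 u') (e : u * u' = u' * u) : κ u * κ u' = κ u' * κ u := by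
  by_cases h1 : u = u'
  · rw [h1]
  · rw [← h u u' hu hu' h1 e, e, h u' u hu' hu (Ne.symm h1) e.symm]

theorem k3_bab : b * a * b = a * z := by
  calc b * a * b = (a * a) * (b * a * b) := by rw [aa, one_mul]
    _ = a * (a * b * a * b) := by group
    _ = a * z := by rw [abab]

theorem k3_aba : a * b * a = z * b := by
  calc a * b * a = a * b * a * (b * b) := by rw [bb, mul_one]
    _ = a * b * a * b * b := by group
    _ = z * b := by rw [abab]

theorem k3_nc : a * b ≠ b * a := fun e => z_ne (by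
  calc z = a * b * a * b := abab.symm
    _ = a * (b * a) * b := by group
    _ = (a * a) * (b * b) := by rw [← e]; group
    _ = 1 := by rw [aa, bb, mul_one])

theorem k3_zb : z ≠ b := fun e => k3_nc (by rw [← e, za])

theorem k3_x0b : b * (x1 * b * x1⁻¹) * a * b = b * (b * (x1 * b * x1⁻¹) * a) := by
  have h1 : x1 * b * x1⁻¹ * (x1 * b * x1⁻¹) = 1 := by
    calc _ = x1 * (b * b) * x1⁻¹ := by group
      _ = 1 := by rw [bb]; group
  have h2 := x0_sq
  generalize x1 * b * x1⁻¹ = c at h1 h2 ⊢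
  have h3 : b * c * b = z * c := by
    calc b * c * b = (b * c) ^ 2 * c⁻¹ := by rw [pow_two]; group
      _ = z * c := by rw [h2, inv_eq_of_mul_eq_one_right h1]
  have h4 : z * c = c * z := by
    calc z * c = b * c * b := h3.symm
      _ = (b * c * b)⁻¹ := by
        rw [mul_inv_rev, mul_inv_rev, inv_eq_of_mul_eq_one_right bb, inv_eq_of_mul_eq_one_right h1, mul_assoc]
      _ = c * z := by rw [h3, mul_inv_rev, inv_eq_of_mul_eq_one_right zz, inv_eq_of_mul_eq_one_right h1]
  calc b * c * a * b = b * c * (b * b) * a * b := by rw [bb, mul_one]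
    _ = (b * c * b) * (b * a * b) := by group
    _ = c * (z * a) * z := by rw [h3, k3_bab, h4]; group
    _ = c * a * (z * z) := by rw [za]; group
    _ = (b * b) * c * a := by rw [zz, bb, one_mul, mul_one]
    _ = _ := by group

theorem k3_base (f : Fr ι t Y) (k : Kap ι t Y κ) (h : Lin κ) :
    ∃ u, (u = 1 ∨ u = z) ∧ (κ a * κ b) ^ 2 = κ z * ι u := by
  have haz : κ a * κ z = κ z * κ a := h.comm A2_a A2_z za.symm
  have hbz : κ b * κ z = κ z * κ b := h.comm A2_b A2_z zb.symm
  have cj : ∀ {g x : G}, g * x = x * g → MulAut.conj g x = x := fun e => by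
    rw [MulAut.conj_apply, e, mul_inv_cancel_right]
  have iA : ι a * ι a = 1 := by rw [← map_mul, aa, map_one]
  have iB : ι b * ι b = 1 := by rw [← map_mul, bb, map_one]
  have zA := k.cen z A2_z a za.symm
  have zB := k.cen z A2_z b zb.symm
  have e1 : ι b * κ a * ι b = κ a * κ z := by
    rw [← h a z A2_a A2_z a_ne_z za.symm, ← k3_bab]
    simpa only [← map_inv, inv_eq_of_mul_eq_one_right bb] using k.eqv a A2_a b
  have e2 : ι a * κ b * ι a = κ z * κ b := by
    rw [← h z b A2_z A2_b k3_zb zb, ← k3_aba]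
    simpa only [← map_inv, inv_eq_of_mul_eq_one_right aa] using k.eqv b A2_b a
  have αt : MulAut.conj (κ a) t = t * ι a := k.act' A2_a
  have βt : MulAut.conj (κ b) t = t * ι b := k.act' A2_b
  have γt : MulAut.conj (κ z) t = t * ι z := k.act' A2_z
  have αA := cj (k.self A2_a)
  have βB := cj (k.self A2_b)
  have αZ := cj (k.cen a A2_a z za)
  have βZ := cj (k.cen b A2_b z zb)
  have αz := cj haz
  have βz := cj hbz
  have γA := cj zA
  have γB := cj zB
  have αB : MulAut.conj (κ a) (ι b) = ι b * κ z := by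
    rw [MulAut.conj_apply, k.inv A2_a]
    calc κ a * ι b * κ a = κ a * ι b * κ a * (ι b * ι b) := by rw [iB, mul_one]
      _ = κ a * (ι b * κ a * ι b) * ι b := by group
      _ = (κ a * κ a) * (κ z * ι b) := by rw [e1]; group
      _ = _ := by rw [k.sq a A2_a, one_mul, zB]
  have βA : MulAut.conj (κ b) (ι a) = ι a * κ z := by
    rw [MulAut.conj_apply, k.inv A2_b]
    calc κ b * ι a * κ b = κ b * ι a * κ b * (ι a * ι a) := by rw [iA, mul_one]
      _ = κ b * (ι a * κ b * ι a) * ι a := by group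
      _ = (κ b * κ b) * (κ z * ι a) := by rw [e2, ← hbz]; group
      _ = _ := by rw [k.sq b A2_b, one_mul, zA]
  have zsq := k.sq z A2_z
  obtain ⟨e, he⟩ : ∃ e, e = κ a * κ b * κ a * κ b * κ z := ⟨_, rfl⟩
  have jc : ∀ {x : G}, MulAut.conj e x = x → e * x = x * e := fun {x} e' => by
    rw [MulAut.conj_apply] at e'
    exact mul_inv_eq_iff_eq_mul.1 e'
  have et : e * t = t * e := jc (by
    simp only [he, map_mul, MulAut.mul_apply, αt, βt, γt, αA, βB, αZ, βZ, αz, βz, αB, βA]
    calc _ = t * ι a * ι b * (κ z * ι a) * κ z * ι b * (κ z * κ z) * ι z := by simp only [mul_assoc]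
      _ = t * ι a * ι b * ι a * (κ z * κ z) * ι b * (κ z * κ z) * ι z := by rw [zA]; simp only [mul_assoc]
      _ = t * ι (a * b * a * b * z) := by rw [zsq]; simp only [map_mul, mul_one, mul_assoc]
      _ = t := by rw [abab, zz, map_one, mul_one])
  have eA : e * ι a = ι a * e := jc (by
    simp only [he, map_mul, MulAut.mul_apply, γA, αA, αz, βz, βA, mul_assoc, zsq, mul_one])
  have eB : e * ι b = ι b * e := jc (by
    simp only [he, map_mul, MulAut.mul_apply, γB, βB, αz, βz, αB, mul_assoc, zsq, mul_one])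
  have ec : ∀ c, c * a = a * c → c * b = b * c → e * ι c = ι c * e := fun c h1 h2 => jc (by
    have h3 : c * z = z * c := by
      have c1 : Commute c a := h1
      have c2 : Commute c b := h2
      exact abab ▸ (((c1.mul_right c2).mul_right c1).mul_right c2)
    simp only [he, map_mul, MulAut.mul_apply, cj (k.cen a A2_a c h1), cj (k.cen b A2_b c h2),
      cj (k.cen z A2_z c h3)])
  obtain ⟨φ, hφ⟩ := f.act e et
  have fx : ∀ c, e * ι c = ι c * e → φ c = c := fun c h1 => f.inj (by rw [← hφ, h1, mul_inv_cancel_right])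
  have fa := fx a eA
  have fr := fx r (ec r ra rb)
  have f0 : φ (b * (x1 * b * x1⁻¹)) = b * (x1 * b * x1⁻¹) := by
    have := fx _ (ec (b * (x1 * b * x1⁻¹) * a) (by rw [← mul_assoc a, ← x0a]) k3_x0b)
    rw [map_mul, fa] at this
    exact mul_right_cancel this
  obtain ⟨u, hu, hx⟩ := cl φ (fx z (ec z za zb)) fa f0 (by rw [map_mul, map_mul, map_inv, f0, fr])
  have hub : u * b = b * u := by
    have := hx b
    rw [fx b eB] at this
    exact mul_inv_eq_iff_eq_mul.1 this.symm
  have hu' : u = 1 ∨ u = z := by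
    rcases mem_U.1 hu with rfl | rfl | rfl | rfl
    · exact Or.inl rfl
    · exact Or.inr rfl
    · exact (k3_nc hub).elim
    · exact (k3_nc (mul_left_cancel (a := z) (by rw [← mul_assoc, hub, ← mul_assoc, ← mul_assoc, zb]))).elim
  have uz : u * z = z * u := by rcases hu' with rfl | rfl <;> simp
  have ua : u * a = a * u := by
    rcases hu' with rfl | rfl
    · simp
    · exact za
  have uu : u * u = 1 := by
    rcases hu' with rfl | rfl
    · simp
    · exact zz
  obtain ⟨y, hy, hd⟩ := f.dec et (l := u) fun x => by rw [hφ, hx]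
  have cu : Commute (κ z) (ι u) := k.cen z A2_z u uz
  have cy : Commute (κ z) y := (k.cY z A2_z y hy)
  have ce : Commute (κ z) e := by
    have c1 : Commute (κ z) (κ a) := haz.symm
    have c2 : Commute (κ z) (κ b) := hbz.symm
    exact he ▸ ((((c1.mul_right c2).mul_right c1).mul_right c2).mul_right (Commute.refl _))
  refine ⟨u, hu', ?_⟩
  rcases hd with hd | hd
  · have h1 : (κ a * κ b) ^ 2 = ι u * y * κ z := by
      rw [← hd, he, mul_assoc _ (κ z), zsq, pow_two]; group
    have c1 : Commute (κ a) ((κ a * κ b) ^ 2) := by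
      rw [h1]
      exact (Commute.mul_right (k.cen a A2_a u ua) (k.cY a A2_a y hy)).mul_right haz
    have h2 : (κ a * κ b) ^ 2 * (κ a * κ b) ^ 2 = 1 := by
      calc _ = (κ a * κ b) ^ 2 * κ a * (κ b * κ a * κ b) := by simp only [pow_two, mul_assoc]
        _ = (κ a * κ a) * κ b * κ a * (κ b * κ b) * κ a * κ b := by rw [← c1.eq]; simp only [pow_two, mul_assoc]
        _ = κ b * (κ a * κ a) * κ b := by
          rw [k.sq a A2_a, k.sq b A2_b]; simp only [one_mul, mul_one, mul_assoc, k.sq a A2_a]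
        _ = 1 := by rw [k.sq a A2_a, mul_one, k.sq b A2_b]
    have cyu : Commute y (ι u) := f.yl y hy u
    have h3 : y = 1 := f.y_sq hy (by
      rw [h1, ← pow_two, (cu.mul_right cy).symm.mul_pow, cyu.symm.mul_pow, pow_two, pow_two, pow_two, ← map_mul, uu,
        map_one, one_mul, zsq, mul_one] at h2
      exact h2)
    rw [h1, h3, mul_one, cu.eq]
  · exfalso
    refine f.not_comm z_ne (k.act' A2_z) ?_
    have : t = (ι u * y)⁻¹ * e := by rw [hd]; group
    rw [this]
    exact ((cu.mul_right cy).inv_right.mul_right ce).eq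

theorem k3 (f : Fr ι t Y) (k : Kap ι t Y κ) (h : Lin κ) : Sq0 κ ∨ Sq1 ι κ := by
  obtain ⟨u, hu, e⟩ := k3_base f k h
  have key : ∀ l : J, (κ (l * a * l⁻¹) * κ (l * b * l⁻¹)) ^ 2 =
      κ ((l * a * l⁻¹ * (l * b * l⁻¹)) ^ 2) * ι (l * u * l⁻¹) ∧ (l * a * l⁻¹ * (l * b * l⁻¹)) ^ 2 = l * z * l⁻¹ := by
    intro l
    have h1 : (l * a * l⁻¹ * (l * b * l⁻¹)) ^ 2 = l * z * l⁻¹ := by rw [← abab, pow_two]; group
    refine ⟨?_, h1⟩
    rw [h1, ← k.eqv a A2_a, ← k.eqv b A2_b, ← k.eqv z A2_z, map_mul, map_mul, map_inv]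
    calc _ = ι l * (κ a * κ b) ^ 2 * (ι l)⁻¹ := by rw [pow_two, pow_two]; group
      _ = _ := by rw [e]; group
  rcases hu with rfl | rfl
  · refine Or.inl fun u u' hu hu' h1 h2 => ?_
    obtain ⟨l, rfl, rfl⟩ := tr4 hu hu' h1 h2
    simpa using (key l).1
  · refine Or.inr fun u u' hu hu' h1 h2 => ?_
    obtain ⟨l, rfl, rfl⟩ := tr4 hu hu' h1 h2
    rw [(key l).1, (key l).2]

end CfsgLib.SJ
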