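import Mathlib
import Cfsg.Agent.Lib.SJ.K3
import Cfsg.Agent.Lib.SJ.MQ

/-! # SJ package K4A: the elements `X = κ b κ (g b g⁻¹)` act trivially on `P0 E / E`, `E = ⟨z, a, κ z, κ a⟩ ≅ 2⁴`.
`mem_Ek`, `Ek_fix`: `ι z, ι a, κ z, κ a` are commuting involutions; `t κ u t = κ u ι u` (`Kap.tconj`).
`cenE`: for `c ∈ {b, c' = g b g⁻¹}` we have `a c a c = z`, so `κ c ι a κ c = ι a κ z` (from `ι a κ c ι a = κ (c z) = κ c κ z`) and
`κ c κ a κ c = κ a κ z ι z` (`Sq1`); two such factors cancel.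
`nrm`: `X⁻¹ t X = t ι y e0` with `y = c' b ∈ P0` (`b_norm`), `e0 ∈ E` (`κ c' ι b κ c' ∈ {ι b, ι b κ z}` or use `eqv`: `ι b κ c' ι b = κ (b c' b)`;
`b c' b ∈ {c', c' z}` follows since `y ∈ P0`, `y² ∈ U` commutes with ... ; alternatively add it to MQ).  For `p ∈ P0`, `g' = X ι p X⁻¹` centralises `E` and
`g' t g'⁻¹ = t ι u`, `u = p y p⁻¹ y⁻¹ ∈ U` (`P0_comm`).  Take `k ∈ E` with `k t k = t ι u`; `h = g' k ∈ C(t)`.
For `x ∈ {x0, r x0 r⁻¹}`: `X⁻¹ ι x X = ι x e'`, `e' ∈ {1, κ z}` (`qf`, `eqv`, `Lin`), hence `g' ι x g'⁻¹ = ι (p x p⁻¹)`.  So `(ι p)⁻¹ h` centralises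
`t, ι z, ι a, ι x`; `act`, `cl`, `dec`: it is `ι u'' y'` (no `t`: it commutes with `κ z`), `h^4 = 1` (`P0_sq`) gives `y' = 1`. -/

set_option autoImplicit false

namespace CfsgLib.SJ

open Subgroup Cfsg

variable {G : Type*} [Group G] {ι : J →* G} {t : G} {Y : Subgroup G} {κ : J → G}

/-- the doubled four-group -/
def Ek (ι : J →* G) (κ : J → G) : Subgroup G := closure {ι z, ι a, κ z, κ a}

theorem k4_four {p q x : G} (pp : p * p = 1) (qq : q * q = 1) (h : p * q = q * p) (hx : x ∈ closure {p, q}) :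
    x = 1 ∨ x = p ∨ x = q ∨ x = p * q := by
  have ip : p⁻¹ = p := inv_eq_of_mul_eq_one_right pp
  have iq : q⁻¹ = q := inv_eq_of_mul_eq_one_right qq
  have e1 : p * (p * q) = q := by rw [← mul_assoc, pp, one_mul]
  have e2 : q * (p * q) = p := by rw [← mul_assoc, ← h, mul_assoc, qq, mul_one]
  have e3 : p * q * p = q := by rw [mul_assoc, ← h, e1]
  have e4 : p * q * q = p := by rw [mul_assoc, qq, mul_one]
  have e5 : p * q * (p * q) = 1 := by rw [← mul_assoc, e3, qq]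
  induction hx using closure_induction with
  | mem x hx => rcases hx with rfl | rfl <;> simp
  | one => simp
  | mul x y _ _ hx hy =>
    rcases hx with rfl | rfl | rfl | rfl <;> rcases hy with rfl | rfl | rfl | rfl <;>
      simp [pp, qq, e1, e2, e3, e4, e5, ← h]
  | inv x _ hx => rcases hx with rfl | rfl | rfl | rfl <;> simp [ip, iq, ← h]

theorem k4_z : ι z ∈ Ek ι κ := subset_closure (by simp)
theorem k4_a : ι a ∈ Ek ι κ := subset_closure (by simp)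
theorem k4_kz : κ z ∈ Ek ι κ := subset_closure (by simp)
theorem k4_ka : κ a ∈ Ek ι κ := subset_closure (by simp)

theorem k4_U {u : J} (hu : u ∈ U) : ι u ∈ Ek ι κ := by
  rcases mem_U.1 hu with rfl | rfl | rfl | rfl
  exacts [map_one ι ▸ one_mem _, k4_z, k4_a, map_mul ι _ _ ▸ mul_mem k4_z k4_a]

theorem k4_lin (hl : Lin κ) : κ (z * a) = κ z * κ a := hl _ _ A2_z A2_a a_ne_z.symm za

theorem k4_cent {g e : G} (h1 : Commute g (ι z)) (h2 : Commute g (ι a)) (h3 : Commute g (κ z)) (h4 : Commute g (κ a))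
    (he : e ∈ Ek ι κ) : Commute g e := by
  refine (mem_centralizer_singleton_iff.1 ((closure_le (K := centralizer {g})).2 ?_ he)).symm
  rintro _ (rfl | rfl | rfl | rfl) <;> refine mem_centralizer_singleton_iff.2 ?_
  exacts [h1.symm, h2.symm, h3.symm, h4.symm]

/-- `C(U)` centralises `E` -/
theorem k4_cU (k : Kap ι t Y κ) {p : J} (hp : p * z = z * p ∧ p * a = a * p) {e : G} (he : e ∈ Ek ι κ) :
    Commute (ι p) e :=
  k4_cent (Commute.map hp.1 ι) (Commute.map hp.2 ι) (k.cen z A2_z p hp.1).symm (k.cen a A2_a p hp.2).symm he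

theorem k4_UP {u : J} (hu : u ∈ U) : u ∈ P0 := by
  rcases mem_U.1 hu with rfl | rfl | rfl | rfl
  exacts [one_mem _, z_mem_P0, a_mem_P0, mul_mem z_mem_P0 a_mem_P0]

theorem k4_Usq {u : J} (hu : u ∈ U) : u * u = 1 := by
  rcases mem_U.1 hu with rfl | rfl | rfl | rfl
  exacts [one_mul _, zz, aa, A2_za.sq]

theorem mem_Ek (k : Kap ι t Y κ) (hl : Lin κ) {x : G} : x ∈ Ek ι κ ↔
    ∃ u ∈ U, x = ι u ∨ x = ι u * κ z ∨ x = ι u * κ a ∨ x = ι u * κ (z * a) := by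
  rw [k4_lin hl]
  refine ⟨fun hx => ?_, ?_⟩
  swap
  · rintro ⟨u, hu, rfl | rfl | rfl | rfl⟩
    exacts [k4_U hu, mul_mem (k4_U hu) k4_kz, mul_mem (k4_U hu) k4_ka, mul_mem (k4_U hu) (mul_mem k4_kz k4_ka)]
  have le : closure {κ z, κ a} ≤ Ek ι κ := (closure_le _).2 (by rintro _ (rfl | rfl); exacts [k4_kz, k4_ka])
  obtain ⟨u, hu, w, hw, rfl⟩ : ∃ u ∈ U, ∃ w ∈ closure {κ z, κ a}, x = ι u * w := by
    induction hx using closure_induction with
    | mem x hx =>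
      rcases hx with rfl | rfl | rfl | rfl
      · exact ⟨z, subset_closure (by simp), 1, one_mem _, (mul_one _).symm⟩
      · exact ⟨a, subset_closure (by simp), 1, one_mem _, (mul_one _).symm⟩
      · exact ⟨1, one_mem _, κ z, subset_closure (Or.inl rfl), by rw [map_one, one_mul]⟩
      · exact ⟨1, one_mem _, κ a, subset_closure (Or.inr rfl), by rw [map_one, one_mul]⟩
    | one => exact ⟨1, one_mem _, 1, one_mem _, by simp⟩
    | mul x y _ _ hx hy =>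
      obtain ⟨u, hu, w, hw, rfl⟩ := hx
      obtain ⟨u', hu', w', hw', rfl⟩ := hy
      exact ⟨_, mul_mem hu hu', _, mul_mem hw hw', by
        rw [map_mul, (k4_cU k (P0_cent (k4_UP hu')) (le hw)).mul_mul_mul_comm]⟩
    | inv x _ hx =>
      obtain ⟨u, hu, w, hw, rfl⟩ := hx
      exact ⟨_, inv_mem hu, _, inv_mem hw, by
        rw [map_inv, ← mul_inv_rev, (k4_cU k (P0_cent (k4_UP hu)) (le hw)).eq]⟩
  refine ⟨u, hu, ?_⟩
  rcases k4_four (k.sq z A2_z) (k.sq a A2_a) (hl.comm A2_z A2_a za) hw with rfl | rfl | rfl | rfl <;> simp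

theorem Ek_fix (f : Fr ι t Y) (k : Kap ι t Y κ) (hl : Lin κ) {x : G} (hx : x ∈ Ek ι κ) (h : x * t = t * x) :
    ∃ u ∈ U, x = ι u := by
  have n : ∀ u u', A2 u' → ι u * κ u' * t ≠ t * (ι u * κ u') := fun u u' hu e =>
    f.not_comm hu.ne (k.act' hu) (mul_left_cancel (a := ι u) (by
      rw [← mul_assoc, e, ← mul_assoc, f.comm, mul_assoc]))
  obtain ⟨u, hu, rfl | rfl | rfl | rfl⟩ := (mem_Ek k hl).1 hx
  exacts [⟨u, hu, rfl⟩, absurd h (n _ _ A2_z), absurd h (n _ _ A2_a), absurd h (n _ _ A2_za)]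

theorem Ek_s (k : Kap ι t Y κ) (hl : Lin κ) {x : G} (hx : x ∈ Ek ι κ) : ι s * x * (ι s)⁻¹ ∈ Ek ι κ := by
  refine (closure_le (K := (Ek ι κ).comap (MulAut.conj (ι s)).toMonoidHom)).2 ?_ hx
  rintro _ (rfl | rfl | rfl | rfl) <;> change ι s * _ * (ι s)⁻¹ ∈ Ek ι κ
  · rw [← map_inv, ← map_mul, ← map_mul, sz]; exact k4_a
  · rw [← map_inv, ← map_mul, ← map_mul, sa, map_mul]; exact mul_mem k4_z k4_a
  · rw [k.eqv z A2_z, sz]; exact k4_ka
  · rw [k.eqv a A2_a, sa, k4_lin hl]; exact mul_mem k4_kz k4_ka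

/-- the conjugates of `b` under `P0` -/
structure K4G (c : J) : Prop where
  cl : A2 c
  cz : c * z = z * c
  ac : a * c * a * c = z

theorem k4_good {g : J} (hg : g ∈ P0) : K4G (g * b * g⁻¹) := by
  obtain ⟨h1, h2⟩ := P0_cent hg
  refine ⟨A2_b.conj g, ((Commute.mul_left h1 zb.symm).mul_left (Commute.inv_left h1)).eq, ?_⟩
  calc a * (g * b * g⁻¹) * a * (g * b * g⁻¹) = a * g * b * g⁻¹ * (a * g) * b * g⁻¹ := by group
    _ = g * (a * b * a * b) * g⁻¹ := by rw [← h2]; group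
    _ = z := by rw [abab, h1, mul_inv_cancel_right]

theorem k4_b : K4G b := ⟨A2_b, zb.symm, abab⟩

theorem K4G.lin {c : J} (h : K4G c) (hl : Lin κ) : κ (c * z) = κ c * κ z := hl _ _ h.cl A2_z (fun e => z_ne (by
  have := h.ac
  rw [e, ← za, mul_assoc z a a, aa, mul_one, zz] at this
  exact this.symm)) h.cz

theorem K4G.act {c : J} (h : K4G c) (k : Kap ι t Y κ) (hl : Lin κ) (h1 : Sq1 ι κ) :
    κ c * ι z * κ c = ι z ∧ κ c * ι a * κ c = κ z * ι a ∧ κ c * κ z * κ c = κ z ∧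
      κ c * κ a * κ c = κ a * (κ z * ι z) := by
  have q := k.sq c h.cl
  have e3 : κ c * κ z * κ c = κ z := by rw [hl.comm h.cl A2_z h.cz, mul_assoc, q, mul_one]
  have ia : a⁻¹ = a := inv_eq_of_mul_eq_one_right aa
  have e : (a * c) ^ 2 = z := by rw [sq, ← mul_assoc, h.ac]
  refine ⟨by rw [k.cen c h.cl z h.cz.symm, mul_assoc, q, mul_one], ?_, e3, ?_⟩
  · have e1 := k.eqv c h.cl a
    rw [ia, eq_mul_inv_of_mul_eq h.ac, inv_eq_of_mul_eq_one_right h.cl.sq, ← h.cz, h.lin hl] at e1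
    calc κ c * ι a * κ c = κ c * (ι a * κ c * (ι a)⁻¹) * ι a := by group
      _ = _ := by rw [e1, ← mul_assoc, q, one_mul]
  · have e1 := h1 a c A2_a h.cl (by rw [e]; exact z_ne) (by rw [show 4 = 2 * 2 from rfl, pow_mul, e, sq, zz])
    rw [e, sq] at e1
    rw [← e1, ← mul_assoc, ← mul_assoc, ← mul_assoc, k.sq a A2_a, one_mul]

theorem cenE (k : Kap ι t Y κ) (hl : Lin κ) (h1 : Sq1 ι κ) {g : J} (hg : g ∈ P0) {e : G} (he : e ∈ Ek ι κ) :
    κ b * κ (g * b * g⁻¹) * e = e * (κ b * κ (g * b * g⁻¹)) := by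
  obtain ⟨a1, a2, a3, a4⟩ := k4_b.act k hl h1
  obtain ⟨b1, b2, b3, b4⟩ := (k4_good hg).act k hl h1
  have q := k.sq b A2_b
  have q' := k.sq _ (k4_good hg).cl
  generalize κ (g * b * g⁻¹) = c at *
  have m : ∀ x, κ b * x * κ b = c * x * c → Commute (κ b * c) x := fun x h => by
    calc κ b * c * x = κ b * (c * x * c) * c := by rw [mul_assoc (κ b), mul_assoc (κ b), mul_assoc _ c c, q', mul_one]
      _ = x * (κ b * c) := by rw [← h, ← mul_assoc, ← mul_assoc, q, one_mul, mul_assoc]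
  exact k4_cent (m _ (a1.trans b1.symm)) (m _ (a2.trans b2.symm)) (m _ (a3.trans b3.symm)) (m _ (a4.trans b4.symm)) he

/-- conjugating `κ c` by an element which maps `c` into `c ⟨z⟩` -/
theorem K4G.cj {c x : J} (h : K4G c) (k : Kap ι t Y κ) (hl : Lin κ) (e : x * c * x⁻¹ = c ∨ x * c * x⁻¹ = c * z) :
    ∃ n ∈ zpowers (κ z), ι x * κ c = κ c * n * ι x := by
  have e1 := eq_mul_of_mul_inv_eq (k.eqv c h.cl x)
  rcases e with e | e <;> rw [e] at e1
  exacts [⟨1, one_mem _, by rwa [mul_one]⟩, ⟨_, mem_zpowers _, by rwa [h.lin hl] at e1⟩]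

theorem k4_key {X m n p u y : G} (h : X⁻¹ * m * X = n * y) (h1 : Commute p n) (h2 : p * y * p⁻¹ = u * y)
    (h3 : Commute u n) (h4 : Commute X u) : X * p * X⁻¹ * m * (X * p * X⁻¹)⁻¹ = u * m := by
  calc _ = X * (p * (X⁻¹ * m * X) * p⁻¹) * X⁻¹ := by group
    _ = X * (n * (p * y * p⁻¹)) * X⁻¹ := by rw [h, ← mul_assoc p, h1.eq]; group
    _ = X * u * (n * y) * X⁻¹ := by rw [h2, ← mul_assoc n, ← h3.eq]; group
    _ = _ := by rw [h4.eq, ← h]; group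

theorem nrm (f : Fr ι t Y) (k : Kap ι t Y κ) (hl : Lin κ) (h1 : Sq1 ι κ) {g p : J} (hg : g ∈ P0) (hp : p ∈ P0) :
    ∃ e ∈ Ek ι κ, κ b * κ (g * b * g⁻¹) * ι p * (κ b * κ (g * b * g⁻¹))⁻¹ = ι p * e := by
  have hX : ∀ e ∈ Ek ι κ, Commute (κ b * κ (g * b * g⁻¹)) e := fun e he => cenE k hl h1 hg he
  have hc := k4_good hg
  have hq : ∀ x, x = b * (x1 * b * x1⁻¹) ∨ x = r * (b * (x1 * b * x1⁻¹)) * r⁻¹ → _ := fun x hx => qf hg (k := x) hx
  have ib : b⁻¹ = b := inv_eq_of_mul_eq_one_right bb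
  have hy : g * b * g⁻¹ * b ∈ P0 := by
    have := mul_mem hg (b_norm (inv_mem hg))
    rwa [ib, ← mul_assoc, ← mul_assoc] at this
  generalize g * b * g⁻¹ = c at hX hc hq hy ⊢
  have le : zpowers (κ z) ≤ Ek ι κ := zpowers_le.2 k4_kz
  have cP : ∀ {x e}, x ∈ P0 → e ∈ Ek ι κ → Commute (ι x) e := fun hx he => k4_cU k (P0_cent hx) he
  have cz : ∀ {c n}, K4G c → n ∈ zpowers (κ z) → Commute (κ c) n := fun h ⟨i, e⟩ =>
    e ▸ Commute.zpow_right (hl.comm h.cl A2_z h.cz) i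
  have ct : ∀ l, Commute (ι l) t := fun l => (f.comm l).symm
  have cj : ∀ y, ι p * ι y * (ι p)⁻¹ = ι (p * y * p⁻¹ * y⁻¹) * ι y := fun y => by
    simp only [map_mul, map_inv, inv_mul_cancel_right]
  -- the action on `t`
  obtain ⟨n, hn, en⟩ := hc.cj k hl (x := b) (by
    have e : b * c * b⁻¹ = c * (c * b * (c * b)) := by
      rw [ib, ← mul_assoc c, ← mul_assoc c, hc.cl.sq, one_mul, mul_assoc]
    have e2 := (hc.cl.conj b).sq
    have e3 : c * a * (c * a) = z := by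
      calc _ = a⁻¹ * (a * c * a * c) * a := by group
        _ = z := by rw [hc.ac, mul_assoc, za, inv_mul_cancel_left]
    rw [e] at e2 ⊢
    rcases mem_U.1 (P0_sq hy) with e | e | e | e <;> rw [e] at e2 ⊢
    · exact Or.inl (mul_one c)
    · exact Or.inr rfl
    · exact absurd (e3.symm.trans e2) z_ne
    · rw [← mul_assoc c, hc.cz, mul_assoc z, (Commute.mul_left hc.cz za.symm).mul_mul_mul_comm, zz, one_mul] at e2
      exact absurd (e3.symm.trans e2) z_ne)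
  have e1 : (κ b * κ c)⁻¹ * t * (κ b * κ c) = t * n * ι (c * b) := by
    have cn : Commute (ι c) n := by
      obtain ⟨i, rfl⟩ := hn
      exact Commute.zpow_right (k.cen z A2_z c hc.cz).symm i
    calc _ = κ c * (κ b * t * κ b) * κ c := by rw [mul_inv_rev, k.inv hc.cl, k.inv A2_b]; group
      _ = κ c * t * (ι b * κ c) := by rw [k.act b A2_b]; group
      _ = κ c * t * κ c * n * ι b := by rw [en]; group
      _ = _ := by rw [k.act c hc.cl, mul_assoc t, cn.eq, map_mul]; group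
  -- the action on `x0` and its conjugate
  have e2 : ∀ x, x = b * (x1 * b * x1⁻¹) ∨ x = r * (b * (x1 * b * x1⁻¹)) * r⁻¹ →
      ∃ n ∈ Ek ι κ, (κ b * κ c)⁻¹ * ι x * (κ b * κ c) = n * ι x := fun x hx => by
    obtain ⟨n1, m1, i1⟩ := k4_b.cj k hl (x := x) (by simpa using qf (one_mem _) hx)
    obtain ⟨n2, m2, i2⟩ := hc.cj k hl (hq x hx)
    refine ⟨n1 * n2, le (mul_mem m1 m2), ?_⟩
    calc _ = (κ b * κ c)⁻¹ * (ι x * κ b * κ c) := by group
      _ = (κ b * κ c)⁻¹ * (κ b * (n1 * κ c) * n2 * ι x) := by rw [i1, mul_assoc _ (ι x), i2]; group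
      _ = _ := by rw [← (cz hc m1).eq]; group
  generalize κ b * κ c = X at hX e1 e2 ⊢
  have hu := P0_comm hp hy
  have e3 := k4_key e1 ((ct p).mul_right (cP hp (le hn))) (cj _) ((ct _).mul_right (cP (k4_UP hu) (le hn)))
    (hX _ (k4_U hu))
  have e4 : ∀ x ∈ P0, x = b * (x1 * b * x1⁻¹) ∨ x = r * (b * (x1 * b * x1⁻¹)) * r⁻¹ →
      X * ι p * X⁻¹ * ι x * (X * ι p * X⁻¹)⁻¹ = ι p * ι x * (ι p)⁻¹ := fun x m hx => by
    obtain ⟨n, hn, e⟩ := e2 x hx
    rw [k4_key e (cP hp hn) (cj _) (cP (k4_UP (P0_comm hp m)) hn) (hX _ (k4_U (P0_comm hp m))), cj]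
  have e5 : ∀ e ∈ Ek ι κ, Commute (X * ι p * X⁻¹) e := fun e he =>
    ((hX e he).mul_left (cP hp he)).mul_left (hX e he).inv_left
  have p4 : ∀ x ∈ P0, ι x ^ 2 ^ 2 = 1 := fun x hx => by
    rw [← map_pow, sq 2, pow_mul, sq, sq, k4_Usq (P0_sq hx), map_one]
  have e6 : (X * ι p * X⁻¹) ^ 2 ^ 2 = 1 := by rw [conj_pow, p4 p hp, mul_one, mul_inv_cancel]
  generalize X * ι p * X⁻¹ = q at e3 e4 e5 e6 ⊢
  generalize p * (c * b) * p⁻¹ * (c * b)⁻¹ = u at hu e3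
  obtain ⟨j, hj, j1, j2, j3⟩ : ∃ j ∈ Ek ι κ, j * j = 1 ∧ j * t * j⁻¹ = t * ι u ∧ Commute j (κ z) := by
    have m : ∀ u, A2 u → u * z = z * u → κ u ∈ Ek ι κ →
        ∃ j ∈ Ek ι κ, j * j = 1 ∧ j * t * j⁻¹ = t * ι u ∧ Commute j (κ z) := fun u h1 h2 h3 =>
      ⟨_, h3, k.sq u h1, k.act' h1, hl.comm h1 A2_z h2⟩
    rcases mem_U.1 hu with rfl | rfl | rfl | rfl
    · exact ⟨1, one_mem _, by simp⟩
    · exact m _ A2_z rfl k4_kz
    · exact m _ A2_a za.symm k4_ka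
    · exact m _ A2_za (by rw [mul_assoc, za]) (k4_lin hl ▸ mul_mem k4_kz k4_ka)
  have t1 : Commute ((ι p)⁻¹ * (q * j)) t := by
    refine (ct p).inv_left.mul_left (mul_inv_eq_iff_eq_mul.1 ?_)
    calc q * j * t * (q * j)⁻¹ = q * (j * t * j⁻¹) * q⁻¹ := by group
      _ = q * t * q⁻¹ * ι u := by rw [j2, mul_assoc (q * t) q⁻¹, (e5 _ (k4_U hu)).inv_left.eq]; group
      _ = t := by rw [e3, ← f.comm, mul_assoc, ← map_mul, k4_Usq hu, map_one, mul_one]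
  obtain ⟨φ, hφ⟩ := f.act _ t1
  have fx : ∀ x ∈ P0, q * ι x * q⁻¹ = ι p * ι x * (ι p)⁻¹ → φ x = x := fun x hx e => f.inj (by
    rw [← hφ]
    calc _ = (ι p)⁻¹ * (q * (j * ι x * j⁻¹) * q⁻¹) * ι p := by group
      _ = _ := by rw [← (cP hx hj).eq, mul_inv_cancel_right, e]; group)
  have fU : ∀ x ∈ U, φ x = x := fun x hx => fx x (k4_UP hx) (by
    rw [(e5 _ (k4_U hx)).eq, (cP hp (k4_U hx)).eq, mul_inv_cancel_right, mul_inv_cancel_right])
  obtain ⟨u', hu', h'⟩ := cl φ (fU z (subset_closure (by simp))) (fU a (subset_closure (by simp)))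
    (fx _ x0_mem_P0 (e4 _ x0_mem_P0 (Or.inl rfl))) (fx _ (r_norm x0_mem_P0) (e4 _ (r_norm x0_mem_P0) (Or.inr rfl)))
  obtain ⟨y, hy', e | e⟩ := f.dec t1 (l := u') fun x => by rw [hφ, h']
  · have e7 : q * j = ι (p * u') * y := by rw [map_mul, mul_assoc, ← e, mul_inv_cancel_left]
    have e8 : (q * j) ^ 2 ^ 2 = 1 := by
      rw [(e5 j hj).mul_pow, e6, one_mul, sq 2, pow_mul, sq j, j1, one_pow]
    rw [e7, Commute.mul_pow (f.yl y hy' _).symm, p4 _ (mul_mem hp (k4_UP hu')), one_mul] at e8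
    rw [f.y_one hy' e8, mul_one, map_mul] at e7
    exact ⟨ι u' * j⁻¹, mul_mem (k4_U hu') (inv_mem hj), by rw [← mul_assoc, ← e7, mul_inv_cancel_right]⟩
  · have c1 : Commute ((ι p)⁻¹ * (q * j)) (κ z) := (cP hp k4_kz).inv_left.mul_left ((e5 _ k4_kz).mul_left j3)
    have c2 : Commute (ι u' * y) (κ z) := (cP (k4_UP hu') k4_kz).mul_left (k.cY z A2_z y hy').symm
    have c3 := c2.inv_left.mul_left (e ▸ c1)
    rw [inv_mul_cancel_left] at c3
    exact absurd c3.symm (f.not_comm z_ne (k.act' A2_z))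

end CfsgLib.SJ
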