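import Mathlib
import Cfsg.Agent.Lib.SJ.K4a

/-! # SJ package K4B: the field type relation `Sq1` is impossible.
`x0 = b (x1 b x1⁻¹)`, `b1 = s b s⁻¹`, `b2 = s⁻¹ b s`; `X0 = κ b κ (x1 b x1⁻¹)`, `X1 = κ b1 κ (x0 b1 x0⁻¹)`, `X2 = κ b2 κ (x1 b2 x1⁻¹)`
(`= κ b2 κ (x0 b2 x0⁻¹)`, `y2_eq`).  `X1, X2` are `ι s^{±1}`-conjugates of elements as in `nrm`/`cenE` (`eqv`, `s_norm`, `Ek_s`, `s3`), so all three
centralise `E` and act trivially on `ι P0` modulo `E`.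
Generic computation: for `c` in 2A, `g` with `g² c g⁻² = c e`, `e = (c · g c g⁻¹)²` in 2A commuting with `c`, `X = κ c κ (g c g⁻¹)`:
`ι g X (ι g)⁻¹ = X⁻¹ κ e = X ι e` (`Sq1`), and with `y = c · g c g⁻¹`: `ι y` commutes with `X`, `X t X⁻¹ = t ι y κ e`.
So `X0 : x0 ↦ x0, x1 ↦ x1 z`; `X1 : x0 ↦ x0 a, x1 ↦ x1` (`y1_eq`); `X2 : x0 ↦ x0 z a, x1 ↦ x1 z a`.
`p = X0 X1 X2`: `p t p⁻¹ = t ι a` (`y3_eq`, `κ z κ a κ (z a) = 1`), `p' = κ a p ∈ C(t)` acts as `φ` with `φ z = z`, `φ a = a`, `q⁻¹ φ q ∈ U` on `P0`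
(`Ek_fix`), `φ x0 = x0 z`, `φ x1 = x1 a`.  `fi` and `no_inv` give the contradiction. -/

set_option autoImplicit false

namespace CfsgLib.SJ

open Subgroup Cfsg

variable {G : Type*} [Group G] {ι : J →* G} {t : G} {Y : Subgroup G} {κ : J → G}

theorem k4b_gen (k : Kap ι t Y κ) (hl : Lin κ) (h1 : Sq1 ι κ) {c g e : J} (hc : A2 c) (he : A2 e)
    (ce : c ≠ e) (ec : e * c = c * e) (eg : e * g = g * e) (hy : (c * (g * c * g⁻¹)) ^ 2 = e)
    (hg : g * (g * c * g⁻¹) * g⁻¹ = c * e) {X : G} (hX : X = κ c * κ (g * c * g⁻¹)) :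
    X * ι g * X⁻¹ = ι g * ι e ∧ X * ι (c * (g * c * g⁻¹)) * X⁻¹ = ι (c * (g * c * g⁻¹)) ∧
      X * t * X⁻¹ = t * ι (c * (g * c * g⁻¹)) * κ e := by
  have hd := hc.conj g
  have de : g * c * g⁻¹ ≠ e := fun h => ce (by
    rw [mul_inv_eq_iff_eq_mul, eg] at h
    exact mul_left_cancel h)
  have ed : e * (g * c * g⁻¹) = g * c * g⁻¹ * e := by
    calc _ = e * g * c * g⁻¹ := by group
      _ = g * (c * e * g⁻¹ * e⁻¹) * e := by rw [eg, mul_assoc g e, ec]; group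
      _ = g * (c * (e * g⁻¹ * e⁻¹)) * e := by group
      _ = _ := by rw [show e * g⁻¹ * e⁻¹ = (e * g * e⁻¹)⁻¹ by group, eg]; group
  have q1 := k.eqv c hc g
  generalize g * c * g⁻¹ = d at *
  have sq := h1 c d hc hd (by rw [hy]; exact he.ne) (by rw [show 4 = 2 * 2 from rfl, pow_mul, hy, pow_two, he.sq])
  rw [hy, ← hX] at sq
  have l1 := hl c e hc he ce ec.symm
  have l2 := hl d e hd he de ed.symm
  have m1 := hl.comm he hd ed
  have ε2 : (ι e)⁻¹ = ι e := by rw [← map_inv, inv_eq_of_mul_eq_one_right he.sq]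
  have ci : c⁻¹ = c := inv_eq_of_mul_eq_one_right hc.sq
  have di : d⁻¹ = d := inv_eq_of_mul_eq_one_right hd.sq
  have Xi : X⁻¹ = κ d * κ c := by rw [hX, mul_inv_rev, k.inv hc, k.inv hd]
  have Xe : X * ι e = ι e * X := by rw [hX, mul_assoc, k.cen d hd e ed, ← mul_assoc, k.cen c hc e ec, mul_assoc]
  have c1 : c * d * c⁻¹ = d * e := by
    rw [ci, ← ed, ← hy, pow_two, mul_assoc _ _ d, mul_assoc c d d, hd.sq, mul_one]
  have c2 : d * c * d⁻¹ = c * e := by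
    rw [di, ← hy, pow_two, ← mul_assoc, ← mul_assoc, ← mul_assoc, hc.sq, one_mul]
  have q2 := k.eqv d hd g
  have q3 := k.eqv c hc c
  have q4 := k.eqv d hd c
  have q5 := k.eqv c hc d
  have q6 := k.eqv d hd d
  rw [hg, l1] at q2
  rw [mul_inv_cancel_right] at q3 q6
  rw [c1, l2] at q4
  rw [c2, l1] at q5
  refine ⟨?_, ?_, ?_⟩
  · have a1 : ι g * X * (ι g)⁻¹ = X * ι e := by
      calc _ = X⁻¹ * κ e := by rw [Xi, mul_assoc (κ d), ← q1, ← q2, hX]; group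
        _ = X * (X ^ 2)⁻¹ * κ e := by group
        _ = X * (ι e)⁻¹ := by rw [sq]; group
        _ = _ := by rw [ε2]
    calc _ = (ι e)⁻¹ * (ι e * X) * ι g * X⁻¹ := by group
      _ = (ι e)⁻¹ * ι g := by rw [← Xe, ← a1]; group
      _ = _ := by rw [ε2, ← map_mul, eg, map_mul]
  · have a1 : ι d * X * (ι d)⁻¹ = X * κ e := by
      calc _ = ι d * κ c * (ι d)⁻¹ * (ι d * κ d * (ι d)⁻¹) := by rw [hX]; group
        _ = _ := by rw [q5, q6, mul_assoc, m1, hX, mul_assoc]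
    have a2 : ι c * X * (ι c)⁻¹ = X * κ e := by
      calc _ = ι c * κ c * (ι c)⁻¹ * (ι c * κ d * (ι c)⁻¹) := by rw [hX]; group
        _ = _ := by rw [q3, q4, hX, mul_assoc]
    have a3 : ι c * ι d * X * (ι c * ι d)⁻¹ = X := by
      calc _ = ι c * (ι d * X * (ι d)⁻¹) * (ι c)⁻¹ := by group
        _ = ι c * X * (κ e * ι c⁻¹) := by rw [a1, map_inv]; group
        _ = ι c * X * (ι c)⁻¹ * κ e := by rw [ci, k.cen e he c ec.symm, ← map_inv, ci]; group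
        _ = _ := by rw [a2, mul_assoc, k.sq e he, mul_one]
    rw [map_mul, mul_inv_eq_iff_eq_mul, ← mul_inv_eq_iff_eq_mul.1 a3]
  · have a1 : ι d * κ c = κ c * κ e * ι d := mul_inv_eq_iff_eq_mul.1 q5
    calc _ = κ c * (κ d * t * κ d) * κ c := by rw [Xi, hX]; group
      _ = κ c * t * (ι d * κ c) := by rw [k.act d hd]; group
      _ = κ c * t * κ c * (κ e * ι d) := by rw [a1]; group
      _ = _ := by rw [k.act c hc, k.cen e he d ed.symm, map_mul]; group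

/-- `X` centralises `E` and `P0 E / E` -/
def K4Tr (ι : J →* G) (κ : J → G) (X : G) : Prop :=
  (∀ e ∈ Ek ι κ, X * e = e * X) ∧ ∀ q ∈ P0, ∃ e ∈ Ek ι κ, X * ι q * X⁻¹ = ι q * e

theorem K4Tr.mul {X X' : G} (h : K4Tr ι κ X) (h' : K4Tr ι κ X') : K4Tr ι κ (X * X') := by
  refine ⟨fun e he => by rw [mul_assoc, h'.1 e he, ← mul_assoc, h.1 e he, mul_assoc], fun q hq => ?_⟩
  obtain ⟨e, he, h1⟩ := h.2 q hq
  obtain ⟨e', he', h2⟩ := h'.2 q hq
  refine ⟨e * e', mul_mem he he', ?_⟩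
  calc _ = X * (X' * ι q * X'⁻¹) * X⁻¹ := by group
    _ = X * ι q * X⁻¹ * (X * e') * X⁻¹ := by rw [h2]; group
    _ = _ := by rw [h1, h.1 e' he']; group

theorem k4b_tr (f : Fr ι t Y) (k : Kap ι t Y κ) (hl : Lin κ) (h1 : Sq1 ι κ) {l g : J} (hg : g ∈ P0)
    (p1 : ∀ p ∈ P0, l⁻¹ * p * l⁻¹⁻¹ ∈ P0) (e1 : ∀ e ∈ Ek ι κ, ι l * e * (ι l)⁻¹ ∈ Ek ι κ)
    (e2 : ∀ e ∈ Ek ι κ, ι l⁻¹ * e * (ι l⁻¹)⁻¹ ∈ Ek ι κ) :
    K4Tr ι κ (κ (l * b * l⁻¹) * κ (g * (l * b * l⁻¹) * g⁻¹)) := by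
  have hg' := p1 g hg
  have e : κ (l * b * l⁻¹) * κ (g * (l * b * l⁻¹) * g⁻¹) =
      ι l * (κ b * κ (l⁻¹ * g * l⁻¹⁻¹ * b * (l⁻¹ * g * l⁻¹⁻¹)⁻¹)) * (ι l)⁻¹ := by
    rw [← k.eqv b A2_b l, show g * (l * b * l⁻¹) * g⁻¹ =
      l * (l⁻¹ * g * l⁻¹⁻¹ * b * (l⁻¹ * g * l⁻¹⁻¹)⁻¹) * l⁻¹ by group, ← k.eqv _ (A2_b.conj _) l]
    group
  rw [e]
  have c1 := fun e he => cenE k hl h1 hg' (e := e) he
  have c2 := fun q hq => nrm f k hl h1 hg' (p := q) hq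
  generalize κ b * κ (l⁻¹ * g * l⁻¹⁻¹ * b * (l⁻¹ * g * l⁻¹⁻¹)⁻¹) = X at c1 c2
  refine ⟨fun e he => ?_, fun q hq => ?_⟩
  · have := c1 _ (e2 e he)
    rw [map_inv] at this
    calc _ = ι l * (X * ((ι l)⁻¹ * e * (ι l)⁻¹⁻¹)) * (ι l)⁻¹ := by group
      _ = _ := by rw [this]; group
  · obtain ⟨e, he, h⟩ := c2 _ (p1 q hq)
    simp only [map_mul, map_inv] at h
    refine ⟨_, e1 e he, ?_⟩
    calc _ = ι l * (X * ((ι l)⁻¹ * ι q * (ι l)⁻¹⁻¹) * X⁻¹) * (ι l)⁻¹ := by group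
      _ = _ := by rw [h]; group

theorem k4 (f : Fr ι t Y) (k : Kap ι t Y κ) (hl : Lin κ) (h1 : Sq1 ι κ) : False := by
  have si : s⁻¹ = s * s := mr_si
  have sP : ∀ p ∈ P0, s⁻¹ * p * s⁻¹⁻¹ ∈ P0 := fun p hp => by
    have := s_norm (s_norm hp)
    rwa [show s * (s * p * s⁻¹) * s⁻¹ = s * s * p * (s * s)⁻¹ by group, ← si] at this
  have sE : ∀ e ∈ Ek ι κ, ι s⁻¹ * e * (ι s⁻¹)⁻¹ ∈ Ek ι κ := fun e he => by
    have := Ek_s k hl (Ek_s k hl he)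
    rwa [show ι s * (ι s * e * (ι s)⁻¹) * (ι s)⁻¹ = ι s * ι s * e * (ι s * ι s)⁻¹ by group, ← map_mul, ← si] at this
  have T0 : K4Tr ι κ (κ b * κ (x1 * b * x1⁻¹)) :=
    ⟨fun e he => cenE k hl h1 x1_mem_P0 he, fun q hq => nrm f k hl h1 x1_mem_P0 hq⟩
  have T1 := k4b_tr f k hl h1 (l := s) x0_mem_P0 sP (fun e he => Ek_s k hl he) sE
  have T2 := k4b_tr f k hl h1 (l := s⁻¹) x1_mem_P0 (fun p hp => by simpa using s_norm hp) sE
    (fun e he => by simpa using Ek_s k hl he)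
  rw [inv_inv] at T2
  have zi : z⁻¹ = z := inv_eq_of_mul_eq_one_right zz
  have ai : a⁻¹ = a := inv_eq_of_mul_eq_one_right aa
  have aba : a * b * a⁻¹ = b * z := by rw [ai, ← zb, ← abab, mul_assoc _ b b, bb, mul_one]
  have bz : b ≠ z := fun e => z_ne (by rw [← abab, e, ← za, mul_assoc z, aa, mul_one, zz])
  have sza : s * (z * a) * s⁻¹ = z := by
    rw [show s * (z * a) * s⁻¹ = s * z * s⁻¹ * (s * a * s⁻¹) by group, sz, sa, ← mul_assoc, ← za, mul_assoc, aa,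
      mul_one]
  have z0 := (P0_cent x0_mem_P0).1
  have a0 := (P0_cent x0_mem_P0).2
  have a1 := (P0_cent x1_mem_P0).2
  -- relations for `b1`
  have r1 : a * (s * b * s⁻¹) = s * b * s⁻¹ * a := by
    rw [← sz]
    calc _ = s * (z * b) * s⁻¹ := by group
      _ = _ := by rw [zb]; group
  have r2 : z * (s * b * s⁻¹) * z⁻¹ = s * b * s⁻¹ * a := by
    calc _ = s * (z * (a * b * a⁻¹) * z⁻¹) * s⁻¹ := by
          conv_lhs => rw [← sza]
          group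
      _ = s * b * s⁻¹ * (s * z * s⁻¹) := by rw [aba, ← mul_assoc z, zb]; group
      _ = _ := by rw [sz]
  have r3' : s * b * s⁻¹ ≠ a := fun e => bz (by
    rw [← sz] at e
    exact mul_left_cancel (mul_right_cancel e))
  -- relations for `b2`
  have zs : z * a = s⁻¹ * z * s := by
    conv_rhs => rw [← sza]
    group
  have as' : z = s⁻¹ * a * s := by rw [← sz]; group
  have r4 : z * a * (s⁻¹ * b * s) = s⁻¹ * b * s * (z * a) := by
    rw [zs]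
    calc _ = s⁻¹ * (z * b) * s := by group
      _ = _ := by rw [zb]; group
  have r5 : z * (s⁻¹ * b * s) * z⁻¹ = s⁻¹ * b * s * (z * a) := by
    calc _ = s⁻¹ * (a * b * a⁻¹) * s := by
          conv_lhs => rw [as']
          group
      _ = _ := by rw [aba, zs]; group
  have r6 : a * (s⁻¹ * b * s) * a⁻¹ = s⁻¹ * b * s * (z * a) := by
    calc _ = z⁻¹ * (z * a * (s⁻¹ * b * s)) * a⁻¹ := by group
      _ = z * (s⁻¹ * b * s) * z⁻¹ := by rw [r4, zi]; group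
      _ = _ := r5
  have r7 : s⁻¹ * b * s ≠ z * a := fun e => bz (by
    rw [zs] at e
    exact mul_left_cancel (mul_right_cancel e))
  have cj : ∀ g c : J, g * (g * c * g⁻¹) * g⁻¹ = g * g * c * (g * g)⁻¹ := fun g c => by group
  have q0 := x0_sq
  have y1 := y1_eq
  have y2 := y2_eq
  have y3 := eq_inv_of_mul_eq_one_right y3_eq
  have c01 := x0x1
  have m0 := x0_mem_P0
  have ni := fun p hp => no_inv (p := p) hp
  obtain ⟨A1, A2', A3⟩ := k4b_gen k hl h1 A2_b A2_z bz zb x1z.symm x0_sq (by rw [cj, x1_sq, aba]) rfl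
  generalize b * (x1 * b * x1⁻¹) = x0 at *
  have q2 : (s⁻¹ * b * s * (x1 * (s⁻¹ * b * s) * x1⁻¹)) ^ 2 = z * a := by
    rw [y3, inv_pow, (show Commute x0 x1 from c01).mul_pow, q0, pow_two, x1_sq, mul_inv_rev, zi, ai, za]
  have hb2 : A2 (s⁻¹ * b * s) := by simpa using A2_b.conj s⁻¹
  obtain ⟨B1, B2', B3⟩ := k4b_gen (g := x0) k hl h1 (A2_b.conj s) A2_a r3' r1 a0.symm (by rw [y1, pow_two, x1_sq])
    (by rw [cj, ← pow_two, q0, r2]) rfl
  obtain ⟨C1, -, C3⟩ := k4b_gen (g := x1) k hl h1 hb2 A2_za r7 r4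
    (by rw [mul_assoc, ← a1, ← mul_assoc, ← x1z, mul_assoc]) q2 (by rw [cj, x1_sq, r6]) rfl
  obtain ⟨C2, -, -⟩ := k4b_gen (g := x0) k hl h1 hb2 A2_za r7 r4
    (by rw [mul_assoc, ← a0, ← mul_assoc, ← z0, mul_assoc]) (by rw [y2, q2]) (by rw [cj, ← pow_two, q0, r5]) rfl
  rw [y2] at C2
  rw [y1] at B2' B3
  rw [y3] at C3
  generalize κ b * κ (x1 * b * x1⁻¹) = X0 at *
  generalize κ (s * b * s⁻¹) * κ (x0 * (s * b * s⁻¹) * x0⁻¹) = X1 at *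
  generalize κ (s⁻¹ * b * s) * κ (x1 * (s⁻¹ * b * s) * x1⁻¹) = X2 at *
  have mz : ι z ∈ Ek ι κ := subset_closure (by simp)
  have ma : ι a ∈ Ek ι κ := subset_closure (by simp)
  have nz : κ z ∈ Ek ι κ := subset_closure (by simp)
  have na : κ a ∈ Ek ι κ := subset_closure (by simp)
  have F : ∀ {X}, K4Tr ι κ X → ∀ e ∈ Ek ι κ, MulAut.conj X e = e := fun h e he =>
    mul_inv_eq_iff_eq_mul.2 (h.1 e he)
  have kza := hl z a A2_z A2_a a_ne_z.symm za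
  have k0 : Commute (κ a) (ι x0) := k.cen a A2_a _ a0
  have k1 : Commute (κ a) (ι x1) := k.cen a A2_a _ a1
  have k2 : Commute (κ a) (ι a) := k.self A2_a
  have k3 : Commute (κ a) (ι z) := k.cen a A2_a _ za
  have k4 : Commute (κ z) (ι x0) := k.cen z A2_z _ z0
  have k5 : Commute (κ z) (ι a) := k.cen z A2_z _ za.symm
  have k6 : Commute (ι x0) (ι a) := Commute.map a0 ι
  have k7 : κ a * κ z * κ a = κ z := by
    rw [← hl.comm A2_z A2_a za, mul_assoc, k.sq a A2_a, mul_one]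
  have ia : (ι a)⁻¹ = ι a := by rw [← map_inv, ai]
  have iaa : ι a * ι a = 1 := by rw [← map_mul, aa, map_one]
  have izz : ι z * ι z = 1 := by rw [← map_mul, zz, map_one]
  change MulAut.conj X0 _ = _ at A1 A2' A3
  change MulAut.conj X1 _ = _ at B1 B2' B3
  change MulAut.conj X2 _ = _ at C1 C2 C3
  have cp : ∀ x, κ a * (X0 * X1 * X2) * x * (κ a * (X0 * X1 * X2))⁻¹ =
      κ a * MulAut.conj X0 (MulAut.conj X1 (MulAut.conj X2 x)) * (κ a)⁻¹ := fun x => by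
    simp only [MulAut.conj_apply]; group
  have D1 : MulAut.conj X1 (MulAut.conj X2 t) = t * (ι a)⁻¹ * (ι x0)⁻¹ * κ z := by
    rw [C3, kza]
    simp only [map_mul, map_inv, B1, B2', B3, F T1 _ nz, F T1 _ na]
    rw [mul_assoc (t * ι x1) (κ a), ((k0.mul_right k2).mul_right k1).inv_right.eq, ← k7]
    conv_lhs => rw [k7]
    group
  have D2 : MulAut.conj X0 (MulAut.conj X1 (MulAut.conj X2 t)) = t * ι a := by
    rw [D1]
    simp only [map_mul, map_inv, A2', A3, F T0 _ nz, F T0 _ ma]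
    calc _ = t * ι x0 * (κ z * (ι x0 * ι a)⁻¹) * κ z := by group
      _ = t * (ι x0 * (ι x0 * ι a)⁻¹) * (κ z * κ z) := by rw [(k4.mul_right k5).inv_right.eq]; group
      _ = _ := by rw [k.sq z A2_z, k6.eq, mul_inv_rev, ia]; group
  have ht : κ a * (X0 * X1 * X2) * t = t * (κ a * (X0 * X1 * X2)) := by
    rw [← mul_inv_eq_iff_eq_mul, cp, D2, ← mul_assoc, mul_assoc _ (ι a), ← k2.inv_left.eq, ← mul_assoc,
      k.act' A2_a, mul_assoc, iaa, mul_one]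
  obtain ⟨φ, hφ⟩ := f.act _ ht
  have T := (T0.mul T1).mul T2
  obtain ⟨y, hy, e⟩ := fi φ
    (f.inj (by rw [← hφ, cp, F T2 _ mz, F T1 _ mz, F T0 _ mz, k3.eq, mul_inv_cancel_right]))
    (f.inj (by rw [← hφ, cp, F T2 _ ma, F T1 _ ma, F T0 _ ma, k2.eq, mul_inv_cancel_right])) fun q hq => by
      obtain ⟨e, he, h⟩ := T.2 q hq
      have h2 : ι (q⁻¹ * φ q) = κ a * e * (κ a)⁻¹ := by
        rw [map_mul, ← hφ, map_inv]
        calc _ = (ι q)⁻¹ * (κ a * (X0 * X1 * X2 * ι q * (X0 * X1 * X2)⁻¹) * (κ a)⁻¹) := by group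
          _ = _ := by rw [h, ← mul_assoc (κ a), k.cen a A2_a q (P0_cent hq).2]; group
      obtain ⟨u, hu, h3⟩ := Ek_fix f k hl (h2 ▸ mul_mem (mul_mem na he) (inv_mem na)) (f.comm _).symm
      exact f.inj h3 ▸ hu
  refine ni y hy (f.inj ?_) (f.inj ?_)
  · rw [← e, ← hφ, cp, C2]
    simp only [map_mul, B1, A2', F T1 _ mz, F T1 _ ma, F T0 _ mz, F T0 _ ma]
    rw [← map_mul ι z, za, map_mul, mul_assoc (ι x0), ← mul_assoc (ι a), iaa, one_mul, (k0.mul_right k3).eq,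
      mul_inv_cancel_right]
  · rw [← e, ← hφ, cp, C1]
    simp only [map_mul, B2', A1, F T1 _ mz, F T1 _ ma, F T0 _ mz, F T0 _ ma]
    rw [mul_assoc (ι x1), ← mul_assoc (ι z), izz, one_mul, (k1.mul_right k2).eq, mul_inv_cancel_right]

end CfsgLib.SJ
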