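import Mathlib
import Cfsg.Agent.Lib.SJ.K3

/-! # SJ package K5: the two systems `κ u` and `κ' u = κ u ι u` commute.
Near pairs `(u u')^4 = 1`: equal or commuting pairs by `Lin.comm`, `cen` (if `(u u')² = 1` then `u, u'` commute); order 4: by `tr4`, `eqv` reduce to
`κ' a κ b κ' a = κ a κ (a b a) κ a = κ a κ b κ a κ z = κ b` (`a b a = b z`, `Lin`, `Sq0`), and symmetrically.
Then `clo` with `S u := κ' u` commutes with `κ z`: for a near pair `κ' u κ' u' κ' u = ι u κ' u' ι u = κ' (u u' u)`.  General pairs by conjugation. -/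

set_option autoImplicit false

namespace CfsgLib.SJ

open Subgroup Cfsg

variable {G : Type*} [Group G] {ι : J →* G} {t : G} {Y : Subgroup G} {κ : J → G}

theorem k5_eqv (k : Kap ι t Y κ) {u : J} (hu : A2 u) (l : J) :
    κ (l * u * l⁻¹) * ι (l * u * l⁻¹) = ι l * (κ u * ι u) * (ι l)⁻¹ := by
  rw [← k.eqv u hu, map_mul, map_mul, map_inv]; group

theorem k5_near (k : Kap ι t Y κ) (hl : Lin κ) (h0 : Sq0 κ) {u u' : J} (hu : A2 u) (hu' : A2 u')
    (h4 : (u * u') ^ 4 = 1) : Commute (κ u) (κ u' * ι u') := by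
  have iu : u⁻¹ = u := inv_eq_of_mul_eq_one_right hu.sq
  have iu' : u'⁻¹ = u' := inv_eq_of_mul_eq_one_right hu'.sq
  by_cases h2 : (u * u') ^ 2 = 1
  · have c : u * u' = u' * u := by
      rw [← inv_eq_of_mul_eq_one_right ((pow_two _).symm.trans h2), mul_inv_rev, iu, iu']
    exact Commute.mul_right (hl.comm hu hu' c) (k.cen u hu u' c.symm)
  obtain ⟨l, e1, e2⟩ := tr4 hu hu' h2 h4
  have hz : A2 ((u * u') ^ 2) := ⟨l, by rw [← e1, ← e2, ← abab, pow_two]; group⟩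
  have hs := h0 u u' hu hu' h2 h4
  have e3 : u * (u * u') ^ 2 = u' * u * u'⁻¹ := by
    rw [iu', pow_two, ← mul_assoc, ← mul_assoc, ← mul_assoc, hu.sq, one_mul]
  have e4 : (u * u') ^ 2 * (u * u') = u * u' * (u * u') ^ 2 := (pow_succ _ 2).symm.trans (pow_succ' _ 2)
  have e5 : u * (u * u') ^ 2 = (u * u') ^ 2 * u := by
    have : u * (u * u') ^ 2 * u⁻¹ = ((u * u') ^ 2)⁻¹ := by
      rw [e3, pow_two, mul_inv_rev, mul_inv_rev, iu, iu']; group
    rw [inv_eq_of_mul_eq_one_right hz.sq] at this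
    exact mul_inv_eq_iff_eq_mul.1 this
  have e6 : u' * (u * u') ^ 2 = (u * u') ^ 2 * u' :=
    mul_left_cancel (a := u) (by rw [← mul_assoc, ← e4, ← mul_assoc, ← mul_assoc, e5])
  have e7 : u ≠ (u * u') ^ 2 := fun e => hu.ne (by
    rw [← e, hu.sq] at e3
    simpa using e3.symm)
  generalize (u * u') ^ 2 = ζ at hz hs e3 e5 e6 e7
  have a1 : ι u' * κ u * (ι u')⁻¹ = κ u * κ ζ := by rw [k.eqv u hu, ← e3, hl u ζ hu hz e7 e5]
  have a2 : κ u' * κ u * κ u' = κ u * κ ζ := by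
    rw [← hs, pow_two, ← mul_assoc, ← mul_assoc, ← mul_assoc, k.sq u hu, one_mul]
  change κ u * (κ u' * ι u') = κ u' * ι u' * κ u
  rw [mul_assoc (κ u'), mul_inv_eq_iff_eq_mul.1 a1, ← a2, ← mul_assoc, ← mul_assoc, ← mul_assoc, ← mul_assoc,
    k.sq u' hu', one_mul]

theorem k5 (f : Fr ι t Y) (k : Kap ι t Y κ) (hl : Lin κ) (h0 : Sq0 κ) {u u' : J} (hu : A2 u) (hu' : A2 u') :
    κ u * (κ u' * ι u') = κ u' * ι u' * κ u := by
  have key : ∀ u, A2 u → A2 u ∧ Commute (κ z) (κ u * ι u) := by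
    refine clo _ (fun u hu h4 => ⟨hu, k5_near k hl h0 A2_z hu ?_⟩) (fun c hc u hu => ⟨hu.1.conj c, ?_⟩)
      fun u u' hu hu' h1 h2 h4 => ?_
    · rw [show z * u = u⁻¹ * (u * z) * u⁻¹⁻¹ by group, conj_pow, h4, mul_one, mul_inv_cancel]
    · have c1 : Commute (κ z) (ι c) := k.cen z A2_z c (mem_C0.1 hc)
      rw [k5_eqv k hu.1]
      exact (c1.mul_right hu.2).mul_right c1.inv_right
    · have iu : u⁻¹ = u := inv_eq_of_mul_eq_one_right hu.sq
      rw [show u * u' * u = u * u' * u⁻¹ by rw [iu]]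
      refine ⟨hu'.conj u, ?_⟩
      have e : ι u * (κ u' * ι u') * (ι u)⁻¹ = κ u * ι u * (κ u' * ι u') * (κ u * ι u)⁻¹ := by
        rw [k.self hu, mul_assoc (ι u) (κ u), (k5_near k hl h0 hu hu' h4).eq]; group
      rw [k5_eqv k hu', e]
      exact (h1.2.mul_right h2.2).mul_right h1.2.inv_right
  obtain ⟨l, rfl⟩ := hu
  have h1 := hu'.conj l⁻¹
  have e : u' = l * (l⁻¹ * u' * l⁻¹⁻¹) * l⁻¹ := by group
  rw [e, k5_eqv k h1, ← k.eqv z A2_z, conj_mul, conj_mul, (key _ h1).2.eq]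

end CfsgLib.SJ
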