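import Mathlib
import Cfsg.Agent.Lib.SJ.K0
import Cfsg.Agent.S2040

/-! # SJ package K6: the doubled group.
`A1 = closure {κ u}`; `t κ u t = κ u ι u` (`tconj`), so `A1` commutes with `t A1 t` and with `Y`.  `ψ x = x * (t x t)` is a homomorphism on `A1`
with `ψ (κ u) = ι u`, so it gives a surjection `σ : A1 →* J` (`J_gen`, `inj`).  An element `d` of the kernel satisfies `t d t = d⁻¹`, so `d ∈ t A1 t` is central in
`A1` and centralises `ι J`; if `d² = 1` then `d ∈ C(t)`, `ker` gives `d = 1` or `d = t`, and `t` does not commute with `κ z`.  So the kernel `D` has odd order.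
`A1 = A1' D` (`J` is simple non-abelian: instance for `QG` via `isoQ`/`simple_J2`), `A1/A1'` is generated by involutions and of odd order, so `D ≤ A1'`:
a stem extension (move `A1` to `Type` with `Shrink`/`Finite.equivFin`); S2040 (through `isoQ`) makes `D` a quotient of `ZMod 2`, so `D = 1`.  `α = σ⁻¹`. -/

set_option autoImplicit false

namespace CfsgLib.SJ

open Subgroup Cfsg

variable {G : Type*} [Group G] {ι : J →* G} {t : G} {Y : Subgroup G} {κ : J → G}

theorem k6_stem {Γ : Type*} [Group Γ] [Finite Γ] {σ : Γ →* J} (h : IsStemExtension σ) {d : Γ} (hd : σ d = 1) :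
    d * d = 1 := by
  let e : Shrink.{0} Γ ≃* Γ := Shrink.mulEquiv
  have := Finite.of_equiv _ e.symm.toEquiv
  let τ := (J2.isoQ.symm.toMonoidHom.comp σ).comp e.toMonoidHom
  have hk : ∀ x, x ∈ τ.ker ↔ e x ∈ σ.ker := fun x => J2.isoQ.symm.map_eq_one_iff
  obtain ⟨π, hπ⟩ := Cfsg.Agent.S2040.result.2 _ τ ⟨(J2.isoQ.symm.surjective.comp h.1).comp e.surjective,
    fun x hx => mem_center_iff.2 fun y => e.injective (by
      rw [map_mul, map_mul]; exact mem_center_iff.1 (h.2.1 ((hk x).1 hx)) _), fun x hx => by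
      have h1 := mem_map_of_mem e.symm.toMonoidHom (h.2.2 ((hk x).1 hx))
      rw [map_commutator_eq] at h1
      exact e.symm_apply_apply x ▸ commutator_mono le_top le_top h1⟩
  obtain ⟨c, hc⟩ := hπ ⟨e.symm d, (hk _).2 (by simpa using hd)⟩
  have h2 : c * c = 1 := (by decide : ∀ c : Multiplicative (ZMod 2), c * c = 1) c
  have h3 := congrArg (fun x => e (π x)) h2
  simpa [hc] using h3

theorem k6 [Finite G] (f : Fr ι t Y) (k : Kap ι t Y κ)
    (h : ∀ u u', A2 u → A2 u' → κ u * (κ u' * ι u') = κ u' * ι u' * κ u) : ∃ α : J →* G, Db ι t Y α := by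
  obtain ⟨A, hA⟩ : ∃ A : Subgroup G, A = closure (κ '' {u | A2 u}) := ⟨_, rfl⟩
  have hm : ∀ u, A2 u → κ u ∈ A := fun u hu => hA ▸ subset_closure ⟨u, hu, rfl⟩
  have hle : ∀ H : Subgroup G, (∀ u, A2 u → κ u ∈ H) → A ≤ H := fun H hH =>
    hA ▸ (closure_le _).2 (by rintro _ ⟨u, hu, rfl⟩; exact hH u hu)
  have hc : ∀ x ∈ A, ∀ y ∈ A, x * (t * y * t⁻¹) = t * y * t⁻¹ * x := fun x hx y hy =>
    (mem_centralizer_singleton_iff.1 (hle ((centralizer {x}).comap (MulAut.conj t).toMonoidHom) (fun u' hu' =>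
      mem_centralizer_singleton_iff.2 (mem_centralizer_singleton_iff.1 (hle (centralizer {t * κ u' * t⁻¹})
        (fun u hu => mem_centralizer_singleton_iff.2 (by rw [f.t_inv, k.tconj f hu', h u u' hu hu'])) hx)).symm) hy)).symm
  let ψ : A →* G := MonoidHom.mk' (fun x => x * (t * x * t⁻¹)) fun x y => by
    change _ * _ * (t * (_ * _) * t⁻¹) = _
    rw [← conj_mul, mul_assoc, ← mul_assoc y.1, hc _ y.2 _ x.2]
    simp only [mul_assoc]
  have hψ : ∀ u hu, ψ ⟨κ u, hm u hu⟩ = ι u := fun u hu => by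
    change κ u * (t * κ u * t⁻¹) = _
    rw [f.t_inv, k.tconj f hu, ← mul_assoc, k.sq u hu, one_mul]
  have ind : ∀ H : Subgroup A, (∀ u hu, ⟨κ u, hm u hu⟩ ∈ H) → ∀ x, x ∈ H := fun H hH x => by
    obtain ⟨y, hy, e⟩ := hle (H.map A.subtype) (fun u hu => ⟨_, hH u hu, rfl⟩) x.2
    exact Subtype.ext e ▸ hy
  obtain ⟨σ, hσ⟩ : ∃ σ : A →* J, ∀ x, ι (σ x) = ψ x :=
    ⟨(MonoidHom.ofInjective f.inj).symm.toMonoidHom.comp (ψ.codRestrict ι.range
      (ind (ι.range.comap ψ) fun u hu => ⟨u, (hψ u hu).symm⟩)),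
      fun x => MonoidHom.apply_ofInjective_symm f.inj _⟩
  have hs : Function.Surjective σ := MonoidHom.range_eq_top.1 (eq_top_iff.2 (J_gen ▸ (closure_le _).2
    fun u hu => ⟨⟨κ u, hm u hu⟩, f.inj ((hσ _).trans (hψ u hu))⟩))
  have h1 : ∀ d, σ d = 1 → t * d * t⁻¹ = (d : G)⁻¹ := fun d e =>
    eq_inv_of_mul_eq_one_right ((hσ d).symm.trans (by rw [e, map_one]))
  have h2 : ∀ d, σ d = 1 → ∀ x ∈ A, x * d = d * x := fun d e x hx => by
    have := hc x hx _ d⁻¹.2
    rwa [h1 d⁻¹ (by rw [map_inv, e, inv_one]), coe_inv, inv_inv] at this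
  have h3 : ∀ d, σ d = 1 → d * d = 1 → d = 1 := fun d e dd => by
    have d2 : (d : G) * d = 1 := congrArg Subtype.val dd
    have dt : d * t = t * d := by
      rw [eq_comm, ← mul_inv_eq_iff_eq_mul, h1 d e, inv_eq_of_mul_eq_one_right d2]
    rcases f.ker d dt (fun l => by
      obtain ⟨x, rfl⟩ := hs l
      rw [hσ]
      change (d : G) * (x * (t * x * t⁻¹)) = x * (t * x * t⁻¹) * d
      rw [← mul_assoc, ← h2 d e _ x.2, mul_assoc, hc _ d.2 _ x.2, ← mul_assoc]) with hy | hy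
    · exact Subtype.ext (f.y_sq hy d2)
    · have e1 := f.y_sq hy (by rw [mul_assoc, ← mul_assoc t, ← dt, mul_assoc, f.sq, mul_one, d2])
      rw [mul_eq_one_iff_eq_inv, f.t_inv] at e1
      exact absurd (e1 ▸ h2 d e _ (hm z A2_z)) (f.not_comm z_ne (k.act' A2_z))
  have h4 : ∀ d, σ d = 1 → Odd (orderOf d) := fun d e => by
    by_contra ho
    obtain ⟨m, hm⟩ := Nat.not_odd_iff_even.1 ho
    have h5 := orderOf_pos d
    have := Nat.le_of_dvd (by omega) (orderOf_dvd_of_pow_eq_one (h3 (d ^ m) (by rw [map_pow, e, one_pow])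
      (by rw [← pow_add, ← hm, pow_orderOf_eq_one])))
    omega
  have h5 : ∀ x : A, Abelianization.of x ^ 2 = 1 :=
    ind ((powMonoidHom 2).comp Abelianization.of).ker fun u hu => by
      change Abelianization.of _ ^ 2 = 1
      rw [← map_pow, pow_two, ← map_one Abelianization.of]
      exact congrArg _ (Subtype.ext (k.sq u hu))
  have hi : Function.Injective σ := (injective_iff_map_eq_one σ).2 fun d e => h3 d e (k6_stem ⟨hs,
    fun c hc => mem_center_iff.2 fun x => Subtype.ext (h2 c hc x x.2), fun c hc => by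
      rw [← Abelianization.ker_of]
      exact orderOf_eq_one_iff.1 (Nat.eq_one_of_dvd_coprimes (Nat.coprime_two_right.2 (h4 c hc))
        (orderOf_map_dvd _ c) (orderOf_dvd_of_pow_eq_one (h5 c)))⟩ e)
  let e := MulEquiv.ofBijective σ ⟨hi, hs⟩
  refine ⟨A.subtype.comp e.symm.toMonoidHom, fun l => ?_, fun l m => ?_, fun l y hy => ?_⟩
  · have := (hσ (e.symm l)).symm.trans (congrArg ι (e.apply_symm_apply l))
    rw [← this]
    exact congrArg (_ * ·) (congrArg (_ * ·) f.t_inv.symm)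
  · have := hc _ (e.symm l).2 _ (e.symm m).2
    rwa [f.t_inv] at this
  · exact mem_centralizer_singleton_iff.1 (hle (centralizer {y})
      (fun u hu => mem_centralizer_singleton_iff.2 (k.cY u hu y hy)) (e.symm l).2)

end CfsgLib.SJ
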