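import Mathlib
import Cfsg.Agent.Lib.SJ.K1a
import Cfsg.Agent.Lib.SJ.K1b
import Cfsg.Agent.Lib.SJ.K1c
import Cfsg.Agent.Lib.SJ.K2
import Cfsg.Agent.Lib.SJ.K4b
import Cfsg.Agent.Lib.SJ.K5
import Cfsg.Agent.Lib.SJ.K6

/-! # SJ: the dichotomy (wreathed case or Suzuki case) -/

set_option autoImplicit false

namespace CfsgLib.SJ

open Subgroup Cfsg

variable {G : Type*} [Group G] {ι : J →* G} {t : G} {Y : Subgroup G}

theorem dich [Finite G] (f : Fr ι t Y) : (∃ α : J →* G, Db ι t Y α) ∨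
    ∃ κ : J → G, Kap ι t Y κ ∧ κ z * κ a * κ z * κ a = ι (z * a) := by
  obtain ⟨g, h1, h2, h3, h4⟩ := k1a f
  obtain ⟨g', h1', h2'⟩ := k1b f h1 h2 h3 h4
  obtain ⟨κ, k⟩ := k1c f h1' h2'
  rcases k2 f k with h | h
  · have hl := lin f k h
    rcases k3 f k hl with h0 | h0
    · exact Or.inl (k6 f k fun u u' hu hu' => k5 f k hl h0 hu hu')
    · exact (k4 f k hl h0).elim
  · exact Or.inr ⟨κ, k, h⟩

end CfsgLib.SJ
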