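import Mathlib
import Cfsg.Agent.Lib.SJ.Defs
import Cfsg.Agent.Lib.SJ.MRel
import Cfsg.Agent.Lib.SJ.MCard
import Cfsg.Agent.Lib.SJ.MCls

/-! # SJ model package MR1 (for part R): `C0` and its ten non-central involutions of `Q`.
All checked in python (plans/SJ_j2.py).  `C0 = ⟨y, r, a⟩`, `y = el 0x208041113`.
`q10`: the list of the 10 conjugates `c a c⁻¹` is closed under conjugation by `y, r, a` (or take it from MOrb).
`cQ`: `l` commutes with `a` and `b` (`b` is one of the ten), so with `z = a b a b`; `CU` leaves 192 cases, or: the ten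
generate a group whose common centraliser is read off from `MAut.cl`.
`five`: `f = el 0x3130f04` (the product is `z`).  `pv`: `x = el 0x90d060c`.
`gen0`: the four generators (letters 1..4 = words 0x1, 0x2, 0x3, 0x4) are, with `R = r⁻¹`, `S = s⁻¹`, products read
left to right: `0x1 = S a s`, `0x2 = y R s y S y a y s y r S y`, `0x3 = r S y a y r y r s a y r s`,
`0x4 = y R y s y a y S y r y`. -/

set_option autoImplicit false
set_option Elab.async false

namespace CfsgLib.SJ

open Subgroup Cfsg CfsgLib.Comput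

abbrev MrE (l l' : List ℕ) : Prop := eqChk (stepT 100 7 CfsgLib.J2.Q.W) (idTab 100 7) (l, l') = true
abbrev MrN (x y : ℕ) : Prop := ∃ i < 100, (actL (stepN CfsgLib.J2.Q.W) [x] 0x9e3779b97f4a7c15f39cc0605).testBit i ≠
    (actL (stepN CfsgLib.J2.Q.W) [y] 0x9e3779b97f4a7c15f39cc0605).testBit i

theorem mr1_eq {x y u v : ℕ} (h : MrE [x, y] [u, v]) : el x * el y = el u * el v := by
  simpa only [List.map_cons, List.map_nil, List.prod_cons, List.prod_nil, mul_one] using mr_eq _ _ h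

theorem mr1_ne {x y : ℕ} (h : MrN x y) : el x ≠ el y := by
  simpa only [List.map_cons, List.map_nil, List.prod_cons, List.prod_nil, mul_one] using mr_ne _ _ h

theorem mr1_inj {G : Type*} [Group G] {H : Subgroup G} {x : G} {n : ℕ} {f t : Fin n → G} (hf : ∀ i, f i ∈ H)
    (ht : ∀ i, f i * x = t i * f i) (inj : ∀ i j, i ≠ j → t i ≠ t j) :
    Function.Injective fun p : Fin n × ↥(H ⊓ centralizer {x}) =>
      (⟨f p.1 * p.2, mul_mem (hf _) (mem_inf.1 p.2.2).1⟩ : H) := by
  rintro ⟨i, k, hk⟩ ⟨j, l, hl⟩ e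
  have e : f i * k = f j * l := congrArg Subtype.val e
  have key : ∀ i k, k ∈ H ⊓ centralizer {x} → f i * k * x = t i * (f i * k) := fun i k hk => by
    rw [mul_assoc, mem_centralizer_singleton_iff.1 (mem_inf.1 hk).2, ← mul_assoc, ht, mul_assoc]
  have h1 := key i k hk
  rw [e, key j l hl] at h1
  obtain rfl : i = j := by_contra fun h => inj i j h (mul_right_cancel h1).symm
  exact Prod.ext rfl (Subtype.ext (mul_left_cancel e))

theorem mr1_le {H : Subgroup J} (x : ℕ) {n : ℕ} (F T : Fin n → ℕ) (hf : ∀ i, el (F i) ∈ H)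
    (ht : ∀ i, MrE [F i, x] [T i, F i]) (inj : ∀ i j, i ≠ j → MrN (T i) (T j)) :
    n * Nat.card ↥(H ⊓ centralizer {el x}) ≤ Nat.card H := by
  have := Nat.card_le_card_of_injective _ (mr1_inj hf (fun i => mr1_eq (ht i)) fun i j h => mr1_ne (inj i j h))
  rwa [Nat.card_prod, Nat.card_fin] at this

def mr1F : Fin 10 → ℕ := ![0x0, 0x911, 0x110a, 0x40104, 0x30e0114, 0x4051304, 0x4061204, 0x505040f, 0x615020e, 0x902030f]
def mr1T : Fin 10 → ℕ := ![0x20302, 0x1040104, 0x40104, 0x1020302, 0x1050e06, 0x50e06, 0x80108, 0x130212, 0x80c11, 0xa0109]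

theorem mr1_c {x y : ℕ} (h : MrE [x, y] [y, x]) : el x ∈ centralizer {el y} :=
  mem_centralizer_singleton_iff.2 (mr1_eq h)

theorem mr1F_mem (i : Fin 10) : el (mr1F i) ∈ C0 :=
  mr1_c ((by decide +kernel : ∀ i, MrE [mr1F i, 0x1] [0x1, mr1F i]) i)

theorem mr1F_conj (i : Fin 10) : el (mr1F i) * a = el (mr1T i) * el (mr1F i) :=
  mr1_eq ((by decide +kernel : ∀ i, MrE [mr1F i, 0x20302] [mr1T i, mr1F i]) i)

theorem mr1_card : Nat.card ↥(C0 ⊓ centralizer {a}) = 192 := by
  rw [← card_CU]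
  congr 2
  ext x
  simp only [C0, mem_inf, mem_centralizer_iff, Set.mem_singleton_iff, Set.mem_insert_iff, forall_eq, forall_eq_or_imp]

/-- the ten conjugates of `a` under `C0` -/
theorem mr1_ten {c : J} (hc : c ∈ C0) : ∃ i, c * a * c⁻¹ = el (mr1T i) := by
  have hb := (Nat.bijective_iff_injective_and_card _).2 ⟨mr1_inj mr1F_mem mr1F_conj fun i j h =>
    mr1_ne ((by decide +kernel : ∀ i j, i ≠ j → MrN (mr1T i) (mr1T j)) i j h), by
      rw [Nat.card_prod, Nat.card_fin, mr1_card, card_C0]⟩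
  obtain ⟨⟨i, k, hk⟩, e⟩ := hb.2 ⟨c, hc⟩
  obtain rfl : el (mr1F i) * k = c := congrArg Subtype.val e
  refine ⟨i, mul_inv_eq_of_eq_mul ?_⟩
  rw [mul_assoc, mem_centralizer_singleton_iff.1 (mem_inf.1 hk).2, ← mul_assoc, mr1F_conj, mul_assoc]

theorem mr1_two : Nat.card ↥(C0 ⊓ centralizer {a} ⊓ centralizer {b} ⊓ centralizer {el 0x1050e06} ⊓
    centralizer {el 0x80108}) ≤ 2 := by
  have h1 := mr1_le (H := C0 ⊓ centralizer {a}) 0x40104
    ![0x0, 0x20302, 0x3080a03, 0x3090803, 0x20614010e, 0x215090308, 0x31310030a, 0xb05151207]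
    ![0x40104, 0x1040104, 0xa0109, 0x130212, 0x80c11, 0x80108, 0x1050e06, 0x50e06]
    (fun i => mem_inf.2 ⟨mr1_c (y := 0x1) (by revert i; decide +kernel),
      mr1_c (y := 0x20302) (by revert i; decide +kernel)⟩) (by decide +kernel) (by decide +kernel)
  have h2 := mr1_le (H := C0 ⊓ centralizer {a} ⊓ centralizer {b}) 0x1050e06
    ![0x0, 0x513, 0x612, 0x20a0106, 0x20d010f, 0x601080d]
    ![0x1050e06, 0xa0109, 0x80108, 0x130212, 0x80c11, 0x50e06]
    (fun i => mem_inf.2 ⟨mem_inf.2 ⟨mr1_c (y := 0x1) (by revert i; decide +kernel),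
      mr1_c (y := 0x20302) (by revert i; decide +kernel)⟩, mr1_c (y := 0x40104) (by revert i; decide +kernel)⟩)
    (by decide +kernel) (by decide +kernel)
  have h3 := mr1_le (H := C0 ⊓ centralizer {a} ⊓ centralizer {b} ⊓ centralizer {el 0x1050e06}) 0x80108
    ![0x0, 0x2050e] ![0x80108, 0x80c11]
    (fun i => mem_inf.2 ⟨mem_inf.2 ⟨mem_inf.2 ⟨mr1_c (y := 0x1) (by revert i; decide +kernel),
      mr1_c (y := 0x20302) (by revert i; decide +kernel)⟩, mr1_c (y := 0x40104) (by revert i; decide +kernel)⟩,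
      mr1_c (by revert i; decide +kernel)⟩)
    (by decide +kernel) (by decide +kernel)
  rw [mr1_card] at h1
  change 8 * Nat.card ↥(C0 ⊓ centralizer {a} ⊓ centralizer {b}) ≤ 192 at h1
  omega

theorem q10 {c : J} (hc : c ∈ C0) :
    c * a * c⁻¹ = a ∨ c * a * c⁻¹ = z * a ∨ a * (c * a * c⁻¹) = c * a * c⁻¹ * a * z := by
  obtain ⟨i, e⟩ := mr1_ten hc
  rw [e]
  rcases (by decide +kernel : ∀ i, MrE [mr1T i] [0x20302] ∨ MrE [mr1T i] [0x1, 0x20302] ∨
    MrE [0x20302, mr1T i] [mr1T i, 0x20302, 0x1]) i with h | h | h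
  · exact Or.inl (by simpa only [z, a, v, w, List.map_cons, List.map_nil, List.prod_cons, List.prod_nil, mul_one, mul_assoc, pow_succ,
      pow_zero, one_mul] using mr_eq _ _ h)
  · exact Or.inr (Or.inl (by simpa only [z, a, v, w, List.map_cons, List.map_nil, List.prod_cons, List.prod_nil, mul_one, mul_assoc, pow_succ,
      pow_zero, one_mul] using mr_eq _ _ h))
  · exact Or.inr (Or.inr (by simpa only [z, a, v, w, List.map_cons, List.map_nil, List.prod_cons, List.prod_nil, mul_one, mul_assoc, pow_succ,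
      pow_zero, one_mul] using mr_eq _ _ h))
theorem cQ {l : J} (h : ∀ c ∈ C0, l * (c * a * c⁻¹) = c * a * c⁻¹ * l) : l = 1 ∨ l = z := by
  have h1 : ∀ i, l ∈ centralizer {el (mr1T i)} := fun i => mem_centralizer_singleton_iff.2 (by
    have := h _ (mr1F_mem i)
    rwa [mr1F_conj, mul_inv_cancel_right] at this)
  have ha : l * a = a * l := mem_centralizer_singleton_iff.1 (h1 0)
  have hb : l * b = b * l := mem_centralizer_singleton_iff.1 (h1 2)
  have hz : l ∈ C0 := mem_centralizer_singleton_iff.2 (by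
    rw [← abab]
    exact (((Commute.mul_right ha hb).mul_right ha).mul_right hb).eq)
  have h2 := mr1_two
  haveI := Fintype.ofFinite ↥(C0 ⊓ centralizer {a} ⊓ centralizer {b} ⊓ centralizer {el 0x1050e06} ⊓
    centralizer {el 0x80108})
  by_contra hn
  rw [not_or] at hn
  rw [Nat.card_eq_fintype_card, ← not_lt, Fintype.two_lt_card_iff] at h2
  refine h2 ⟨⟨l, mem_inf.2 ⟨mem_inf.2 ⟨mem_inf.2 ⟨mem_inf.2 ⟨hz, h1 0⟩, h1 2⟩, h1 4⟩, h1 6⟩⟩, 1,
    ⟨z, mem_inf.2 ⟨mem_inf.2 ⟨mem_inf.2 ⟨mem_inf.2 ⟨mem_centralizer_singleton_iff.2 rfl,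
      mem_centralizer_singleton_iff.2 za⟩, mem_centralizer_singleton_iff.2 zb⟩,
      mr1_c (x := 0x1) (by decide +kernel)⟩, mr1_c (x := 0x1) (by decide +kernel)⟩⟩,
    fun e => hn.1 (congrArg Subtype.val e), fun e => hn.2 (congrArg Subtype.val e),
    fun e => z_ne (congrArg Subtype.val e).symm⟩
theorem five : ∃ f ∈ C0, f ^ 5 = 1 ∧
    a * (f * a * f⁻¹) * (f ^ 2 * a * (f ^ 2)⁻¹) * (f ^ 3 * a * (f ^ 3)⁻¹) * (f ^ 4 * a * (f ^ 4)⁻¹) = z := by
  have h5 : el 0x3130f04 ^ 5 = 1 := by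
    simpa only [z, a, v, w, List.map_cons, List.map_nil, List.prod_cons, List.prod_nil, mul_one, mul_assoc, pow_succ,
      pow_zero, one_mul] using mr_eq [0x3130f04, 0x3130f04, 0x3130f04, 0x3130f04, 0x3130f04] [] (by decide +kernel)
  have h6 : a * (el 0x3130f04 * (a * (el 0x3130f04 * (a * (el 0x3130f04 * (a * (el 0x3130f04 * (a *
      el 0x3130f04)))))))) = z := by
    simpa only [z, a, v, w, List.map_cons, List.map_nil, List.prod_cons, List.prod_nil, mul_one, mul_assoc, pow_succ,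
      pow_zero, one_mul] using mr_eq [0x20302, 0x3130f04, 0x20302, 0x3130f04, 0x20302, 0x3130f04, 0x20302, 0x3130f04,
      0x20302, 0x3130f04] [0x1] (by decide +kernel)
  refine ⟨el 0x3130f04, mr1_c (y := 0x1) (by decide +kernel), h5, ?_⟩
  rw [← h6, ← mul_one (a * (_ * (a * (_ * (a * (_ * (a * (_ * (a * _))))))))), ← inv_one, ← h5]
  group
theorem pv : ∃ x : J, x * z = z * x ∧ x * a = a * x ∧ x * v * x⁻¹ = z * v ∧ x * w * x⁻¹ = z * a * w := by
  exact ⟨el 0x90d060c, mr1_eq (by decide +kernel), mr1_eq (by decide +kernel), mul_inv_eq_of_eq_mul (by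
    simpa only [z, a, v, w, List.map_cons, List.map_nil, List.prod_cons, List.prod_nil, mul_one, mul_assoc, pow_succ,
      pow_zero, one_mul] using mr_eq [0x90d060c, 0x3120d08030a] [0x1, 0x3120d08030a, 0x90d060c] (by decide +kernel)),
    mul_inv_eq_of_eq_mul (by
    simpa only [z, a, v, w, List.map_cons, List.map_nil, List.prod_cons, List.prod_nil, mul_one, mul_assoc, pow_succ,
      pow_zero, one_mul] using mr_eq [0x90d060c, 0x20614050f] [0x1, 0x20302, 0x20614050f, 0x90d060c] (by decide +kernel))⟩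
theorem gen0 : C0 ⊔ zpowers s = ⊤ := by
  have hm : ∀ x ∈ [0x208041113, 0x513, 0x20302, 0x90306010d], el x ∈ C0 ⊔ zpowers s := by
    simp only [List.forall_mem_cons]
    exact ⟨mem_sup_left (mr1_c (y := 0x1) (by decide +kernel)), mem_sup_left (mr1_c (y := 0x1) (by decide +kernel)),
      mem_sup_left (mr1_c (y := 0x1) (by decide +kernel)), mem_sup_right (mem_zpowers s), by simp⟩
  have hl : ∀ (k : ℕ) (l : List ℕ), (∀ x ∈ l, x ∈ [0x208041113, 0x513, 0x20302, 0x90306010d]) ∧ MrE [k] l →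
      ev CfsgLib.J2.q k ∈ (C0 ⊔ zpowers s).map CfsgLib.J2.QG.subtype := fun k l h => by
    refine ⟨(l.map el).prod, list_prod_mem fun x hx => ?_, ?_⟩
    · obtain ⟨y, hy, rfl⟩ := List.mem_map.1 hx
      exact hm y (h.1 y hy)
    · rw [← mr_eq _ _ h.2]
      exact (mr_val [k]).trans (evL_one _ _)
  have h : CfsgLib.J2.QG ≤ (C0 ⊔ zpowers s).map CfsgLib.J2.QG.subtype := by
    refine cl_le.2 ?_
    simp only [CfsgLib.J2.Q.top, List.forall_mem_cons]
    exact ⟨hl _ [0x90306010d, 0x90306010d, 0x20302, 0x90306010d] (by decide +kernel),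
      hl _ [0x208041113, 0x513, 0x513, 0x90306010d, 0x208041113, 0x90306010d, 0x90306010d, 0x208041113, 0x20302, 0x208041113, 0x90306010d, 0x208041113, 0x513, 0x90306010d, 0x90306010d, 0x208041113] (by decide +kernel),
      hl _ [0x513, 0x90306010d, 0x90306010d, 0x208041113, 0x20302, 0x208041113, 0x513, 0x208041113, 0x513, 0x90306010d, 0x20302, 0x208041113, 0x513, 0x90306010d] (by decide +kernel),
      hl _ [0x208041113, 0x513, 0x513, 0x208041113, 0x90306010d, 0x208041113, 0x20302, 0x208041113, 0x90306010d, 0x90306010d, 0x208041113, 0x513, 0x208041113] (by decide +kernel), by simp⟩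
  exact eq_top_iff.2 fun x _ => (mem_map_iff_mem CfsgLib.J2.QG.subtype_injective).1 (h x.2)

end CfsgLib.SJ
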