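import Mathlib
import Cfsg.Agent.Lib.SJ.Defs
import Cfsg.Agent.Lib.SJ.MRel
import Cfsg.Agent.Lib.SJ.MCard
import Cfsg.Agent.Lib.SJ.MCls
import Cfsg.Agent.Lib.SJ.MAl
import Cfsg.Agent.S0493
import Cfsg.Agent.Lib.Core.MinNormal
import Cfsg.Agent.Lib.Tech.SylowIn

/-! # SJ model package MR2 (for part R): `C(v) = V × B`, `B ≅ A5`, `C_Aut(v, U) = F0`.
`B = ⟨x, s⟩` with `x = el 0x203110302`, `x ^ 2 = s ^ 3 = (x s) ^ 5 = 1`, `card_B = 60`: so `B ≅ A5` (presentation of A5 or
a perfect group of order 60), simple.  `B_four`, `B_tr`: `U ≤ B` is a Sylow 2-subgroup (`card_U`, `card_B`, `mem_U`), conjugate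
the 2-group `⟨c⟩`, resp. `⟨y1, y2⟩`, into `U`; `s` cycles `z ↦ a ↦ z a`.  `Cv`: `V ⊓ B = ⊥`, `|V B| = 240 = card_Cv`.
`cF`: by `aut`, `ψ = conj l` or `conj l ∘ al` with `l ∈ C(U) = P0⟨r⟩` (`CU`); in the second case `ψ v ∈ F1` (P0 and `r`
normalise `F1 ∋ al v`), but `v ∉ F1`; in the first `l = e * c` (`Cv`) with `c ∈ B` centralising `z`, so `c ∈ U`. -/

set_option autoImplicit false

namespace CfsgLib.SJ

open Subgroup Cfsg CfsgLib.Comput

theorem r2_mem_B {c : J} : c ∈ B ↔ v * c = c * v ∧ w * c = c * w ∧ r * c = c * r := by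
  simp only [B, mem_centralizer_iff, Set.mem_insert_iff, Set.mem_singleton_iff, forall_eq_or_imp, forall_eq]

theorem z_mem_B : z ∈ B := r2_mem_B.2 ⟨vz, wz, rz⟩
theorem a_mem_B : a ∈ B := r2_mem_B.2 ⟨va, wa, ra⟩
theorem s_mem_B : s ∈ B := r2_mem_B.2 ⟨sv.symm, sw.symm, rs⟩

theorem r2_x_mem : el 0x203110302 ∈ B := r2_mem_B.2 ⟨by
  simpa only [v, List.map_cons, List.map_nil, List.prod_cons, List.prod_nil, mul_one] using
    mr_eq [0x3120d08030a, 0x203110302] [0x203110302, 0x3120d08030a] (by decide +kernel), by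
  simpa only [w, List.map_cons, List.map_nil, List.prod_cons, List.prod_nil, mul_one] using
    mr_eq [0x20614050f, 0x203110302] [0x203110302, 0x20614050f] (by decide +kernel), by
  simpa only [r, List.map_cons, List.map_nil, List.prod_cons, List.prod_nil, mul_one] using
    mr_eq [0x513, 0x203110302] [0x203110302, 0x513] (by decide +kernel)⟩

theorem r2_xx : el 0x203110302 ^ 2 = 1 := by
  simpa only [List.map_cons, List.map_nil, List.prod_cons, List.prod_nil, mul_one, pow_two] using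
    mr_eq [0x203110302, 0x203110302] [] (by decide +kernel)

theorem r2_xs : (el 0x203110302 * s) ^ 5 = 1 := by
  simpa only [s, List.map_cons, List.map_nil, List.prod_cons, List.prod_nil, mul_one, pow_succ, pow_zero,
    one_mul, mul_assoc] using
    mr_eq [0x203110302, 0x90306010d, 0x203110302, 0x90306010d, 0x203110302, 0x90306010d, 0x203110302,
      0x90306010d, 0x203110302, 0x90306010d] [] (by decide +kernel)

theorem r2_xs_ne : el 0x203110302 * s ≠ 1 := by
  simpa only [s, List.map_cons, List.map_nil, List.prod_cons, List.prod_nil, mul_one] using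
    mr_ne [0x203110302, 0x90306010d] [] (by decide +kernel)

theorem r2_n1 : v * (b * v * b) ≠ b * v * b * v := by
  simpa only [v, b, List.map_cons, List.map_nil, List.prod_cons, List.prod_nil, mul_one, mul_assoc] using
    mr_ne [0x3120d08030a, 0x40104, 0x3120d08030a, 0x40104] [0x40104, 0x3120d08030a, 0x40104, 0x3120d08030a]
      (by decide +kernel)

theorem r2_n2 : v * (b * w * b) ≠ b * w * b * v := by
  simpa only [v, w, b, List.map_cons, List.map_nil, List.prod_cons, List.prod_nil, mul_one, mul_assoc] using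
    mr_ne [0x3120d08030a, 0x40104, 0x20614050f, 0x40104] [0x40104, 0x20614050f, 0x40104, 0x3120d08030a]
      (by decide +kernel)

theorem r2_n3 : v * (b * (v * w) * b) ≠ b * (v * w) * b * v := by
  simpa only [v, w, b, List.map_cons, List.map_nil, List.prod_cons, List.prod_nil, mul_one, mul_assoc] using
    mr_ne [0x3120d08030a, 0x40104, 0x3120d08030a, 0x20614050f, 0x40104]
      [0x40104, 0x3120d08030a, 0x20614050f, 0x40104, 0x3120d08030a] (by decide +kernel)

theorem r2_sixty {G : Type*} [Group G] [Finite G] (h : commutator G = ⊤) (hc : Nat.card G = 60) :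
    IsSimpleGroup G := by
  have : Nontrivial G := Finite.one_lt_card_iff_nontrivial.1 (by omega)
  obtain ⟨L, hL, h1, -, h2⟩ := Core.exists_maximal_normal_ge (K := (⊥ : Subgroup G)) bot_ne_top
  have := Core.isSimpleGroup_quotient_of_maximal_normal h1 h2
  have h0 : commutator (G ⧸ L) = ⊤ := by
    rw [commutator_def, ← map_top_of_surjective _ (QuotientGroup.mk'_surjective L),
      ← map_commutator, ← commutator_def, h]
  have h3 := Cfsg.Agent.S0493.result (G := G ⧸ L) (fun h4 => by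
    letI := h4.commGroup
    exact (Group.IsSolvable.commutator_lt_top_of_nontrivial (G ⧸ L)).ne h0)
    ((Nat.le_of_dvd (by omega) (hc ▸ card_quotient_dvd_card L)).trans (by omega))
  have h4 := L.card_mul_index
  rw [index_eq_card, h3, hc] at h4
  obtain rfl : L = ⊥ := card_eq_one.1 (by omega)
  exact (QuotientGroup.quotientBot (G := G)).symm.isSimpleGroup

theorem r2_UB : U ≤ B := (closure_le _).2 (by
  rintro _ (rfl | rfl)
  exacts [z_mem_B, a_mem_B])

theorem r2_s_ne : s ≠ 1 := fun h => a_ne_z (by rw [← sz, h]; simp)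

theorem B_simple : IsSimpleGroup B := by
  refine r2_sixty ?_ card_B
  have key : ∀ g : B, g ∈ commutator B ↔ Abelianization.of g = 1 := fun g =>
    (QuotientGroup.eq_one_iff g).symm
  let x : B := ⟨_, r2_x_mem⟩
  let t : B := ⟨s, s_mem_B⟩
  let z' : B := ⟨z, z_mem_B⟩
  let a' : B := ⟨a, a_mem_B⟩
  have e1 : x ^ 2 = 1 := Subtype.ext r2_xx
  have e2 : t ^ 3 = 1 := Subtype.ext s3
  have e3 : (x * t) ^ 5 = 1 := Subtype.ext r2_xs
  have e4 : t * z' * t⁻¹ = a' := Subtype.ext sz
  have e5 : t * a' * t⁻¹ = z' * a' := Subtype.ext sa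
  have f1 := congrArg Abelianization.of e1
  have f2 := congrArg Abelianization.of e2
  have f3 := congrArg Abelianization.of e3
  have f4 := congrArg Abelianization.of e4
  have f5 := congrArg Abelianization.of e5
  simp only [map_pow, map_mul, map_one, map_inv, mul_inv_cancel_comm] at f1 f2 f3 f4 f5
  have g0 : (Abelianization.of x * Abelianization.of t) ^ 6 = 1 := by
    rw [mul_pow, show 6 = 2 * 3 from rfl, pow_mul, f1, mul_comm 2 3, pow_mul, f2]
    simp
  have g1 : Abelianization.of x * Abelianization.of t = 1 := by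
    rwa [pow_succ, f3, one_mul] at g0
  have g2 : Abelianization.of t = 1 := by
    have : (Abelianization.of x * Abelianization.of t) ^ 4 = 1 := by rw [g1, one_pow]
    rwa [mul_pow, show 4 = 2 * 2 from rfl, pow_mul, f1, one_pow, one_mul, show 2 * 2 = 3 + 1 from rfl, pow_succ,
      f2, one_mul] at this
  have g3 : Abelianization.of z' = 1 := by simpa using f5
  have g4 : Abelianization.of a' = 1 := f4 ▸ g3
  have d5 : 5 ∣ Nat.card (commutator B) := by
    haveI : Fact (Nat.Prime 5) := ⟨by norm_num⟩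
    rw [← orderOf_eq_prime e3 fun h => r2_xs_ne (congrArg Subtype.val h)]
    exact Subgroup.orderOf_dvd_natCard _ ((key _).2 (by rw [map_mul, g1]))
  have d3 : 3 ∣ Nat.card (commutator B) := by
    rw [← orderOf_eq_prime e2 fun h => r2_s_ne (congrArg Subtype.val h)]
    exact Subgroup.orderOf_dvd_natCard _ ((key _).2 g2)
  have d4 : 4 ∣ Nat.card (commutator B) := by
    rw [← card_U, ← Nat.card_congr (subgroupOfEquivOfLe r2_UB).toEquiv]
    refine card_dvd_of_le fun u hu => (key _).2 ?_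
    rcases mem_U.1 hu with h | h | h | h
    · rw [show u = 1 from Subtype.ext h, map_one]
    · rw [show u = z' from Subtype.ext h, g3]
    · rw [show u = a' from Subtype.ext h, g4]
    · rw [show u = z' * a' from Subtype.ext h, map_mul, g3, g4, mul_one]
  refine eq_top_of_le_card _ ?_
  rw [card_B]
  exact Nat.le_of_dvd Nat.card_pos (by omega)

theorem r2_syl : Tech.IsSylowIn 2 U B := ⟨r2_UB, IsPGroup.of_card (n := 2) card_U, by
  have := Tech.card_mul_relIndex' r2_UB
  rw [card_U, card_B] at this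
  omega⟩

theorem r2_sq {u : J} (h : u ∈ U) : u * u = 1 := by
  rcases mem_U.1 h with rfl | rfl | rfl | rfl
  · simp
  · exact zz
  · exact aa
  · rw [mul_assoc, ← mul_assoc a, ← za, mul_assoc, aa, mul_one, zz]

theorem r2_comm {u y : J} (h : u ∈ U) (h1 : y * z = z * y) (h2 : y * a = a * y) : y * u = u * y := by
  rcases mem_U.1 h with rfl | rfl | rfl | rfl
  · simp
  · exact h1
  · exact h2
  · rw [← mul_assoc, h1, mul_assoc, h2, mul_assoc]

theorem B_four {c : J} (hc : c ∈ B) (h : c ^ 4 = 1) : c * c = 1 := by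
  obtain ⟨g, -, hg⟩ := r2_syl.exists_conj_mem hc (Tech.isPGroup_zpowers_of_pow (k := 2) h)
  have := r2_sq hg
  rwa [show g * c * g⁻¹ * (g * c * g⁻¹) = g * (c * c) * g⁻¹ by group, conj_eq_one_iff] at this

theorem r2_sza : s * (z * a) * s⁻¹ = z := by
  rw [show s * (z * a) * s⁻¹ = s * z * s⁻¹ * (s * a * s⁻¹) by group, sz, sa, ← mul_assoc, ← za, mul_assoc, aa, mul_one]

theorem B_tr {y1 y2 : J} (h1 : y1 ∈ B) (h2 : y2 ∈ B) (s1 : y1 * y1 = 1) (s2 : y2 * y2 = 1) (n1 : y1 ≠ 1) (n2 : y2 ≠ 1)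
    (n : y1 ≠ y2) (c : y1 * y2 = y2 * y1) : ∃ c ∈ B, c * y1 * c⁻¹ = z ∧ (c * y2 * c⁻¹ = a ∨ c * y2 * c⁻¹ = z * a) := by
  have p1 : IsPGroup 2 (zpowers y1) := Tech.isPGroup_zpowers_of_pow (k := 1) (by rwa [pow_one, pow_two])
  have p2 : IsPGroup 2 (zpowers y2) := Tech.isPGroup_zpowers_of_pow (k := 1) (by rwa [pow_one, pow_two])
  have p3 := p1.to_sup_of_normal_left' p2 (zpowers_le.2 (Tech.mem_normalizer_of_forall fun x hx => by
    obtain ⟨k, rfl⟩ := hx
    have : Commute y2 (y1 ^ k) := (Commute.symm c).zpow_right k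
    simp only
    rw [this.eq, mul_inv_cancel_right]
    exact zpow_mem (mem_zpowers y1) k))
  obtain ⟨g, hg, hle⟩ := r2_syl.exists_cj_le p3 (sup_le (zpowers_le.2 h1) (zpowers_le.2 h2))
  have sU : ∀ u ∈ U, s * u * s⁻¹ ∈ U := fun u hu => by
    rcases mem_U.1 hu with rfl | rfl | rfl | rfl
    · simp
    · exact mem_U.2 (by simp [sz])
    · exact mem_U.2 (by simp [sa])
    · exact mem_U.2 (by simp [r2_sza])
  have fin : ∀ g ∈ B, g * y1 * g⁻¹ = z → g * y2 * g⁻¹ ∈ U →
      ∃ c ∈ B, c * y1 * c⁻¹ = z ∧ (c * y2 * c⁻¹ = a ∨ c * y2 * c⁻¹ = z * a) := fun g hg e1 e2 => by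
    refine ⟨g, hg, e1, ?_⟩
    rcases mem_U.1 e2 with h | h | h | h
    · exact absurd (conj_eq_one_iff.1 h) n2
    · exact absurd (by simpa using e1.trans h.symm) n
    · exact Or.inl h
    · exact Or.inr h
  have m1 := Tech.cj_le_iff.1 hle y1 (mem_sup_left (mem_zpowers y1))
  have m2 := Tech.cj_le_iff.1 hle y2 (mem_sup_right (mem_zpowers y2))
  have cj : ∀ g y : J, s * g * y * (s * g)⁻¹ = s * (g * y * g⁻¹) * s⁻¹ := fun g y => by group
  rcases mem_U.1 m1 with h | h | h | h
  · exact absurd (conj_eq_one_iff.1 h) n1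
  · exact fin g hg h m2
  · refine fin (s * (s * g)) (mul_mem s_mem_B (mul_mem s_mem_B hg)) (by rw [cj, cj, h, sa, r2_sza]) ?_
    rw [cj, cj]
    exact sU _ (sU _ m2)
  · refine fin (s * g) (mul_mem s_mem_B hg) (by rw [cj, h, r2_sza]) ?_
    rw [cj]
    exact sU _ m2

theorem r2_rvw : r * (v * w) * r⁻¹ = v := by
  rw [show r * (v * w) * r⁻¹ = r * v * r⁻¹ * (r * w * r⁻¹) by group, rv, rw, vw, ← mul_assoc, ww, one_mul]

theorem r2_mem_V {e : J} (h : e ∈ V) : e = 1 ∨ e = v ∨ e = w ∨ e = v * w := by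
  have k1 : ∀ x, v * (v * x) = x := fun x => by rw [← mul_assoc, vv, one_mul]
  have k2 : ∀ x, w * (v * x) = v * (w * x) := fun x => by rw [← mul_assoc, ← vw, mul_assoc]
  induction h using closure_induction with
  | mem x hx => rcases hx with rfl | rfl <;> simp
  | one => simp
  | mul x y _ _ hx hy =>
    rcases hx with rfl | rfl | rfl | rfl <;> rcases hy with rfl | rfl | rfl | rfl <;>
      simp [mul_assoc, k1, k2, vv, ww, ← vw]
  | inv x _ hx =>
    rcases hx with rfl | rfl | rfl | rfl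
    · simp
    · simp [inv_eq_of_mul_eq_one_right vv]
    · simp [inv_eq_of_mul_eq_one_right ww]
    · simp [inv_eq_of_mul_eq_one_right vv, inv_eq_of_mul_eq_one_right ww, ← vw]

theorem r2_nr {e : J} (h : r * e = e * r) : e ≠ v ∧ e ≠ w ∧ e ≠ v * w := by
  have h' : r * e * r⁻¹ = e := mul_inv_eq_of_eq_mul h
  refine ⟨?_, ?_, ?_⟩ <;> rintro rfl
  · exact w_ne_v (rv.symm.trans h')
  · exact v_ne (by simpa using rw.symm.trans h')
  · exact w_ne (by simpa using r2_rvw.symm.trans h')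

theorem Cv {c : J} (h : c * v = v * c) : ∃ e : J, (e = 1 ∨ e = v ∨ e = w ∨ e = v * w) ∧ e * c ∈ B := by
  have hV : V ≤ centralizer {v} := (closure_le _).2 (by
    rintro _ (rfl | rfl)
    · exact mem_centralizer_singleton_iff.2 rfl
    · exact mem_centralizer_singleton_iff.2 vw.symm)
  have hB : B ≤ centralizer {v} := fun c hc => mem_centralizer_singleton_iff.2 (r2_mem_B.1 hc).1.symm
  let f : V × B → (centralizer {v} : Subgroup J) := fun x => ⟨x.1 * x.2, mul_mem (hV x.1.2) (hB x.2.2)⟩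
  have inj : Function.Injective f := by
    rintro ⟨e, c⟩ ⟨e', c'⟩ h
    have h1 : (e : J) * c = e' * c' := congrArg Subtype.val h
    have h2 : (e' : J)⁻¹ * e = c' * (c : J)⁻¹ := by
      rw [eq_mul_inv_iff_mul_eq, mul_assoc, h1, inv_mul_cancel_left]
    have h3 := r2_nr (r2_mem_B.1 (h2 ▸ mul_mem c'.2 (inv_mem c.2))).2.2
    have h4 : (e' : J)⁻¹ * e = 1 := by
      rcases r2_mem_V (mul_mem (inv_mem e'.2) e.2) with k | k | k | k
      exacts [k, absurd k h3.1, absurd k h3.2.1, absurd k h3.2.2]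
    have h5 : e' = e := Subtype.ext (inv_mul_eq_one.1 h4)
    rw [h5] at h1
    exact Prod.ext h5.symm (Subtype.ext (mul_left_cancel h1))
  obtain ⟨⟨e, c'⟩, k⟩ := (inj.bijective_of_nat_card_le (by
    rw [Nat.card_prod, card_V, card_B, card_Cv])).2 ⟨c, mem_centralizer_singleton_iff.2 h⟩
  refine ⟨e⁻¹, r2_mem_V (inv_mem e.2), ?_⟩
  rw [← show (e : J) * c' = c from congrArg Subtype.val k, inv_mul_cancel_left]
  exact c'.2

theorem r2_v_mem : v ∈ P0 := subset_closure (by simp)
theorem r2_w_mem : w ∈ P0 := subset_closure (by simp)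

theorem r2_CBU {c : J} (hc : c ∈ B) (h1 : c * z = z * c) (h2 : c * a = a * c) : c ∈ U := by
  have hv := (r2_mem_B.1 hc).1
  rcases CU h1 h2 with h | h | h
  · refine zpowers_le.1 (r2_syl.le_of_normalizes (Tech.isPGroup_zpowers_of_pow (k := 2) ?_) (zpowers_le.2 hc)
      (zpowers_le.2 (Tech.mem_normalizer_of_forall fun u hu => by rwa [r2_comm hu h1 h2, mul_inv_cancel_right])))
    rw [show 2 ^ 2 = 2 * 2 from rfl, pow_mul, pow_two, pow_two]
    exact r2_sq (P0_sq h)
  · have k := P0_comm h r2_w_mem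
    have e : c * r⁻¹ * w * (c * r⁻¹)⁻¹ = v := by
      rw [← rv, show c * r⁻¹ * (r * v * r⁻¹) * (c * r⁻¹)⁻¹ = c * v * c⁻¹ by group, ← hv, mul_inv_cancel_right]
    rw [e, inv_eq_of_mul_eq_one_right ww] at k
    exact absurd rfl (r2_nr (r2_comm k rz ra)).2.2
  · have k := P0_comm h (mul_mem r2_v_mem r2_w_mem)
    have e : c * r * (v * w) * (c * r)⁻¹ = v := by
      rw [show c * r * (v * w) * (c * r)⁻¹ = c * (r * (v * w) * r⁻¹) * c⁻¹ by group, r2_rvw, ← hv,
        mul_inv_cancel_right]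
    rw [e, vw, mul_inv_rev, mul_inv_cancel_left, inv_eq_of_mul_eq_one_right ww] at k
    exact absurd rfl (r2_nr (r2_comm k rz ra)).2.1

theorem r2_out {p y : J} (hp : p ∈ P0) (hy : y ∈ P0) (e : p * (b * y * b) * p⁻¹ = v) :
    v * (b * y * b) = b * y * b * v := by
  have hb : b * y * b ∈ P0 := by simpa only [inv_eq_of_mul_eq_one_right bb] using b_norm hy
  have k := P0_comm hp hb
  rw [e] at k
  have k2 := r2_comm k vz va
  generalize b * y * b = t at *
  rw [mul_assoc, mul_right_inj] at k2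
  calc v * t = t * (t⁻¹ * v) * t := by group
    _ = _ := by rw [← k2]; group

theorem cF (ψ : MulAut J) (hz : ψ z = z) (ha : ψ a = a) (hv : ψ v = v) :
    ∃ e u : J, (e = 1 ∨ e = v ∨ e = w ∨ e = v * w) ∧ u ∈ U ∧ ∀ x, ψ x = e * u * x * (e * u)⁻¹ := by
  rcases aut ψ with ⟨l, hl⟩ | ⟨l, hl⟩
  · rw [hl, mul_inv_eq_iff_eq_mul] at hz ha hv
    obtain ⟨e, he, hB⟩ := Cv hv
    have k : e * e = 1 ∧ e * z = z * e ∧ e * a = a * e := by
      rcases he with rfl | rfl | rfl | rfl
      · simp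
      · exact ⟨vv, vz, va⟩
      · exact ⟨ww, wz, wa⟩
      · exact ⟨by rw [mul_assoc, ← mul_assoc w, ← vw, mul_assoc, ww, mul_one, vv],
          (Commute.mul_left vz wz).eq, (Commute.mul_left va wa).eq⟩
    refine ⟨e, e * l, he, r2_CBU hB (Commute.mul_left k.2.1 hz).eq (Commute.mul_left k.2.2 ha).eq, fun x => ?_⟩
    rw [← mul_assoc e e, k.1, one_mul, hl]
  · exfalso
    rw [hl, al_z, mul_inv_eq_iff_eq_mul] at hz
    rw [hl, al_a, mul_inv_eq_iff_eq_mul] at ha
    rw [hl, al_v] at hv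
    have rb' : ∀ y : J, r * (b * y * b) * r⁻¹ = b * (r * y * r⁻¹) * b := fun y => by
      calc r * (b * y * b) * r⁻¹ = r * b * y * r⁻¹ * (r * b) * r⁻¹ := by group
        _ = _ := by rw [rb]; group
    rcases CU hz ha with h | h | h
    · exact r2_n1 (r2_out h r2_v_mem hv)
    · refine r2_n2 (r2_out h r2_w_mem ?_)
      rw [← rv, ← rb', ← hv]
      conv_lhs => rw [hv]
      group
    · refine r2_n3 (r2_out h (mul_mem r2_v_mem r2_w_mem) ?_)
      rw [show l * r * (b * (v * w) * b) * (l * r)⁻¹ = l * (r * (b * (v * w) * b) * r⁻¹) * l⁻¹ by group, rb',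
        r2_rvw, hv]

end CfsgLib.SJ
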