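import Mathlib
import Cfsg.Agent.Lib.SJ.Defs
import Cfsg.Agent.Lib.SJ.MRel
import Cfsg.Agent.Lib.SJ.MCard
import Cfsg.Agent.Lib.SJ.MCls
import Cfsg.Agent.Lib.SJ.MAl
import Cfsg.Agent.Lib.SJ.MAut

/-! # SJ model package MR3 (for part R): outer involutions of `J`.
`outer_conj`: `S = ⟨conj T, al⟩ ≤ MulAut J` has order 256 (`al` normalises `T`: al_v, al_w, al_b), `|MulAut J| = 2 * 604800`
(`aut`, `al_out`, `J_cen`, `card_J`), so `S` is a Sylow 2-subgroup and `⟨φ⟩` is conjugate into `S` (conjugating by `al` or not: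
an element of `MulAut J` is `conj l` or `conj l * al`, and `al` normalises `S`).  So WLOG `φ x = t * al x * t⁻¹`, `t ∈ T`,
`t * al t = 1`.  These are 24 of the 128 elements of `T`, each `t = c * (al c)⁻¹`; pairs (t, c) of words:
(0x31214021214,0xf091405) (0x3090803,0x213031003) (0x20302,0x3080a03) (0x1020302,0x21314050a) (0x20305080e,0x20a150215)
(0x20c14010204,0x208040910) (0xd05090d,0x2050e) (0x40104,0x30c030611) (0x40201150a02,0x3130f04) (0x1040104,0x20c051509)
(0x103080a03,0x503130714) (0x20914010204,0x30f04050a) (0x103090803,0x212150510) (0xc0602140107,0xb121412)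
(0x411030111,0x40a100310) (0x90d060c,0x80108) (0x0,0x0) (0x201150c0806,0x30b060410) (0x3080a03,0x20614050f)
(0x81501141203,0x141105040b) (0x1,0x71309) (0x31315011408,0x2010c0307) (0xe08060302,0x209051509) (0x1101031104,0x30a060904).
`al_eight`: `y = el 0x50c13`, `l = el 0x71309`.  `outer` follows from the two by conjugation. -/

set_option autoImplicit false
set_option Elab.async false
set_option maxRecDepth 100000

namespace CfsgLib.SJ

open Subgroup Cfsg CfsgLib.Comput

theorem mr3_acts : Acts 100 (finPt 100) alN (netPerm 100 alN) := acts_netPerm (Net.ok_sound (by decide +kernel))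

theorem mr3_val (l : List ℕ) : ((mautW l : J) : Equiv.Perm (Fin 100)) = evL CfsgLib.J2.q l :=
  map_evL CfsgLib.J2.QG.subtype (fun m => (⟨CfsgLib.J2.q m, CfsgLib.J2.q_mem m⟩ : J)) l

/-- the table of `l * al l'` -/
noncomputable def mr3Tab (l l' : List ℕ) : ℕ :=
  actL (stepT 100 7 CfsgLib.J2.Q.W) l ((alN.widen (ones 100 7)).app (actL (stepT 100 7 CfsgLib.J2.Q.W) l'
    ((alN.widen (ones 100 7)).app (idTab 100 7))))

/-- the image of a test set under `l * al l` -/
noncomputable def mr3Img (l : List ℕ) : ℕ :=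
  actL (stepN CfsgLib.J2.Q.W) l (alN.app (actL (stepN CfsgLib.J2.Q.W) l (alN.app 0x9e3779b97f4a7c15f39cc0605)))

theorem mr3_eq (l l' l'' : List ℕ)
    (h : Nat.beq (mr3Tab l l') (actL (stepT 100 7 CfsgLib.J2.Q.W) l'' (idTab 100 7)) = true) :
    mautW l * al (mautW l') = mautW l'' := by
  have hs := TabSt.step (k := 7) (acts_permG CfsgLib.J2.Q.W_ok) (idTab 100 7)
  have h0 := TabSt.one (G := Equiv.Perm (Fin 100)) 100 7 (finPt 100) (idTab 100 7)
  have h1 := actL_rel hs l ((actL_rel hs l' (h0.app mr3_acts)).app mr3_acts)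
  have h2 := actL_rel hs l'' h0
  rw [← Nat.eq_of_beq_eq_true h] at h2
  have := mul_inv_eq_one.1 (perm_eq_one_of_fix _ (TabSt.smul_eq (lab_idTab (by decide)) h1 h2))
  refine Subtype.ext ?_
  rw [Subgroup.coe_mul, al_coe, mr3_val, mr3_val, mr3_val]
  simpa only [mul_one, mul_assoc] using this.symm

open Pointwise in
theorem mr3_ne (l : List ℕ) (h : ∃ i < 100, (mr3Img l).testBit i ≠ (0x9e3779b97f4a7c15f39cc0605).testBit i) :
    mautW l * al (mautW l) ≠ 1 := fun e => by
  obtain ⟨i, hi, h⟩ := h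
  have M := SM.perm CfsgLib.J2.Q.W_ok (by decide)
  have e1 := congrArg Subtype.val e
  rw [Subgroup.coe_mul, al_coe, mr3_val] at e1
  refine h (Bool.eq_iff_iff.2 ?_)
  rw [← M.mem_sem hi, ← M.mem_sem hi, mr3Img, M.sem_actL, mr3_acts.sem_app, M.sem_actL, mr3_acts.sem_app,
    smul_smul, smul_smul, smul_smul, mul_assoc, mul_assoc, ← mul_assoc (netPerm 100 alN), e1,
    OneMemClass.coe_one, one_smul]

/-- the elements of `T` -/
def mr3T (k : Fin 16) (j : Fin 4) (e : Bool) : List ℕ := mautR k ++ mautU j ++ (if e then [0x40104] else [])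

theorem mr3_chk : ∀ (k : Fin 16) (j : Fin 4) (e : Bool),
    (∃ i < 100, (mr3Img (mr3T k j e)).testBit i ≠ (0x9e3779b97f4a7c15f39cc0605).testBit i) ∨
      ∃ c ∈ [0xf091405, 0x213031003, 0x3080a03, 0x21314050a, 0x20a150215, 0x208040910, 0x2050e, 0x30c030611,
        0x3130f04, 0x20c051509, 0x503130714, 0x30f04050a, 0x212150510, 0xb121412, 0x40a100310, 0x80108, 0x0,
        0x30b060410, 0x20614050f, 0x141105040b, 0x71309, 0x2010c0307, 0x209051509, 0x30a060904],
        Nat.beq (mr3Tab (mr3T k j e) [c]) (actL (stepT 100 7 CfsgLib.J2.Q.W) [c] (idTab 100 7)) = true := by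
  decide +kernel

theorem mr3_TP {t : J} (ht : t ∈ T) : t ∈ P0 ∨ t * b ∈ P0 := by
  have bi : b⁻¹ = b := inv_eq_of_mul_eq_one_right bb
  have key : ∀ y ∈ ({v, w, b} : Set J), ∀ x, x ∈ P0 ∨ x * b ∈ P0 → x * y ∈ P0 ∨ x * y * b ∈ P0 := by
    have k : ∀ y ∈ P0, ∀ x, x ∈ P0 ∨ x * b ∈ P0 → x * y ∈ P0 ∨ x * y * b ∈ P0 := by
      rintro y hy x (h | h)
      · exact .inl (mul_mem h hy)
      · exact .inr (by simpa only [mul_assoc, bi, ← mul_assoc b b, bb, one_mul] using mul_mem h (b_norm hy))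
    rintro y (rfl | rfl | rfl)
    · exact k _ (subset_closure (by simp))
    · exact k _ (subset_closure (by simp))
    · rintro x (h | h)
      · exact .inr (by rwa [mul_assoc, bb, mul_one])
      · exact .inl h
  have inv : ∀ y ∈ ({v, w, b} : Set J), y⁻¹ = y := by
    rintro y (rfl | rfl | rfl)
    exacts [inv_eq_of_mul_eq_one_right vv, inv_eq_of_mul_eq_one_right ww, bi]
  induction ht using closure_induction_right with
  | one => exact .inl (one_mem _)
  | mul_right x _ y hy ih => exact key y hy x ih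
  | mul_inv_cancel x _ y hy ih => rw [inv y hy]; exact key y hy x ih

theorem mr3_nf {t : J} (ht : t ∈ T) : ∃ k j e, t = mautW (mr3T k j e) := by
  have key : ∀ p ∈ P0, ∃ k j, p = mautW (mautR k ++ mautU j) := fun p hp => by
    obtain ⟨k, u, hu, rfl⟩ := maut_nf hp
    obtain ⟨h0, h1, h2, h3⟩ := maut_U
    rcases mem_U.1 hu with rfl | rfl | rfl | rfl
    exacts [⟨k, 0, by rw [mautW_append, h0]⟩, ⟨k, 1, by rw [mautW_append, h1]⟩,
      ⟨k, 2, by rw [mautW_append, h2]⟩, ⟨k, 3, by rw [mautW_append, h3]⟩]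
  rcases mr3_TP ht with h | h
  · obtain ⟨k, j, e⟩ := key _ h
    exact ⟨k, j, false, by rw [mr3T, mautW_append, ← e]; exact (mul_one t).symm⟩
  · obtain ⟨k, j, e⟩ := key _ h
    refine ⟨k, j, true, ?_⟩
    rw [mr3T, mautW_append, ← e, if_pos rfl, mautW_cons, mautW_nil, mul_one, mul_assoc]
    exact (mul_one t).symm.trans (congrArg _ bb.symm)

theorem mr3_cob {t : J} (ht : t ∈ T) (h : t * al t = 1) : ∃ c, t * al c = c := by
  obtain ⟨k, j, e, rfl⟩ := mr3_nf ht
  rcases mr3_chk k j e with h1 | ⟨c, -, h1⟩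
  · exact absurd h (mr3_ne _ h1)
  · exact ⟨_, mr3_eq _ _ _ h1⟩

theorem mr3_alT {t : J} (ht : t ∈ T) : al t ∈ T := by
  have hv : v ∈ T := subset_closure (by simp)
  have hw : w ∈ T := subset_closure (by simp)
  have hb : b ∈ T := subset_closure (by simp)
  have : T ≤ T.comap al.toMonoidHom := by
    refine (closure_le _).2 ?_
    rintro y (rfl | rfl | rfl) <;> change al _ ∈ T
    · rw [al_v]; exact mul_mem (mul_mem hb hv) hb
    · rw [al_w]; exact mul_mem (mul_mem hb (mul_mem hv hw)) hb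
    · rw [al_b]; exact hb
  exact this ht

theorem mr3_al2 : al * al = 1 := MulEquiv.ext al_al

theorem mr3_alc (l : J) : al * MulAut.conj l = MulAut.conj (al l) * al := MulEquiv.ext fun x => by simp

theorem mr3_inj : Function.Injective (MulAut.conj : J →* MulAut J) :=
  (injective_iff_map_eq_one _).2 fun l h => J_cen l fun x => by
    have : l * x * l⁻¹ = x := DFunLike.congr_fun h x
    exact mul_inv_eq_iff_eq_mul.1 this

theorem mr3_out (l m : J) : MulAut.conj l ≠ MulAut.conj m * al := fun e => al_out (m⁻¹ * l) fun x => by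
  have : l * x * l⁻¹ = m * al x * m⁻¹ := DFunLike.congr_fun e x
  calc al x = m⁻¹ * (m * al x * m⁻¹) * m := by group
    _ = _ := by rw [← this]; group

/-- the maps `conj l` and `conj l * al` -/
noncomputable def mr3F (K : Subgroup J) : K ⊕ K → MulAut J :=
  Sum.elim (fun l => MulAut.conj l.1) fun l => MulAut.conj l.1 * al

theorem mr3F_inj (K : Subgroup J) : Function.Injective (mr3F K) := by
  rintro (l | l) (m | m) e
  · exact congrArg _ (Subtype.ext (mr3_inj e))
  · exact absurd e (mr3_out _ _)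
  · exact absurd e.symm (mr3_out _ _)
  · exact congrArg _ (Subtype.ext (mr3_inj (mul_right_cancel e)))

theorem mr3_cardF (K : Subgroup J) : Nat.card (Set.range (mr3F K)) = 2 * Nat.card K := by
  rw [Nat.card_range_of_injective (mr3F_inj K), Nat.card_sum, two_mul]

theorem mr3_card : Nat.card (MulAut J) = 2 * 604800 := by
  have : Set.range (mr3F ⊤) = Set.univ := Set.eq_univ_of_forall fun φ => by
    rcases aut φ with ⟨l, h⟩ | ⟨l, h⟩
    · exact ⟨.inl ⟨l, mem_top l⟩, (MulEquiv.ext h).symm⟩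
    · exact ⟨.inr ⟨l, mem_top l⟩, (MulEquiv.ext h).symm⟩
  rw [← card_J, ← card_top (G := J), ← mr3_cardF, this, Nat.card_univ]

/-- a Sylow 2-subgroup of `Aut J` -/
noncomputable def mr3S : Subgroup (MulAut J) where
  carrier := Set.range (mr3F T)
  one_mem' := ⟨.inl 1, map_one _⟩
  mul_mem' := by
    rintro _ _ ⟨l | l, rfl⟩ ⟨m | m, rfl⟩
    · exact ⟨.inl (l * m), map_mul _ _ _⟩
    · exact ⟨.inr (l * m), by simp [mr3F, mul_assoc]⟩
    · exact ⟨.inr (l * ⟨_, mr3_alT m.2⟩), by simp [mr3F, mul_assoc, mr3_alc]⟩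
    · refine ⟨.inl (l * ⟨_, mr3_alT m.2⟩), ?_⟩
      simp only [mr3F, Sum.elim_inl, Sum.elim_inr, Subgroup.coe_mul, map_mul]
      rw [mul_assoc, ← mul_assoc al, mr3_alc, mul_assoc, mr3_al2, mul_one]
  inv_mem' := by
    rintro _ ⟨l | l, rfl⟩
    · exact ⟨.inl l⁻¹, map_inv _ _⟩
    · refine ⟨.inr ⟨_, mr3_alT l⁻¹.2⟩, ?_⟩
      simp only [mr3F, Sum.elim_inr]
      rw [← mr3_alc, mul_inv_rev, inv_eq_of_mul_eq_one_right mr3_al2, Subgroup.coe_inv, map_inv]

theorem outer_conj (φ : MulAut J) (h1 : ∀ x, φ (φ x) = x) (h2 : ¬∃ l : J, ∀ x, φ x = l * x * l⁻¹) :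
    ∃ c : J, ∀ x, φ (c * x * c⁻¹) = c * al x * c⁻¹ := by
  have : Finite (MulAut J) := Nat.finite_of_card_ne_zero (by rw [mr3_card]; decide)
  have hS : Nat.card mr3S = 2 ^ (Nat.card (MulAut J)).factorization 2 := by
    have e : (2 * 604800 : ℕ).factorization 2 = 8 := by
      rw [show (2 * 604800 : ℕ) = 2 ^ 8 * 4725 by norm_num, Nat.factorization_mul (by norm_num) (by norm_num),
        Nat.factorization_pow, Finsupp.add_apply, Finsupp.smul_apply, Nat.prime_two.factorization_self,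
        Nat.factorization_eq_zero_of_not_dvd (by norm_num)]
      rfl
    rw [mr3_card, e]
    exact (mr3_cardF T).trans (by rw [card_T]; norm_num)
  have hφ : φ * φ = 1 := MulEquiv.ext h1
  have hp : IsPGroup 2 (zpowers φ) := by
    rintro ⟨_, n, rfl⟩
    exact ⟨1, Subtype.ext (by
      change (φ ^ n) ^ 2 ^ 1 = 1
      rw [pow_one, ← zpow_natCast, ← zpow_mul, mul_comm, zpow_mul, zpow_natCast, pow_two, hφ, one_zpow])⟩
  obtain ⟨P, hP⟩ := hp.exists_le_sylow
  obtain ⟨g, hg⟩ := MulAction.exists_smul_eq (MulAut J) P (Sylow.ofCard mr3S hS)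
  have hm : g * φ * g⁻¹ ∈ mr3S := by
    have : g * φ * g⁻¹ ∈ (g • P : Sylow 2 (MulAut J)) :=
      Subgroup.smul_mem_pointwise_smul φ (MulAut.conj g) P.toSubgroup (hP (mem_zpowers φ))
    rwa [hg] at this
  have e : ∀ x, φ x = g⁻¹ ((g * φ * g⁻¹) (g x)) := fun x => by simp
  obtain ⟨t | t, ht⟩ := hm
  · exact absurd ⟨g⁻¹ t.1, fun x => by rw [e, ← ht]; simp [mr3F]⟩ h2
  · have h3 : MulAut.conj (t.1 * al t.1) = 1 := by
      have : mr3F T (.inr t) * mr3F T (.inr t) = 1 := by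
        rw [ht]; calc _ = g * (φ * φ) * g⁻¹ := by group
          _ = 1 := by rw [hφ]; group
      simp only [mr3F, Sum.elim_inr] at this
      rwa [mul_assoc, ← mul_assoc al, mr3_alc, mul_assoc, mr3_al2, mul_one, ← map_mul] at this
    obtain ⟨c, hc⟩ := mr3_cob t.2 (mr3_inj (h3.trans (map_one _).symm))
    have k : ∀ x, φ (g⁻¹ (c * x * c⁻¹)) = g⁻¹ (c * al x * c⁻¹) := fun x => by
      rw [e, ← ht, MulAut.apply_inv_self]
      congr 1
      change t.1 * al (c * x * c⁻¹) * t.1⁻¹ = _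
      rw [map_mul, map_mul, map_inv]
      calc _ = t.1 * al c * al x * (t.1 * al c)⁻¹ := by group
        _ = _ := by rw [hc]
    rcases aut g⁻¹ with ⟨m, hm⟩ | ⟨m, hm⟩
    · refine ⟨m * c, fun x => ?_⟩
      have := k x
      rw [hm, hm] at this
      simpa only [mul_inv_rev, mul_assoc] using this
    · refine ⟨m * al c, fun x => ?_⟩
      have := k (al x)
      rw [hm, hm] at this
      simpa only [map_mul, map_inv, al_al, mul_inv_rev, mul_assoc] using this

theorem al_eight : ∃ l y : J, al y = y ∧ y ^ 4 = z ∧ al l * l⁻¹ = z := by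
  refine ⟨mautW [0x71309], mautW [0x50c13], ?_, ?_, ?_⟩
  · simpa only [mautW_nil, one_mul] using mr3_eq [] [0x50c13] [0x50c13] (by decide +kernel)
  · simpa only [z, mautW_cons, mautW_nil, mul_one, pow_succ, pow_zero, one_mul, mul_assoc] using
      mautW_eq (l := [0x50c13, 0x50c13, 0x50c13, 0x50c13]) (l' := [0x1]) (by decide +kernel)
  · rw [mul_inv_eq_iff_eq_mul]
    simpa only [z, mautW_cons, mautW_nil, mul_one, one_mul] using
      mr3_eq [] [0x71309] [0x1, 0x71309] (by decide +kernel)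

theorem outer (φ : MulAut J) (h1 : ∀ x, φ (φ x) = x) (h2 : ¬∃ l : J, ∀ x, φ x = l * x * l⁻¹) :
    ∃ l y : J, φ y = y ∧ A2 (y ^ 4) ∧ φ l * l⁻¹ = y ^ 4 := by
  obtain ⟨c, hc⟩ := outer_conj φ h1 h2
  obtain ⟨l, y, e1, e2, e3⟩ := al_eight
  refine ⟨c * l * c⁻¹, c * y * c⁻¹, by rw [hc, e1], ⟨c, by rw [conj_pow, e2]⟩, ?_⟩
  rw [hc, conj_pow, e2, ← e3]
  group

end CfsgLib.SJ
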