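import Mathlib
import Cfsg.Agent.Lib.SJ.PF
import Cfsg.Agent.Lib.GM2.Defs
import Cfsg.Agent.Lib.Comp.Quasisimple

/-! Package PSTD: `B` is standard (plans/SJS.md). -/

set_option autoImplicit false
set_option linter.unusedVariables false
set_option linter.unusedSectionVars false

namespace CfsgLib.SJ.Pu

open Subgroup Cfsg
open scoped MatrixGroups

variable {G : Type*} [Group G] {B Y S E : Subgroup G} {t z a s f g : G}

namespace Pm
variable [Finite G] (h : Pm B Y t z a s f g)
include h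

theorem pstd_tB : t ∉ B := by
  simpa using h.nc 1

theorem pstd_t1 : t ≠ 1 := fun e => h.pstd_tB (e ▸ one_mem B)

theorem pstd_ord : orderOf t = 2 := by
  haveI : Fact (Nat.Prime 2) := ⟨Nat.prime_two⟩
  exact orderOf_eq_prime (by rw [pow_two]; exact h.tt) h.pstd_t1

theorem pstd_mem_zp {x : G} (hx : x ∈ zpowers t) : x = 1 ∨ x = t := by
  obtain ⟨n, rfl⟩ := mem_zpowers_iff.1 hx
  have h2 : t ^ (2 : ℤ) = 1 := by rw [zpow_two]; exact h.tt
  rcases Int.even_or_odd' n with ⟨k, rfl | rfl⟩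
  · left; rw [zpow_mul, h2, one_zpow]
  · right; rw [zpow_add, zpow_mul, h2, one_zpow, one_mul, zpow_one]

theorem pstd_tC : t ∈ centralizer (B : Set G) :=
  mem_centralizer_iff.2 fun b hb => (h.tB b hb).symm

theorem pstd_odd_mem {y : G} (hy : y ∈ Y) {n : ℕ} (e : y ^ 2 ^ n ∈ B) : y ∈ B := by
  have hc : (2 ^ n).gcd (orderOf y) = 1 :=
    Nat.Coprime.pow_left n ((Nat.coprime_two_left).2 (h.yodd y hy))
  have : y ∈ zpowers (y ^ 2 ^ n) := mem_zpowers_pow_iff.2 hc
  exact (zpowers_le.2 e) this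

/-- the 2-elements of `C(t)` -/
theorem two_cent {x : G} (hx : x * t = t * x) (h2 : ∃ n : ℕ, x ^ 2 ^ n = 1) : x ∈ B ∨ x * t ∈ B := by
  obtain ⟨n, hn⟩ := h2
  obtain ⟨y, hy, b, hb, e | e⟩ := h.cent x hx
  · left
    have c : Commute y b := h.yB y hy b hb
    have e2 : y ^ 2 ^ n * b ^ 2 ^ n = 1 := by rw [← c.mul_pow, ← e, hn]
    have : y ^ 2 ^ n ∈ B := by
      rw [eq_inv_of_mul_eq_one_left e2]; exact inv_mem (pow_mem hb _)
    rw [e]; exact mul_mem (h.pstd_odd_mem hy this) hb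
  · right
    have c : Commute y b := h.yB y hy b hb
    have ct : Commute x t := hx
    have e1 : x * t = y * b := by rw [e, mul_assoc, h.tt, mul_one]
    have t2 : t ^ 2 ^ (n + 1) = 1 := by
      rw [pow_succ', pow_mul, pow_two, h.tt, one_pow]
    have x2 : x ^ 2 ^ (n + 1) = 1 := by
      rw [pow_succ, pow_mul, hn, one_pow]
    have e2 : y ^ 2 ^ (n + 1) * b ^ 2 ^ (n + 1) = 1 := by
      rw [← c.mul_pow, ← e1, ct.mul_pow, t2, x2, one_mul]
    have : y ^ 2 ^ (n + 1) ∈ B := by
      rw [eq_inv_of_mul_eq_one_left e2]; exact inv_mem (pow_mem hb _)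
    rw [e1]; exact mul_mem (h.pstd_odd_mem hy this) hb

theorem pstd_pg : IsPGroup 2 (zpowers t) :=
  Tech.isPGroup_zpowers_of_pow (k := 1) (by rw [pow_one, pow_two]; exact h.tt)

theorem pstd_comm_of_norm {x : G} (hx : x ∈ normalizer ((zpowers t : Subgroup G) : Set G)) :
    x * t = t * x := by
  rcases h.pstd_mem_zp (Tech.conj_mem_of_mem_normalizer hx (mem_zpowers t)) with e | e
  · exfalso
    apply h.pstd_t1
    have : t = x⁻¹ * (x * t * x⁻¹) * x := by group
    rw [this, e]; group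
  · calc x * t = (x * t * x⁻¹) * x := by group
      _ = t * x := by rw [e]

theorem pstd_syl : Tech.IsSylowIn 2 (zpowers t) (centralizer (B : Set G)) := by
  haveI : Fact (Nat.Prime 2) := ⟨Nat.prime_two⟩
  by_contra hn
  obtain ⟨R, hR, hlt, hK, hN⟩ :=
    Tech.exists_lt_pgroup_normalizer h.pstd_pg (zpowers_le.2 h.pstd_tC) hn
  apply hlt.not_ge
  intro x hx
  have cx := h.pstd_comm_of_norm (hN hx)
  have xC := mem_centralizer_iff.1 (hK hx)
  rcases h.two_cent cx (Tech.isPGroup_iff_mem.1 hR x hx) with e | e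
  · rw [h.a5.cen x e fun c hc => (xC c hc).symm]; exact one_mem _
  · have := h.a5.cen _ e fun c hc =>
      ((mem_centralizer_iff.1 (mul_mem (hK hx) h.pstd_tC)) c hc).symm
    rw [eq_inv_of_mul_eq_one_left this]; exact inv_mem (mem_zpowers t)

/-- `⟨t⟩` is a Sylow 2-subgroup of `C(B)`: every 2-subgroup of `C(B)` has order at most 2 -/
theorem two_le {R : Subgroup G} (hR : IsPGroup 2 R) (le : R ≤ centralizer (B : Set G)) : Nat.card R ≤ 2 := by
  haveI : Fact (Nat.Prime 2) := ⟨Nat.prime_two⟩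
  have := h.pstd_syl.card_le hR le
  rwa [Nat.card_zpowers, h.pstd_ord] at this

theorem qs : IsQuasisimple B := by
  haveI := h.a5.simple
  exact CfsgLib.Comp.qs_of_isSimpleGroup h.a5.nab

theorem pstd_cent_norm {x : G} (hx : x * t = t * x) : x ∈ normalizer (B : Set G) := by
  have yN : ∀ y ∈ Y, y ∈ normalizer (B : Set G) := fun y hy =>
    Tech.mem_normalizer_of_forall fun b hb => by
      rw [h.yB y hy b hb, mul_inv_cancel_right]; exact hb
  have tN : t ∈ normalizer (B : Set G) :=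
    Tech.mem_normalizer_of_forall fun b hb => by
      rw [h.tB b hb, mul_inv_cancel_right]; exact hb
  obtain ⟨y, hy, b, hb, e | e⟩ := h.cent x hx
  · rw [e]; exact mul_mem (yN y hy) (le_normalizer hb)
  · rw [e]; exact mul_mem (mul_mem (yN y hy) (le_normalizer hb)) tN

theorem pstd_C_norm {c : G} (hc : c ∈ centralizer (B : Set G)) : c ∈ normalizer (B : Set G) :=
  Tech.mem_normalizer_of_forall fun b hb => by
    rw [← mem_centralizer_iff.1 hc b hb, mul_inv_cancel_right]; exact hb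

theorem norm_eq : normalizer ((centralizer (B : Set G) : Subgroup G) : Set G) = normalizer (B : Set G) := by
  haveI : Fact (Nat.Prime 2) := ⟨Nat.prime_two⟩
  apply le_antisymm
  · intro x hx
    obtain ⟨c, hc, e⟩ := h.pstd_syl.frattini hx
    have h1 := h.pstd_cent_norm (h.pstd_comm_of_norm e)
    have : x = c⁻¹ * (c * x) := by group
    rw [this]; exact mul_mem (inv_mem (h.pstd_C_norm hc)) h1
  · intro x hx
    rw [Tech.mem_normalizer_iff_cj, Tech.cj_centralizer, Tech.mem_normalizer_iff_cj.1 hx]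

theorem pstd_conj_t {u : G} (hu : u ∈ centralizer (B : Set G)) (ho : orderOf u = 2) :
    ∃ c ∈ centralizer (B : Set G), c * u * c⁻¹ = t := by
  haveI : Fact (Nat.Prime 2) := ⟨Nat.prime_two⟩
  obtain ⟨c, hc, e⟩ := h.pstd_syl.exists_conj_mem hu
    (Tech.isPGroup_zpowers_of_pow (k := 1) (by rw [pow_one, ← ho]; exact pow_orderOf_eq_one u))
  refine ⟨c, hc, ?_⟩
  rcases h.pstd_mem_zp e with e | e
  · exfalso
    have : u = c⁻¹ * (c * u * c⁻¹) * c := by group
    rw [e] at this
    have u1 : u = 1 := by rw [this]; group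
    rw [u1, orderOf_one] at ho
    exact absurd ho (by decide)
  · exact e

theorem tight : IsTightlyEmbedded (centralizer (B : Set G)) := by
  haveI : Fact (Nat.Prime 2) := ⟨Nat.prime_two⟩
  refine ⟨?_, fun x hx => ?_⟩
  · have := card_dvd_of_le (zpowers_le.2 h.pstd_tC)
    rw [Nat.card_zpowers, h.pstd_ord] at this
    exact even_iff_two_dvd.2 this
  · rw [← Nat.not_even_iff_odd]
    intro he
    apply hx
    obtain ⟨u, hu⟩ := exists_prime_orderOf_dvd_card' 2 (even_iff_two_dvd.1 he)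
    have ho : orderOf (u : G) = 2 := by rw [Subgroup.orderOf_coe, hu]
    have u1 : (u : G) ∈ centralizer (B : Set G) := u.2.1
    have u2 : x⁻¹ * (u : G) * x ∈ centralizer (B : Set G) := Tech.mem_cj.1 u.2.2
    have ho2 : orderOf (x⁻¹ * (u : G) * x) = 2 := by
      rw [← ho]
      have := MulEquiv.orderOf_eq (MulAut.conj x⁻¹) (u : G)
      simpa using this
    obtain ⟨c, hc, e⟩ := h.pstd_conj_t u1 ho
    obtain ⟨d, hd, e'⟩ := h.pstd_conj_t u2 ho2
    have k : (c * x * d⁻¹) * t = t * (c * x * d⁻¹) := by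
      have e1 : (c * x * d⁻¹) * (d * (x⁻¹ * (u : G) * x) * d⁻¹) = (c * u * c⁻¹) * (c * x * d⁻¹) := by
        group
      rw [e, e'] at e1
      exact e1
    have k2 := h.pstd_cent_norm k
    rw [h.norm_eq]
    have : x = c⁻¹ * (c * x * d⁻¹) * d := by group
    rw [this]
    exact mul_mem (mul_mem (inv_mem (h.pstd_C_norm hc)) k2) (h.pstd_C_norm hd)

theorem not_normal : ¬B.Normal := by
  intro hN
  have fN : f ∈ normalizer ((centralizer (B : Set G) : Subgroup G) : Set G) := by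
    rw [h.norm_eq, normalizer_eq_top]; trivial
  have h1 := Tech.conj_mem_of_mem_normalizer fN h.pstd_tC
  have fF : f ∈ Fs f g := subset_closure (by simp)
  rw [h.toFG.conj_t fF, h.ff] at h1
  have h2 : z ∈ centralizer (B : Set G) := by
    have : z = t⁻¹ * (t * z) := by group
    rw [this]; exact mul_mem (inv_mem h.pstd_tC) h1
  exact h.z1 (h.a5.cen z h.zB fun c hc => (mem_centralizer_iff.1 h2 c hc).symm)

/-- a normal subgroup containing `B` contains `F` -/
theorem F_le [E.Normal] (BE : B ≤ E) : f ∈ E ∧ g ∈ E := by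
  have hN : E.Normal := inferInstance
  have c : ∀ x : G, s * x * s⁻¹ * x⁻¹ ∈ E := fun x => by
    have : s * x * s⁻¹ * x⁻¹ = s * (x * s⁻¹ * x⁻¹) := by group
    rw [this]; exact mul_mem (BE h.sB) (hN.conj_mem _ (inv_mem (BE h.sB)) x)
  have c1 := c f
  have c2 := c g
  rw [h.sf] at c1
  rw [h.sg] at c2
  have e2 : f⁻¹ * g⁻¹ * g⁻¹ = f⁻¹ * a⁻¹ := by rw [← h.gg]; group
  rw [e2] at c2
  have fE : f ∈ E := by
    have : f = (f⁻¹ * a⁻¹ * a)⁻¹ := by group
    rw [this]; exact inv_mem (mul_mem c2 (BE h.aB))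
  refine ⟨fE, ?_⟩
  have : g = g * f⁻¹ * f := by group
  rw [this]; exact mul_mem c1 fE

end Pm

end CfsgLib.SJ.Pu
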