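import Mathlib
import Cfsg.Agent.Lib.SJ.PStd

/-! Package PORB: the orbit of `t` on `t F` (plans/SJS.md). -/

set_option autoImplicit false
set_option linter.unusedVariables false
set_option linter.unusedSectionVars false

namespace CfsgLib.SJ.Pu

open Subgroup Cfsg
open scoped MatrixGroups

variable {G : Type*} [Group G] {B Y S E : Subgroup G} {t z a s f g : G}

/-- elements of `E` which normalise `F` and move `t` inside `t F` -/
structure OrbN (E : Subgroup G) (t f g y : G) : Prop where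
  mem : y ∈ E
  nF : ∀ φ ∈ Fs f g, y * φ * y⁻¹ ∈ Fs f g
  tau : y * t * y⁻¹ * t ∈ Fs f g

theorem orb_cocycle (tt : t * t = 1) (x y : G) :
    x * y * t * (x * y)⁻¹ * t = x * (y * t * y⁻¹ * t) * x⁻¹ * (x * t * x⁻¹ * t) := by
  have : x * (y * t * y⁻¹ * t) * x⁻¹ * (x * t * x⁻¹ * t) = x * (y * t * y⁻¹) * (t * t) * x⁻¹ * t := by group
  rw [this, tt]; group

theorem OrbN.mul (tt : t * t = 1) {x y : G} (hx : OrbN E t f g x) (hy : OrbN E t f g y) : OrbN E t f g (x * y) where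
  mem := E.mul_mem hx.mem hy.mem
  nF φ hφ := by
    have := hx.nF _ (hy.nF φ hφ)
    have e : x * y * φ * (x * y)⁻¹ = x * (y * φ * y⁻¹) * x⁻¹ := by group
    rw [e]; exact this
  tau := by
    rw [orb_cocycle tt]
    exact mul_mem (hx.nF _ hy.tau) hx.tau

namespace FG
variable (h : FG t z a s f g)
include h

theorem orb_zU : z ∈ Fs z a := subset_closure (by simp)
theorem orb_aU : a ∈ Fs z a := subset_closure (by simp)
theorem orb_fF : f ∈ Fs f g := subset_closure (by simp)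
theorem orb_gF : g ∈ Fs f g := subset_closure (by simp)

theorem orb_za : z * a = a * z := h.comm (h.U_le h.orb_zU) (h.U_le h.orb_aU)

theorem orb_za1 : z * a ≠ 1 := by
  intro e
  apply h.za
  have : z * a * a = a := by rw [e, one_mul]
  rw [mul_assoc, h.aa, mul_one] at this
  exact this

theorem orb_sts : s * t * s⁻¹ * t = 1 := by
  rw [h.st, mul_inv_cancel_right, h.tt]

theorem orb_s (sE : s ∈ E) : OrbN E t f g s where
  mem := sE
  nF φ hφ := h.s_norm hφ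
  tau := by rw [h.orb_sts]; exact one_mem _

theorem orb_sza : s * (z * a) * s⁻¹ = z := by
  have e : s * (z * a) * s⁻¹ = (s * z * s⁻¹) * (s * a * s⁻¹) := by group
  rw [e, h.sz, h.sa, h.orb_za, ← mul_assoc, h.aa, one_mul]

/-- the square of the cocycle -/
theorem orb_q {x y : G} (hx : OrbN E t f g x) (hy : OrbN E t f g y) :
    (x * y * t * (x * y)⁻¹ * t) * (x * y * t * (x * y)⁻¹ * t) =
      x * ((y * t * y⁻¹ * t) * (y * t * y⁻¹ * t)) * x⁻¹ * ((x * t * x⁻¹ * t) * (x * t * x⁻¹ * t)) := by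
  rw [orb_cocycle h.tt]
  have c := h.comm (hx.nF _ hy.tau) hx.tau
  generalize (y * t * y⁻¹ * t) = p at *
  generalize (x * t * x⁻¹ * t) = q at *
  have e1 : x * p * x⁻¹ * q * (x * p * x⁻¹ * q) = x * p * x⁻¹ * (q * (x * p * x⁻¹)) * q := by group
  rw [e1, ← c]; group

theorem orb_act {y u : G} (hy : ∀ φ ∈ Fs f g, y * φ * y⁻¹ ∈ Fs f g) (hu : u ∈ Fs z a) (u1 : u ≠ 1) :
    y * u * y⁻¹ = z ∨ y * u * y⁻¹ = a ∨ y * u * y⁻¹ = z * a := by
  have m : y * u * y⁻¹ ∈ Fs z a := by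
    refine h.mem_U_of_sq (hy _ (h.U_le hu)) ?_
    have e : y * u * y⁻¹ * (y * u * y⁻¹) = y * (u * u) * y⁻¹ := by group
    rw [e, h.sq_U hu]; group
  rcases h.mem_U.1 m with e | e
  · exfalso
    apply u1
    have : u = y⁻¹ * (y * u * y⁻¹) * y := by group
    rw [this, e]; group
  · exact e

/-- step 1: a good element fixing `z` -/
theorem orb_fixz (sE : s ∈ E) {x : G} (hx : OrbN E t f g x) (xq : (x * t * x⁻¹ * t) * (x * t * x⁻¹ * t) ≠ 1) :
    ∃ y, OrbN E t f g y ∧ (y * t * y⁻¹ * t) * (y * t * y⁻¹ * t) ≠ 1 ∧ y * z * y⁻¹ = z := by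
  have step : ∀ y, OrbN E t f g y → (y * t * y⁻¹ * t) * (y * t * y⁻¹ * t) ≠ 1 →
      OrbN E t f g (s * y) ∧ (s * y * t * (s * y)⁻¹ * t) * (s * y * t * (s * y)⁻¹ * t) ≠ 1 := by
    intro y hy yq
    refine ⟨(h.orb_s sE).mul h.tt hy, ?_⟩
    rw [h.orb_q (h.orb_s sE) hy, h.orb_sts, mul_one, mul_one]
    intro e
    apply yq
    generalize (y * t * y⁻¹ * t) * (y * t * y⁻¹ * t) = p at *
    have : p = s⁻¹ * (s * p * s⁻¹) * s := by group
    rw [this, e]; group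
  rcases h.orb_act hx.nF h.orb_zU h.z1 with e | e | e
  · exact ⟨x, hx, xq, e⟩
  · obtain ⟨h1, q1⟩ := step x hx xq
    obtain ⟨h2, q2⟩ := step _ h1 q1
    refine ⟨_, h2, q2, ?_⟩
    have : s * (s * x) * z * (s * (s * x))⁻¹ = s * (s * (x * z * x⁻¹) * s⁻¹) * s⁻¹ := by group
    rw [this, e, h.sa, h.orb_sza]
  · obtain ⟨h1, q1⟩ := step x hx xq
    refine ⟨_, h1, q1, ?_⟩
    have : s * x * z * (s * x)⁻¹ = s * (x * z * x⁻¹) * s⁻¹ := by group
    rw [this, e, h.orb_sza]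

/-- step 2: a good element centralising `U` -/
theorem orb_cent (sE : s ∈ E) {x : G} (hx : OrbN E t f g x) (xq : (x * t * x⁻¹ * t) * (x * t * x⁻¹ * t) ≠ 1) :
    ∃ y, OrbN E t f g y ∧ (y * t * y⁻¹ * t) * (y * t * y⁻¹ * t) ≠ 1 ∧ y * z * y⁻¹ = z ∧ y * a * y⁻¹ = a := by
  obtain ⟨y, hy, yq, yz⟩ := h.orb_fixz sE hx xq
  have zza : z * (z * a) = a := by rw [← mul_assoc, h.zz, one_mul]
  have zaa : z * a * a = z := by rw [mul_assoc, h.aa, mul_one]
  have zaz : z * a * z = a := by rw [h.orb_za, mul_assoc, h.zz, mul_one]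
  have aza : a * (z * a) = z := by rw [h.orb_za, ← mul_assoc, h.aa, one_mul]
  rcases h.orb_act hy.nF h.orb_aU h.a1 with e | e | e
  · exfalso
    apply h.za
    calc z = y⁻¹ * (y * z * y⁻¹) * y := by group
      _ = y⁻¹ * (y * a * y⁻¹) * y := by rw [yz, e]
      _ = a := by group
  · exact ⟨y, hy, yq, yz, e⟩
  · have yza : y * (z * a) * y⁻¹ = a := by
      have : y * (z * a) * y⁻¹ = (y * z * y⁻¹) * (y * a * y⁻¹) := by group
      rw [this, yz, e, zza]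
    have hs := h.orb_s sE
    have yy : y * y * z * (y * y)⁻¹ = z ∧ y * y * a * (y * y)⁻¹ = a := by
      constructor
      · have : y * y * z * (y * y)⁻¹ = y * (y * z * y⁻¹) * y⁻¹ := by group
        rw [this, yz, yz]
      · have : y * y * a * (y * y)⁻¹ = y * (y * a * y⁻¹) * y⁻¹ := by group
        rw [this, e, yza]
    rcases h.mem_U.1 (h.sq_mem hy.tau) with q | q | q | q
    · exact (yq q).elim
    · refine ⟨y * (s * (y * s)), hy.mul h.tt (hs.mul h.tt (hy.mul h.tt hs)), ?_, ?_, ?_⟩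
      · rw [h.orb_q hy (hs.mul h.tt (hy.mul h.tt hs)), h.orb_q hs (hy.mul h.tt hs), h.orb_q hy hs, h.orb_sts, q]
        simp only [mul_one, mul_inv_cancel, one_mul]
        rw [h.sz, e, zaz]
        exact h.a1
      · have : y * (s * (y * s)) * z * (y * (s * (y * s)))⁻¹ = y * (s * (y * (s * z * s⁻¹) * y⁻¹) * s⁻¹) * y⁻¹ := by group
        rw [this, h.sz, e, h.orb_sza, yz]
      · have : y * (s * (y * s)) * a * (y * (s * (y * s)))⁻¹ = y * (s * (y * (s * a * s⁻¹) * y⁻¹) * s⁻¹) * y⁻¹ := by group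
        rw [this, h.sa, yza, h.sa, yza]
    · refine ⟨y * y, hy.mul h.tt hy, ?_, yy.1, yy.2⟩
      rw [h.orb_q hy hy, q, e, zaa]
      exact h.z1
    · refine ⟨y * y, hy.mul h.tt hy, ?_, yy.1, yy.2⟩
      rw [h.orb_q hy hy, q, yza, aza]
      exact h.z1

theorem orb_sinv : s⁻¹ = s * s := by
  rw [inv_eq_iff_mul_eq_one, ← mul_assoc, h.s3]

/-- conjugates by powers of `s` -/
theorem orb_conj (sE : s ∈ E) {y : G} (hy : y ∈ E) (yz : y * z = z * y) (ya : y * a = a * y)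
    (yn : ∀ φ ∈ Fs f g, y * φ * y⁻¹ ∈ Fs f g) (i : ℕ) :
    s ^ i * y * (s ^ i)⁻¹ ∈ E ∧ (s ^ i * y * (s ^ i)⁻¹) * z = z * (s ^ i * y * (s ^ i)⁻¹) ∧
      (s ^ i * y * (s ^ i)⁻¹) * a = a * (s ^ i * y * (s ^ i)⁻¹) ∧
      ∀ φ ∈ Fs f g, (s ^ i * y * (s ^ i)⁻¹) * φ * (s ^ i * y * (s ^ i)⁻¹)⁻¹ ∈ Fs f g := by
  induction i with
  | zero => simpa using ⟨hy, yz, ya, yn⟩
  | succ i ih =>
    have e : s ^ (i + 1) * y * (s ^ (i + 1))⁻¹ = s * (s ^ i * y * (s ^ i)⁻¹) * s⁻¹ := by rw [pow_succ']; group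
    rw [e]
    generalize s ^ i * y * (s ^ i)⁻¹ = w at ih
    obtain ⟨wE, wz, wa, wn⟩ := ih
    have ca : s * w * s⁻¹ * a = a * (s * w * s⁻¹) := by
      rw [← h.sz]
      have e1 : s * w * s⁻¹ * (s * z * s⁻¹) = s * (w * z) * s⁻¹ := by group
      rw [e1, wz]; group
    have cz : s * w * s⁻¹ * z = z * (s * w * s⁻¹) := by
      have e0 : w * (z * a) = z * a * w := by rw [← mul_assoc, wz, mul_assoc, wa, mul_assoc]
      rw [← h.orb_sza]
      have e1 : s * w * s⁻¹ * (s * (z * a) * s⁻¹) = s * (w * (z * a)) * s⁻¹ := by group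
      rw [e1, e0]; group
    refine ⟨E.mul_mem (E.mul_mem sE wE) (E.inv_mem sE), cz, ca, fun φ hφ => ?_⟩
    have m : s⁻¹ * φ * s ∈ Fs f g := by
      have := h.s_norm (h.s_norm hφ)
      have e2 : s * (s * φ * s⁻¹) * s⁻¹ = (s * s) * φ * (s * s)⁻¹ := by group
      rw [e2, ← h.orb_sinv, inv_inv] at this
      exact this
    have := h.s_norm (wn _ m)
    have e3 : s * w * s⁻¹ * φ * (s * w * s⁻¹)⁻¹ = s * (w * (s⁻¹ * φ * s) * w⁻¹) * s⁻¹ := by group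
    rw [e3]; exact this

end FG

theorem FG.orb (h : FG t z a s f g) (sE : s ∈ E) (fE : f ∈ E) (gE : g ∈ E) {x : G} (xE : x ∈ E)
    (xn : ∀ φ ∈ Fs f g, x * φ * x⁻¹ ∈ Fs f g) (xt : x * t * x⁻¹ * t ∈ Fs f g) (xU : x * t * x⁻¹ * t ∉ Fs z a) :
    ∀ φ ∈ Fs f g, ∃ y ∈ E, y * z = z * y ∧ y * a = a * y ∧ (∀ ψ ∈ Fs f g, y * ψ * y⁻¹ ∈ Fs f g) ∧
      y * t * y⁻¹ = t * φ := by
  have FE : Fs f g ≤ E := by
    rw [Fs, closure_le]
    rintro y (rfl | rfl)
    · exact fE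
    · exact gE
  have zF := h.U_le h.orb_zU
  have aF := h.U_le h.orb_aU
  intro φ hφ
  by_cases hU : φ ∈ Fs z a
  · obtain ⟨ψ, hψ, e⟩ := h.exists_sq hU
    refine ⟨ψ, FE hψ, h.comm hψ zF, h.comm hψ aF, fun χ hχ => mul_mem (mul_mem hψ hχ) (inv_mem hψ), ?_⟩
    rw [h.conj_t hψ, e]
  · obtain ⟨y, hy, yq, yz, ya⟩ := h.orb_cent sE ⟨xE, xn, xt⟩ (fun e => xU (h.mem_U_of_sq xt e))
    have yU : y * t * y⁻¹ * t ∉ Fs z a := fun m => yq (h.sq_U m)
    obtain ⟨i, u, hu, e⟩ := h.s_trans hy.tau yU (inv_mem hφ) (fun m => hU (by simpa using inv_mem m))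
    obtain ⟨wE, wz, wa, wn⟩ := h.orb_conj sE hy.mem (mul_inv_eq_iff_eq_mul.1 yz) (mul_inv_eq_iff_eq_mul.1 ya) hy.nF i
    have st : s ^ i * t = t * s ^ i := ((Commute.pow_left (show Commute s t from h.st) i)).eq
    have wt : (s ^ i * y * (s ^ i)⁻¹) * t * (s ^ i * y * (s ^ i)⁻¹)⁻¹ = φ⁻¹ * u * t := by
      rw [← e]
      have e1 : (s ^ i)⁻¹ * t * s ^ i = t := by rw [mul_assoc, ← st]; group
      have e2 : s ^ i * y * (s ^ i)⁻¹ * t * (s ^ i * y * (s ^ i)⁻¹)⁻¹ = s ^ i * y * ((s ^ i)⁻¹ * t * s ^ i) * y⁻¹ * (s ^ i)⁻¹ := by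
        group
      have e3 : s ^ i * (y * t * y⁻¹ * t) * (s ^ i)⁻¹ * t = s ^ i * (y * t * y⁻¹) * (t * ((s ^ i)⁻¹ * t * s ^ i)) * (s ^ i)⁻¹ := by
        group
      rw [e2, e3, e1, h.tt]; group
    generalize s ^ i * y * (s ^ i)⁻¹ = w at wE wz wa wn wt
    obtain ⟨ψ, hψ, eψ⟩ := h.exists_sq hu
    refine ⟨ψ * w, E.mul_mem (FE hψ) wE, ?_, ?_, fun χ hχ => ?_, ?_⟩
    · rw [mul_assoc, wz, ← mul_assoc, h.comm hψ zF, mul_assoc]
    · rw [mul_assoc, wa, ← mul_assoc, h.comm hψ aF, mul_assoc]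
    · have e1 : ψ * w * χ * (ψ * w)⁻¹ = ψ * (w * χ * w⁻¹) * ψ⁻¹ := by group
      rw [e1]
      exact mul_mem (mul_mem hψ (wn χ hχ)) (inv_mem hψ)
    · have e1 : ψ * w * t * (ψ * w)⁻¹ = ψ * (w * t * w⁻¹) * ψ⁻¹ := by group
      have c := h.comm hψ (mul_mem (inv_mem hφ) (h.U_le hu))
      have e2 : ψ * (φ⁻¹ * u * t) * ψ⁻¹ = ψ * (φ⁻¹ * u) * ψ⁻¹ * (ψ * t * ψ⁻¹) := by group
      have e3 : u * t * u = t := by
        have i1 := h.inv_t (h.U_le hu)
        calc u * t * u = u * t * u * (t * t) := by rw [h.tt, mul_one]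
          _ = u * (t * u * t) * t := by group
          _ = t := by rw [i1]; group
      have e4 : t * φ = φ⁻¹ * t := by rw [← h.inv_t hφ, mul_assoc, h.tt, mul_one]
      rw [e1, wt, e2, c, h.conj_t hψ, eψ, e4]
      have : φ⁻¹ * u * ψ * ψ⁻¹ * (t * u) = φ⁻¹ * (u * t * u) := by group
      rw [this, e3]

theorem Pm.up [Finite G] (h : Pm B Y t z a s f g) {P : Subgroup G} (hP : IsPGroup 2 P) (tP : t ∈ P) (fP : f ∈ P) (gP : g ∈ P)
    (big : 32 < Nat.card P) :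
    ∃ x ∈ P, (∀ φ ∈ Fs f g, x * φ * x⁻¹ ∈ Fs f g) ∧ x * t * x⁻¹ * t ∈ Fs f g ∧ x * t * x⁻¹ * t ∉ Fs z a := by
  have k := h.toFG
  have : Fact (Nat.Prime 2) := ⟨Nat.prime_two⟩
  have FP : Fs f g ≤ P := by
    rw [Fs, closure_le]
    rintro y (rfl | rfl)
    · exact fP
    · exact gP
  have DP : Fs f g ⊔ zpowers t ≤ P := sup_le FP (by rwa [zpowers_le])
  have lt : Fs f g ⊔ zpowers t < P := lt_of_le_of_ne DP (fun e => by rw [← e, k.card_D] at big; omega)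
  obtain ⟨x, xP, xD, xn⟩ := Tech.exists_mem_normalizer_of_lt hP lt
  have tD : t ∈ Fs f g ⊔ zpowers t := mem_sup_right (mem_zpowers t)
  have nF : ∀ y ∈ normalizer ((Fs f g ⊔ zpowers t : Subgroup G) : Set G), ∀ φ ∈ Fs f g, y * φ * y⁻¹ ∈ Fs f g := by
    intro y hy
    have four : ∀ φ ∈ Fs f g, φ * φ ≠ 1 → y * φ * y⁻¹ ∈ Fs f g := by
      intro φ hφ h4
      rcases k.mem_D.1 (Tech.conj_mem_of_mem_normalizer hy (mem_sup_left hφ)) with m | m
      · exact m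
      · exfalso
        apply h4
        have i1 := k.inv_t m
        have e1 : t * (y * φ * y⁻¹ * t) * t = t * (y * φ * y⁻¹) * (t * t) := by group
        rw [e1, k.tt, mul_one] at i1
        have e2 : φ * φ = y⁻¹ * t⁻¹ * ((t * (y * φ * y⁻¹)) * (y * φ * y⁻¹ * t)) * t⁻¹ * y := by group
        rw [e2, i1, inv_mul_cancel]
        have : t⁻¹ = t := inv_eq_of_mul_eq_one_right k.tt
        rw [this]
        have e3 : y⁻¹ * t * 1 * t * y = y⁻¹ * (t * t) * y := by group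
        rw [e3, k.tt]; group
    intro φ hφ
    have le : Fs f g ≤ (Fs f g).comap (MulAut.conj y).toMonoidHom := by
      rw [Fs, closure_le]
      rintro w (rfl | rfl)
      · exact four _ k.orb_fF (by rw [k.ff]; exact k.z1)
      · exact four _ k.orb_gF (by rw [k.gg]; exact k.a1)
    exact le hφ
  have xt : x * t * x⁻¹ * t ∈ Fs f g := by
    rcases k.mem_D.1 (Tech.conj_mem_of_mem_normalizer xn tD) with m | m
    · exfalso
      apply k.t_not
      have := nF _ (inv_mem xn) _ m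
      have e : x⁻¹ * (x * t * x⁻¹) * x⁻¹⁻¹ = t := by group
      rwa [e] at this
    · exact m
  refine ⟨x, xP, nF x xn, xt, fun hu => xD ?_⟩
  obtain ⟨φ, hφ, e⟩ := k.exists_sq hu
  have c : φ⁻¹ * x * t = t * (φ⁻¹ * x) := by
    have e1 := k.conj_t hφ
    have e2 : t * (φ * φ) = φ * φ * t := by
      have i1 := k.inv_t (mul_mem hφ hφ)
      have i2 : (φ * φ)⁻¹ = φ * φ := inv_eq_of_mul_eq_one_right (k.sq_U (k.sq_mem hφ))
      rw [i2] at i1
      calc t * (φ * φ) = t * (φ * φ) * (t * t) := by rw [k.tt, mul_one]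
        _ = (t * (φ * φ) * t) * t := by group
        _ = φ * φ * t := by rw [i1]
    rw [e2, e, mul_assoc (x * t * x⁻¹), k.tt, mul_one] at e1
    calc φ⁻¹ * x * t = φ⁻¹ * (x * t * x⁻¹) * x := by group
      _ = φ⁻¹ * (φ * t * φ⁻¹) * x := by rw [e1]
      _ = t * (φ⁻¹ * x) := by group
  have wP : φ⁻¹ * x ∈ P := mul_mem (inv_mem (FP hφ)) xP
  have PB : P ⊓ B ≤ Fs z a :=
    h.a5.syl _ inf_le_right (hP.to_le inf_le_left) ⟨FP (k.U_le k.orb_zU), h.zB⟩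
  have wD : φ⁻¹ * x ∈ Fs f g ⊔ zpowers t := by
    rcases h.two_cent c (Tech.isPGroup_iff_mem.1 hP _ wP) with m | m
    · exact k.mem_D.2 (Or.inl (k.U_le (PB ⟨wP, m⟩)))
    · exact k.mem_D.2 (Or.inr (k.U_le (PB ⟨mul_mem wP tP, m⟩)))
  have := mul_mem (mem_sup_left hφ : φ ∈ Fs f g ⊔ zpowers t) wD
  rwa [mul_inv_cancel_left] at this

end CfsgLib.SJ.Pu
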