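import Mathlib
import Cfsg.Agent.Lib.SJ.POrb

/-! Package PLOC: the Sylow 2-subgroup of `E` (plans/SJS.md). -/

set_option autoImplicit false
set_option linter.unusedVariables false
set_option linter.unusedSectionVars false

namespace CfsgLib.SJ.Pu

open Subgroup Cfsg
open scoped MatrixGroups

variable {G : Type*} [Group G] {B Y S E : Subgroup G} {t z a s f g : G}

theorem ploc_orb (H : Subgroup G) (t : G) :
    (centralizer {t}).relIndex H = {y | ∃ x ∈ H, x * t * x⁻¹ = y}.ncard := by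
  let _ : MulAction H G := MulAction.compHom G (MulAut.conj.comp H.subtype)
  have h1 : MulAction.stabilizer H t = (centralizer {t}).subgroupOf H := Subgroup.ext fun x => by
    rw [MulAction.mem_stabilizer_iff, mem_subgroupOf, mem_centralizer_singleton_iff, ← mul_inv_eq_iff_eq_mul]
    rfl
  rw [relIndex, ← h1, MulAction.index_stabilizer]
  congr 1
  ext y
  exact ⟨fun ⟨x, e⟩ => ⟨x, x.2, e⟩, fun ⟨x, hx, e⟩ => ⟨⟨x, hx⟩, e⟩⟩

open Tech in
theorem Pm.loc [Finite G] (h : Pm B Y t z a s f g) [E.Normal] (BE : B ≤ E) (tE : t ∉ E) (h32 : 32 ∣ Nat.card E) :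
    ∃ S ≤ E, Loc S t z a f g := by
  have hF := h.toFG
  have := Fact.mk Nat.prime_two
  obtain ⟨fE, gE⟩ := h.F_le BE
  have ti : t⁻¹ = t := inv_eq_of_mul_eq_one_right h.tt
  have fF : f ∈ Fs f g := subset_closure (by simp)
  have gF : g ∈ Fs f g := subset_closure (by simp)
  have zF : z ∈ Fs f g := hF.U_le (hF.mem_U.2 (by simp))
  have aF : a ∈ Fs f g := hF.U_le (hF.mem_U.2 (by simp))
  have FE : Fs f g ≤ E := (closure_le _).2 (by rintro _ (rfl | rfl); exacts [fE, gE])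
  have tD : t ∈ Fs f g ⊔ zpowers t := mem_sup_right (mem_zpowers t)
  have D2 : IsPGroup 2 (Fs f g ⊔ zpowers t : Subgroup G) := IsPGroup.of_card (n := 5) hF.card_D
  have tF : ∀ φ ∈ Fs f g, t * φ * t⁻¹ ∈ Fs f g := fun φ hφ => by rw [ti, hF.inv_t hφ]; exact inv_mem hφ
  have nE : ∀ H : Subgroup G, H ≤ normalizer (E : Set G) := fun H => by
    rw [normalizer_eq_top]; exact le_top
  have orb : ∀ φ ∈ Fs f g, ∃ y ∈ E, y * z = z * y ∧ y * a = a * y ∧ (∀ ψ ∈ Fs f g, y * ψ * y⁻¹ ∈ Fs f g) ∧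
      y * t * y⁻¹ = t * φ := by
    obtain ⟨P, hP, le⟩ := exists_isSylowIn_ge D2 (sup_le_sup_right FE _)
    have h1 := hP.inf_of_le_normalizer (nE _)
    rw [inf_eq_right.2 (le_sup_left : E ≤ E ⊔ zpowers t)] at h1
    have h2 : 2 ^ 5 ∣ Nat.card (P ⊓ E : Subgroup G) :=
      (Nat.Coprime.pow_left 5 ((Nat.Prime.coprime_iff_not_dvd Nat.prime_two).2 h1.not_dvd)).dvd_of_dvd_mul_right
        (by rw [card_mul_relIndex' h1.le]; exact h32)
    have h3 : Nat.card (P ⊓ E : Subgroup G) < Nat.card P := by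
      by_contra hn
      exact tE ((eq_of_le_of_card_ge inf_le_left (not_lt.1 hn)).ge (le tD)).2
    obtain ⟨x, xP, x1, x2, x3⟩ := h.up hP.pgroup (le tD) (le (mem_sup_left fF)) (le (mem_sup_left gF))
      ((Nat.le_of_dvd Nat.card_pos h2).trans_lt h3)
    obtain ⟨e, he, _, ⟨k, rfl⟩, rfl⟩ := mem_sup_of_normal_left.1 (hP.le xP)
    have k1 : Commute (t ^ k) t := (Commute.refl t).zpow_left k
    have k2 : e * t ^ k * t * (e * t ^ k)⁻¹ = e * t * e⁻¹ := by rw [mul_assoc e, k1.eq]; group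
    simp only [k2] at x2 x3
    refine hF.orb (BE h.sB) fE gE he (fun φ hφ => ?_) x2 x3
    have := x1 _ (conj_mem_of_mem_normalizer' (zpow_mem (mem_normalizer_of_forall tF) k) hφ)
    rwa [show e * t ^ k * ((t ^ k)⁻¹ * φ * t ^ k) * (e * t ^ k)⁻¹ = e * φ * e⁻¹ by group] at this
  let M : Subgroup G := centralizer {z} ⊓ centralizer {a} ⊓
    (normalizer (Fs f g : Set G) ⊓ normalizer ((Fs f g ⊔ zpowers t : Subgroup G) : Set G))
  have DM : Fs f g ⊔ zpowers t ≤ M := le_inf (sup_le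
    (fun φ hφ => ⟨mem_centralizer_singleton_iff.2 (hF.comm hφ zF), mem_centralizer_singleton_iff.2 (hF.comm hφ aF)⟩)
    (zpowers_le.2 ⟨mem_centralizer_singleton_iff.2 hF.tz, mem_centralizer_singleton_iff.2 hF.ta⟩))
    (le_inf (sup_le le_normalizer (zpowers_le.2 (mem_normalizer_of_forall tF))) le_normalizer)
  have tau : ∀ x ∈ M, x * t * x⁻¹ * t ∈ Fs f g := fun x hx =>
    (hF.mem_D.1 (conj_mem_of_mem_normalizer hx.2.2 tD)).resolve_left fun k =>
      hF.t_not ((mem_normalizer_iff.1 hx.2.1 t).2 k)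
  let X : Set G := (t * ·) '' (Fs f g : Set G)
  have cX : X.ncard = 16 := by
    rw [Set.ncard_image_of_injective _ (mul_right_injective t), ← hF.card_F]; rfl
  have sub : ∀ H ≤ M, {y | ∃ x ∈ H, x * t * x⁻¹ = y} ⊆ X := by
    rintro H hH _ ⟨x, hx, rfl⟩
    refine ⟨_, tF _ (tau x (hH hx)), ?_⟩
    change t * (t * (x * t * x⁻¹ * t) * t⁻¹) = _
    rw [mul_assoc t, mul_inv_cancel_right, ← mul_assoc, h.tt, one_mul]
  have i1 : (centralizer {t}).relIndex (M ⊓ E) = 16 := by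
    rw [ploc_orb, ← cX, (sub _ inf_le_left).antisymm]
    rintro _ ⟨φ, hφ, rfl⟩
    obtain ⟨y, y0, y1, y2, y3, y4⟩ := orb φ hφ
    refine ⟨y, ⟨⟨⟨mem_centralizer_singleton_iff.2 y1, mem_centralizer_singleton_iff.2 y2⟩,
      mem_normalizer_of_forall y3, mem_normalizer_of_forall fun x hx => ?_⟩, y0⟩, y4⟩
    rcases hF.mem_D.1 hx with k | k
    · exact mem_sup_left (y3 x k)
    · have := mul_mem (mem_sup_left (y3 _ k)) (inv_mem (mul_mem tD (mem_sup_left hφ)))
      rwa [← y4, show y * (x * t) * y⁻¹ * (y * t * y⁻¹)⁻¹ = y * x * y⁻¹ by group] at this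
  obtain ⟨P, hP, le⟩ := exists_isSylowIn_ge D2 DM
  have h1 := hP.inf_of_le_normalizer (nE _)
  have SM : P ⊓ E ≤ M := inf_le_left.trans hP.le
  have i2 : 2 ^ 4 ∣ (centralizer {t}).relIndex (P ⊓ E) := by
    refine (Nat.Coprime.pow_left 4
      ((Nat.Prime.coprime_iff_not_dvd Nat.prime_two).2 h1.not_dvd)).dvd_of_dvd_mul_right ?_
    rw [← inf_relIndex_right, relIndex_mul_relIndex _ _ _ inf_le_right h1.le]
    exact (dvd_of_eq i1.symm).trans (relIndex_dvd_of_le_left _ inf_le_left)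
  have i3 : {y | ∃ x ∈ P ⊓ E, x * t * x⁻¹ = y} = X := Set.eq_of_subset_of_ncard_le (sub _ SM) (by
    rw [cX, ← ploc_orb]
    exact Nat.le_of_dvd (Nat.pos_of_ne_zero index_ne_zero_of_finite) i2)
  have fix : ∀ x ∈ P ⊓ E, x * t = t * x → x ∈ Fs z a := fun x hx k => by
    rcases h.two_cent k (isPGroup_iff_mem.1 hP.pgroup x hx.1) with e | e
    · exact h.a5.cU x e (mem_centralizer_singleton_iff.1 (SM hx).1.1)
    · exact absurd ((E.mul_mem_cancel_left hx.2).1 (BE e)) tE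
  have FS : Fs f g ≤ P ⊓ E := le_inf (le_sup_left.trans le) FE
  have i4 : centralizer {t} ⊓ (P ⊓ E) = Fs z a := le_antisymm
    (fun x hx => fix x hx.2 (mem_centralizer_singleton_iff.1 hx.1))
    (le_inf ((closure_le _).2 (by
      rintro _ (rfl | rfl)
      exacts [mem_centralizer_singleton_iff.2 hF.tz.symm, mem_centralizer_singleton_iff.2 hF.ta.symm]))
      (hF.U_le.trans FS))
  refine ⟨P ⊓ E, inf_le_right, ?_, FS fF, FS gF, fun x hx => ⟨mul_mem (mul_mem (le tD) hx.1) (le tD), ?_⟩,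
    fun x hx => mem_centralizer_singleton_iff.1 (SM hx).1.1,
    fun x hx => mem_centralizer_singleton_iff.1 (SM hx).1.2,
    fun x hx φ hφ => conj_mem_of_mem_normalizer (SM hx).2.1 hφ, fun x hx => tau x (SM hx),
    fun φ hφ => i3.ge ⟨φ, hφ, rfl⟩, fix⟩
  · rw [← card_mul_relIndex' (inf_le_right : centralizer {t} ⊓ (P ⊓ E) ≤ P ⊓ E), inf_relIndex_right, ploc_orb, i3,
      cX, i4, hF.card_U]
  · nth_rewrite 2 [← ti]
    exact Normal.conj_mem inferInstance x hx.2 t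

end CfsgLib.SJ.Pu
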