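import Mathlib
import Cfsg.Agent.Lib.SJ.POrb

/-! The group of all elements centralising `U`, normalising `F` and permuting `t F` (plans/SJS.md, PLOC and PNOT). -/

set_option autoImplicit false
set_option linter.unusedVariables false
set_option linter.unusedSectionVars false

namespace CfsgLib.SJ.Pu

open Subgroup Cfsg CfsgLib.Tech

variable {G : Type*} [Group G] {B Y S E : Subgroup G} {t z a s f g : G}

theorem pn_relIndex (N : Subgroup G) (t : G) :
    (centralizer ({t} : Set G)).relIndex N = Set.ncard {x | ∃ y ∈ N, y * t * y⁻¹ = x} := by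
  let _ : MulAction N G := MulAction.compHom G ((MulAut.conj : G →* MulAut G).comp N.subtype)
  have e : ∀ (y : N) (x : G), y • x = y * x * (y : G)⁻¹ := fun _ _ => rfl
  have h1 : MulAction.stabilizer N t = (centralizer ({t} : Set G)).subgroupOf N := by
    ext y
    rw [MulAction.mem_stabilizer_iff, e, mem_subgroupOf, mem_centralizer_singleton_iff, mul_inv_eq_iff_eq_mul]
  have h2 : MulAction.orbit N t = {x | ∃ y ∈ N, y * t * y⁻¹ = x} := by
    ext x
    exact ⟨fun ⟨y, hy⟩ => ⟨y, y.2, hy⟩, fun ⟨y, hy, h⟩ => ⟨⟨y, hy⟩, h⟩⟩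
  rw [relIndex, ← h1, MulAction.index_stabilizer, h2]

theorem pn_card (N : Subgroup G) (t : G) :
    Nat.card N = Nat.card (centralizer ({t} : Set G) ⊓ N : Subgroup G) * Set.ncard {x | ∃ y ∈ N, y * t * y⁻¹ = x} := by
  rw [← pn_relIndex, ← inf_relIndex_right, card_mul_relIndex' inf_le_right]

namespace FG

theorem pn_tinv (h : FG t z a s f g) : t⁻¹ = t := inv_eq_of_mul_eq_one_right h.tt

/-- the elements which centralise `U`, normalise `F` and permute `t F` -/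
def N0 (h : FG t z a s f g) : Subgroup G where
  carrier := {y | y * z = z * y ∧ y * a = a * y ∧ y ∈ normalizer (Fs f g : Set G) ∧ y * t * y⁻¹ * t ∈ Fs f g}
  one_mem' := ⟨by simp, by simp, one_mem _, by simp [h.tt]⟩
  mul_mem' := by
    rintro x y ⟨x1, x2, x3, x4⟩ ⟨y1, y2, y3, y4⟩
    refine ⟨by rw [mul_assoc, y1, ← mul_assoc, x1, mul_assoc], by rw [mul_assoc, y2, ← mul_assoc, x2, mul_assoc],
      mul_mem x3 y3, ?_⟩
    have e : x * y * t * (x * y)⁻¹ * t = x * (y * t * y⁻¹ * t) * x⁻¹ * (x * t * x⁻¹ * t) := by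
      calc _ = x * (y * t * y⁻¹) * (t * t) * x⁻¹ * t := by rw [h.tt]; group
        _ = _ := by group
    rw [e]
    exact mul_mem (conj_mem_of_mem_normalizer x3 y4) x4
  inv_mem' := by
    rintro x ⟨x1, x2, x3, x4⟩
    refine ⟨(Commute.inv_left x1).eq, (Commute.inv_left x2).eq, inv_mem x3, ?_⟩
    have e : x⁻¹ * t * x⁻¹⁻¹ * t = x⁻¹ * (x * t * x⁻¹ * t)⁻¹ * x := by
      simp only [mul_inv_rev, inv_inv, h.pn_tinv]
      group
    rw [e]
    exact conj_mem_of_mem_normalizer' x3 (inv_mem x4)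

variable (h : FG t z a s f g)
include h

theorem mem_N0 {y : G} : y ∈ h.N0 ↔
    y * z = z * y ∧ y * a = a * y ∧ y ∈ normalizer (Fs f g : Set G) ∧ y * t * y⁻¹ * t ∈ Fs f g := Iff.rfl

theorem pn_zU : z ∈ Fs z a := subset_closure (by simp)
theorem pn_aU : a ∈ Fs z a := subset_closure (by simp)
theorem pn_fF : f ∈ Fs f g := subset_closure (by simp)
theorem pn_gF : g ∈ Fs f g := subset_closure (by simp)

theorem pn_tnorm [Finite G] : t ∈ normalizer (Fs f g : Set G) :=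
  mem_normalizer_of_forall fun x hx => by rw [h.pn_tinv, h.inv_t hx]; exact inv_mem hx

theorem t_mem_N0 [Finite G] : t ∈ h.N0 :=
  ⟨h.tz, h.ta, h.pn_tnorm, by rw [mul_inv_cancel_right, h.tt]; exact one_mem _⟩

theorem F_le_N0 : Fs f g ≤ h.N0 := fun x hx =>
  ⟨h.comm hx (h.U_le h.pn_zU), h.comm hx (h.U_le h.pn_aU), le_normalizer hx, by
    rw [h.conj_t hx, h.inv_t (mul_mem hx hx)]; exact inv_mem (mul_mem hx hx)⟩

theorem D_le_N0 [Finite G] : Fs f g ⊔ zpowers t ≤ h.N0 :=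
  sup_le h.F_le_N0 (zpowers_le_of_mem h.t_mem_N0)

theorem U_le_cent : Fs z a ≤ centralizer ({t} : Set G) :=
  (closure_le _).2 (by
    rintro x (rfl | rfl)
    · exact mem_centralizer_singleton_iff.2 h.tz.symm
    · exact mem_centralizer_singleton_iff.2 h.ta.symm)

theorem pn_D : IsPGroup 2 (Fs f g ⊔ zpowers t : Subgroup G) := IsPGroup.of_card (n := 5) h.card_D

theorem ncard_tF : Set.ncard {x | ∃ φ ∈ Fs f g, t * φ = x} = 16 := by
  rw [← h.card_F]
  exact Set.ncard_image_of_injective (Fs f g : Set G) (mul_right_injective t)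

theorem orb_sub {N : Subgroup G} (hN : N ≤ h.N0) :
    {x | ∃ y ∈ N, y * t * y⁻¹ = x} ⊆ {x | ∃ φ ∈ Fs f g, t * φ = x} := by
  rintro _ ⟨y, hy, rfl⟩
  have h4 := (hN hy).2.2.2
  refine ⟨(y * t * y⁻¹ * t)⁻¹, inv_mem h4, ?_⟩
  rw [← h.inv_t h4]
  calc _ = (t * t) * (y * t * y⁻¹) * (t * t) := by group
    _ = _ := by rw [h.tt, one_mul, mul_one]

theorem card_N {N : Subgroup G} (hN : N ≤ h.N0) (tr : ∀ φ ∈ Fs f g, ∃ y ∈ N, y * t * y⁻¹ = t * φ) :
    Nat.card N = Nat.card (centralizer ({t} : Set G) ⊓ N : Subgroup G) * 16 := by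
  rw [pn_card N t, ← h.ncard_tF, (h.orb_sub hN).antisymm]
  rintro _ ⟨φ, hφ, rfl⟩
  exact tr φ hφ

end FG

theorem Pm.U_le_B (h : Pm B Y t z a s f g) : Fs z a ≤ B :=
  (closure_le _).2 (by
    rintro x (rfl | rfl)
    · exact h.zB
    · exact h.aB)

theorem Pm.F_le' [Finite G] (h : Pm B Y t z a s f g) [E.Normal] (BE : B ≤ E) : Fs f g ≤ E :=
  (closure_le _).2 (by
    rintro x (rfl | rfl)
    · exact (h.F_le BE).1
    · exact (h.F_le BE).2)

theorem Pm.pn_trans [Finite G] (h : Pm B Y t z a s f g) [E.Normal] (BE : B ≤ E) {P : Subgroup G}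
    (hP : IsPGroup 2 P) (DP : Fs f g ⊔ zpowers t ≤ P) (PE : P ≤ E ⊔ zpowers t) (big : 32 < Nat.card P) :
    ∀ φ ∈ Fs f g, ∃ y ∈ h.toFG.N0 ⊓ E, y * t * y⁻¹ = t * φ := by
  obtain ⟨x, xP, xn, xt, xU⟩ := h.up hP (DP (mem_sup_right (mem_zpowers t))) (DP (mem_sup_left h.toFG.pn_fF))
    (DP (mem_sup_left h.toFG.pn_gF)) big
  obtain ⟨e, he, k, hk, rfl⟩ := mem_sup_of_normal_left.1 (PE xP)
  have kn : k ∈ normalizer (Fs f g : Set G) := zpowers_le_of_mem h.toFG.pn_tnorm hk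
  have kt : k * t * k⁻¹ = t := by
    obtain ⟨n, rfl⟩ := hk
    exact mul_inv_eq_iff_eq_mul.2 (Commute.zpow_self t n).eq
  have e1 : e * k * t * (e * k)⁻¹ = e * t * e⁻¹ := by
    calc _ = e * (k * t * k⁻¹) * e⁻¹ := by group
      _ = _ := by rw [kt]
  rw [e1] at xt xU
  have en : e ∈ normalizer (Fs f g : Set G) :=
    (Subgroup.mul_mem_cancel_right _ kn).1 (mem_normalizer_of_forall xn)
  intro φ hφ
  obtain ⟨y, yE, y1, y2, y3, y4⟩ := h.toFG.orb (BE h.sB) (h.F_le BE).1 (h.F_le BE).2 he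
    (fun φ hφ => conj_mem_of_mem_normalizer en hφ) xt xU φ hφ
  refine ⟨y, ⟨⟨y1, y2, mem_normalizer_of_forall y3, ?_⟩, yE⟩, y4⟩
  rw [y4, h.toFG.inv_t hφ]
  exact inv_mem hφ

end CfsgLib.SJ.Pu
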