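import Mathlib
import Cfsg.Agent.Lib.SJ.PN0
import Cfsg.Agent.Lib.Transfer.Thompson

/-! Package PNOT: `t` is not in `E` (plans/SJS.md). -/

set_option autoImplicit false
set_option linter.unusedVariables false
set_option linter.unusedSectionVars false

namespace CfsgLib.SJ.Pu

open Subgroup Cfsg CfsgLib.Tech
open scoped MatrixGroups

variable {G : Type*} [Group G] {B Y S E : Subgroup G} {t z a s f g : G}

theorem Pm.t_not_mem [Finite G] (h : Pm B Y t z a s f g) [E.Normal] (hs : IsSimpleGroup E) (nab : ¬IsMulCommutative E)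
    (BE : B ≤ E) (h128 : ¬128 ∣ Nat.card E) : t ∉ E := by
  intro tE
  have : Fact (Nat.Prime 2) := ⟨Nat.prime_two⟩
  have F := h.toFG
  have FE := h.F_le' BE
  have DE : Fs f g ⊔ zpowers t ≤ E := sup_le FE (zpowers_le_of_mem tE)
  have tD : t ∈ Fs f g ⊔ zpowers t := mem_sup_right (mem_zpowers t)
  obtain ⟨P, hP, DP⟩ := exists_isSylowIn_ge F.pn_D DE
  by_cases big : 32 < Nat.card P
  · have tr := h.pn_trans BE hP.pgroup DP (hP.le.trans le_sup_left) big
    have c1 := h.toFG.card_N inf_le_left tr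
    obtain ⟨k, hk⟩ := IsPGroup.iff_card.1
      (F.pn_D.to_le (inf_le_right : centralizer ({t} : Set G) ⊓ (Fs f g ⊔ zpowers t) ≤ _))
    have h3 : Nat.card (Fs z a) < Nat.card (centralizer ({t} : Set G) ⊓ (Fs f g ⊔ zpowers t) : Subgroup G) :=
      Set.Finite.card_lt_card (Set.toFinite _)
        (SetLike.coe_ssubset_coe.2 (lt_of_le_of_ne (le_inf F.U_le_cent (F.U_le.trans le_sup_left)) fun e =>
          F.t_not (F.U_le (e.ge ⟨mem_centralizer_singleton_iff.2 rfl, tD⟩))))
    rw [F.card_U, hk] at h3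
    have h8 : 2 ^ 3 ∣ Nat.card (centralizer ({t} : Set G) ⊓ (h.toFG.N0 ⊓ E) : Subgroup G) := by
      refine (pow_dvd_pow 2 (show 3 ≤ k from (Nat.pow_lt_pow_iff_right (a := 2) (n := 2) one_lt_two).1 h3)).trans ?_
      rw [← hk]
      exact card_dvd_of_le (inf_le_inf_left _ (le_inf h.toFG.D_le_N0 DE))
    refine h128 (dvd_trans ?_ (card_dvd_of_le (inf_le_right : h.toFG.N0 ⊓ E ≤ E)))
    rw [c1]
    exact mul_dvd_mul_right h8 16
  · obtain rfl : Fs f g ⊔ zpowers t = P := eq_of_le_of_card_ge DP (by rw [F.card_D]; omega)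
    have hG : ∀ M : Subgroup E, M.index ≠ 2 := fun M hM => by
      rcases hs.eq_bot_or_eq_top_of_normal M (normal_of_index_eq_two hM) with rfl | rfl
      · rw [index_bot] at hM
        have := card_dvd_of_le BE
        rw [hM, h.a5.card] at this
        exact absurd this (by decide)
      · rw [index_top] at hM
        exact absurd hM (by decide)
    have hH : ¬ 2 ∣ ((Fs f g ⊔ zpowers t).subgroupOf E).index := by
      rw [← hP.coe_toSylow]
      exact hP.toSylow.not_dvd_index
    have hQ : ((Fs f g).subgroupOf E).relIndex ((Fs f g ⊔ zpowers t).subgroupOf E) = 2 := by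
      rw [relIndex_subgroupOf DE]
      have := card_mul_relIndex' (le_sup_left : Fs f g ≤ Fs f g ⊔ zpowers t)
      rw [F.card_F, F.card_D] at this
      omega
    have t1 : t ≠ 1 := fun e => F.t_not (e ▸ one_mem _)
    have o2 : orderOf (⟨t, tE⟩ : E) = 2 :=
      orderOf_eq_prime (Subtype.ext (by rw [sq]; exact F.tt)) fun e => t1 (congrArg Subtype.val e)
    obtain ⟨x, hx⟩ := Transfer.exists_conj_mem_of_no_index_two hG hH hQ o2
    have hx' : (x : G) * t * (x : G)⁻¹ ∈ Fs f g := hx
    exact h.nc x (h.U_le_B (F.mem_U_of_sq hx' (by rw [conj_mul, F.tt, mul_one, mul_inv_cancel])))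

end CfsgLib.SJ.Pu
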