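import Mathlib
import Cfsg.Agent.Lib.SJ.MAut
import Cfsg.Agent.Lib.SJ.MOrb
import Cfsg.Agent.Lib.SJ.MR1
import Cfsg.Agent.Lib.SJ.MR2
import Cfsg.Agent.Lib.SJ.MR3

/-! # SJ part R: consequences of the model facts -/

set_option autoImplicit false

namespace CfsgLib.SJ.Rd

open Subgroup Cfsg
open scoped commutatorElement

theorem conj_inj {l m : J} (h : ∀ x, l * x * l⁻¹ = m * x * m⁻¹) : l = m := by
  have := J_cen (m⁻¹ * l) fun x => by
    calc m⁻¹ * l * x = m⁻¹ * (l * x * l⁻¹) * l := by group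
      _ = x * (m⁻¹ * l) := by rw [h]; group
  rwa [inv_mul_eq_one, eq_comm] at this

theorem sq_inn (φ : MulAut J) : ∃ l, ∀ x, φ (φ x) = l * x * l⁻¹ := by
  by_cases h : ∃ l : J, ∀ x, φ x = l * x * l⁻¹
  · obtain ⟨l, h⟩ := h
    exact ⟨l * l, fun x => by rw [h, h]; group⟩
  · exact out2 φ φ h h

theorem mem_C0 {c : J} : c ∈ C0 ↔ c * z = z * c := mem_centralizer_singleton_iff

theorem a_C0 : a ∈ C0 := mem_C0.2 za.symm
theorem b_C0 : b ∈ C0 := mem_C0.2 zb.symm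
theorem z_C0 : z ∈ C0 := mem_C0.2 rfl

theorem B_v {c : J} (h : c ∈ B) : v * c = c * v := h v (by simp)
theorem B_w {c : J} (h : c ∈ B) : w * c = c * w := h w (by simp)

theorem V4 {e : J} (h : e = 1 ∨ e = v ∨ e = w ∨ e = v * w) : e * e = 1 ∧ ∀ c ∈ B, e * c = c * e := by
  rcases h with rfl | rfl | rfl | rfl
  · simp
  · exact ⟨vv, fun c => B_v⟩
  · exact ⟨ww, fun c => B_w⟩
  · refine ⟨?_, fun c hc => by rw [mul_assoc, B_w hc, ← mul_assoc, B_v hc, mul_assoc]⟩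
    nth_rw 1 [vw]
    rw [mul_assoc, ← mul_assoc v, vv, one_mul, ww]

theorem Cv' {c : J} (h : c * v = v * c) : ∃ d ∈ B, c * c = d * d := by
  obtain ⟨e, h1, h2⟩ := Cv h
  obtain ⟨h3, h4⟩ := V4 h1
  refine ⟨e * c, h2, ?_⟩
  have h5 := h4 _ h2
  rw [← mul_assoc, h3, one_mul] at h5
  nth_rw 1 [h5]
  rw [mul_assoc]

theorem sqv {c : J} (h : c * v = v * c) : c * c ∈ B := by
  obtain ⟨d, h1, h2⟩ := Cv' h
  exact h2 ▸ mul_mem h1 h1

theorem nf {c : J} (h : c * v = v * c) (h4 : c * c * (c * c) = 1) : c * c = 1 := by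
  obtain ⟨d, h1, h2⟩ := Cv' h
  rw [h2] at h4 ⊢
  exact B_four h1 (by rw [← h4]; simp only [pow_succ, pow_zero, one_mul, mul_assoc])

theorem A2_z : A2 z := ⟨1, by simp⟩
theorem B2_v : B2 v := ⟨1, by simp⟩

theorem A2.cj {u : J} (h : A2 u) (l : J) : A2 (l * u * l⁻¹) := by
  obtain ⟨m, rfl⟩ := h
  exact ⟨l * m, by group⟩

theorem A2.sq {u : J} (h : A2 u) : u * u = 1 := by
  obtain ⟨m, rfl⟩ := h
  rw [conj_mul, zz]; simp

theorem A2.ne {u : J} (h : A2 u) : u ≠ 1 := by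
  obtain ⟨m, rfl⟩ := h
  simpa using z_ne

theorem A2_of_sq {y : J} (h1 : y * y * (y * y) = 1) (h2 : y * y ≠ 1) : A2 (y * y) := by
  rcases cls h1 with h | h | ⟨l, h⟩
  · exact absurd h h2
  · exact h
  · have e : v = l⁻¹ * y * l * (l⁻¹ * y * l) := by
      rw [show l⁻¹ * y * l * (l⁻¹ * y * l) = l⁻¹ * (y * y) * l by group, ← h]; group
    exact absurd (e.trans (nf (by rw [e]; group) (by rw [← e, vv]))) v_ne

theorem line0 {u : J} (h : A2 u) (h1 : u * z = z * u) (h2 : a * u = u * a) : u = z ∨ u = a ∨ u = z * a := by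
  refine or_iff_not_imp_left.2 fun e => ?_
  obtain ⟨c, hc, rfl⟩ := tr2 h e h1
  rcases q10 hc with h | h | h
  · exact Or.inl h
  · exact Or.inr h
  · rw [h2, left_eq_mul] at h
    exact absurd h z_ne

theorem line {x y u : J} (hx : A2 x) (hy : A2 y) (hu : A2 u) (c1 : x * y = y * x) (c2 : x * u = u * x)
    (c3 : y * u = u * y) : x = y ∨ x = u ∨ y = u ∨ x * y = u := by
  obtain ⟨l, rfl⟩ := hx
  obtain ⟨y, rfl⟩ := (MulAut.conj l).surjective y
  obtain ⟨u, rfl⟩ := (MulAut.conj l).surjective u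
  simp only [MulAut.conj_apply, conj_mul, mul_left_inj, mul_right_inj] at *
  have hy' : A2 y := by simpa [mul_assoc] using A2.cj hy l⁻¹
  have hu' : A2 u := by simpa [mul_assoc] using A2.cj hu l⁻¹
  refine or_iff_not_imp_left.2 fun e => ?_
  obtain ⟨c, hc, rfl⟩ := tr2 hy' (Ne.symm e) c1.symm
  obtain ⟨u, rfl⟩ := (MulAut.conj c).surjective u
  have e1 : c * z * c⁻¹ = z := by rw [mem_C0.1 hc, mul_inv_cancel_right]
  have hu'' : A2 u := by simpa [mul_assoc] using A2.cj hu' c⁻¹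
  rw [← e1] at c2 ⊢
  simp only [MulAut.conj_apply, conj_mul, mul_left_inj, mul_right_inj] at *
  rcases line0 hu'' c2.symm c3 with h | h | h <;> simp [h]

theorem five_comm {x f : J} (hx : A2 x) (f5 : f ^ 5 = 1)
    (h : ∀ i : ℕ, x * (f ^ i * x * (f ^ i)⁻¹) = f ^ i * x * (f ^ i)⁻¹ * x) : f * x = x * f := by
  by_contra n
  have n1 : x ≠ f * x * f⁻¹ := fun e => n (mul_inv_eq_iff_eq_mul.1 e.symm)
  have n2 : x ≠ f ^ 2 * x * (f ^ 2)⁻¹ := fun e => n (by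
    have : Commute (f ^ 2) x := mul_inv_eq_iff_eq_mul.1 e.symm
    have := this.pow_left 3
    rwa [← pow_mul, show 2 * 3 = 5 + 1 from rfl, pow_succ, f5, one_mul] at this)
  have n3 : x ≠ f ^ 3 * x * (f ^ 3)⁻¹ := fun e => n (by
    have : Commute (f ^ 3) x := mul_inv_eq_iff_eq_mul.1 e.symm
    have := this.pow_left 2
    rwa [← pow_mul, show 3 * 2 = 5 + 1 from rfl, pow_succ, f5, one_mul] at this)
  have s : ∀ i : ℕ, f ^ (i + 1) * x * (f ^ (i + 1))⁻¹ = f * (f ^ i * x * (f ^ i)⁻¹) * f⁻¹ := fun i => by group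
  have c : ∀ i : ℕ, f * x * f⁻¹ * (f ^ (i + 1) * x * (f ^ (i + 1))⁻¹) = f ^ (i + 1) * x * (f ^ (i + 1))⁻¹ * (f * x * f⁻¹) :=
    fun i => by rw [s, conj_mul, conj_mul, h]
  have h1 := h 1
  rw [pow_one] at h1
  have e2 := ((line hx (A2.cj hx f) (A2.cj hx (f ^ 2)) h1 (h 2) (c 1)).resolve_left n1).resolve_left n2
  have e3 := ((line hx (A2.cj hx f) (A2.cj hx (f ^ 3)) h1 (h 3) (c 2)).resolve_left n1).resolve_left n3
  rcases e2 with e2 | e2
  · rw [s 1, pow_one, mul_left_inj, mul_right_inj] at e2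
    exact n1 e2
  rcases e3 with e3 | e3
  · rw [s 2, mul_left_inj, mul_right_inj] at e3
    exact n2 e3
  rw [e2, s 2, s 1, mul_left_inj, mul_right_inj, pow_one, mul_left_inj, mul_right_inj] at e3
  exact n1 e3

theorem qq {c d : J} (hc : c ∈ C0) (hd : d ∈ C0) : c * a * c⁻¹ * (d * a * d⁻¹) = d * a * d⁻¹ * (c * a * c⁻¹) ∨
    c * a * c⁻¹ * (d * a * d⁻¹) = d * a * d⁻¹ * (c * a * c⁻¹) * z := by
  obtain ⟨d, rfl⟩ : ∃ e, d = c * e := ⟨c⁻¹ * d, by group⟩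
  have e1 : c * z * c⁻¹ = z := by rw [mem_C0.1 hc, mul_inv_cancel_right]
  rw [show c * d * a * (c * d)⁻¹ = c * (d * a * d⁻¹) * c⁻¹ by group, ← e1]
  simp only [conj_mul, mul_left_inj, mul_right_inj]
  rcases q10 ((mul_mem_cancel_left hc).1 hd) with h | h | h
  · rw [h]; exact Or.inl rfl
  · rw [h, ← mul_assoc, ← za]; exact Or.inl rfl
  · exact Or.inr h

theorem minN (N : Subgroup J) (hN : ∀ c ∈ C0, ∀ x ∈ N, c * x * c⁻¹ ∈ N) (hz : z ∉ N) {x : J} (h1 : x ∈ C0)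
    (h2 : x ∈ N) : x = 1 := by
  have key : ∀ y ∈ N, y ≠ 1 → ∃ c ∈ C0, y * (c * a * c⁻¹) ≠ c * a * c⁻¹ * y := fun y hy n => by
    by_contra! h
    exact (cQ h).elim n fun e => hz (e ▸ hy)
  have qC : ∀ c ∈ C0, c * a * c⁻¹ ∈ C0 := fun c hc => mul_mem (mul_mem hc a_C0) (inv_mem hc)
  by_contra n
  obtain ⟨c, hc, h3⟩ := key x h2 n
  have h4 : x * (c * a * c⁻¹) * x⁻¹ * (c * a * c⁻¹)⁻¹ ∈ N := by
    simpa only [mul_assoc] using mul_mem h2 (hN _ (qC c hc) _ (inv_mem h2))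
  obtain ⟨d, hd, h5⟩ := key _ h4 fun e => h3 (by rwa [mul_inv_eq_one, mul_inv_eq_iff_eq_mul] at e)
  have e1 : (c * a * c⁻¹)⁻¹ = c * a * c⁻¹ := inv_eq_of_mul_eq_one_left (by rw [conj_mul, aa]; simp)
  rw [e1, show x * (c * a * c⁻¹) * x⁻¹ = x * c * a * (x * c)⁻¹ by group] at h4 h5
  have k1 := qq (mul_mem h1 hc) hd
  have k2 := qq hc hd
  have k3 := mem_C0.1 (qC c hc)
  have k4 := hN _ (inv_mem (qC d hd)) _ h4
  generalize x * c * a * (x * c)⁻¹ = p at *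
  generalize c * a * c⁻¹ = q at *
  generalize d * a * d⁻¹ = u at *
  have k5 : p * q * u = u * (p * q) * z → False := fun e => hz (by
    have := mul_mem (inv_mem h4) k4
    rw [inv_inv, mul_assoc u⁻¹, e] at this
    convert this using 1
    group)
  rcases k1 with k1 | k1 <;> rcases k2 with k2 | k2
  · exact h5 (by rw [mul_assoc, k2, ← mul_assoc, k1, mul_assoc])
  · exact k5 (by rw [mul_assoc, k2, ← mul_assoc, ← mul_assoc, k1]; simp only [mul_assoc])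
  · exact k5 (by rw [mul_assoc, k2, ← mul_assoc, k1, mul_assoc, ← k3]; simp only [mul_assoc])
  · exact h5 (by
      rw [mul_assoc, k2, ← mul_assoc, ← mul_assoc, k1, mul_assoc _ z, ← k3]
      simp only [mul_assoc, zz, mul_one])

theorem simB (N : Subgroup J) (hN : ∀ c ∈ B, ∀ x ∈ B, x ∈ N → c * x * c⁻¹ ∈ N) {y : J} (hy : y ∈ B) (hy' : y ∉ N)
    {x : J} (h1 : x ∈ B) (h2 : x ∈ N) : x = 1 := by
  have := B_simple
  have h : (N.subgroupOf B).Normal := ⟨fun x hx c => hN c c.2 x x.2 hx⟩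
  rcases h.eq_bot_or_eq_top with e | e
  · exact congrArg Subtype.val (mem_bot.1 (e.le (show (⟨x, h1⟩ : B) ∈ N.subgroupOf B from h2)))
  · exact absurd (subgroupOf_eq_top.1 e hy) hy'

theorem sz_ne : s * z ≠ z * s := fun e => a_ne_z (by rw [← sz, e, mul_inv_cancel_right])

theorem B_perf : ⁅B, B⁆ = B := by
  have := B_simple
  have h : (commutator B) = ⊤ := (inferInstance : (commutator B).Normal).eq_bot_or_eq_top.resolve_left fun e => by
    have h1 : ⁅(⟨s, s_mem_B⟩ : B), ⟨z, z_mem_B⟩⁆ ∈ commutator B := commutator_mem_commutator (mem_top _) (mem_top _)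
    rw [e, mem_bot, commutatorElement_eq_one_iff_mul_comm] at h1
    exact sz_ne (congrArg Subtype.val h1)
  have := congrArg (map B.subtype) h
  rwa [_root_.commutator, map_commutator, ← MonoidHom.range_eq_map, range_subtype] at this

/-- an element of `B` commuting with the involutions of `B` is trivial -/
theorem cenB {x : J} (h1 : x ∈ B) (h2 : ∀ y ∈ B, y * y = 1 → y * x = x * y) : x = 1 := by
  refine simB (centralizer {y | y ∈ B ∧ y * y = 1}) (fun c hc x _ hx y hy => ?_) s_mem_B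
    (fun e => sz_ne (e z ⟨z_mem_B, zz⟩).symm) h1 fun y hy => h2 y hy.1 hy.2
  have := hx (c⁻¹ * y * c) ⟨mul_mem (mul_mem (inv_mem hc) hy.1) hc, by
    rw [show c⁻¹ * y * c * (c⁻¹ * y * c) = c⁻¹ * (y * y) * c by group, hy.2]; simp⟩
  calc y * (c * x * c⁻¹) = c * (c⁻¹ * y * c * x) * c⁻¹ := by group
    _ = _ := by rw [this]; group

theorem U_B {u : J} (h : u ∈ U) : u ∈ B := by
  rcases mem_U.1 h with rfl | rfl | rfl | rfl
  exacts [one_mem _, z_mem_B, a_mem_B, mul_mem z_mem_B a_mem_B]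

theorem cF1 (ψ : MulAut J) (hz : ψ z = z) (ha : ψ a = a) (hv : ψ v = v) : ψ w = w := by
  obtain ⟨e, u, h1, h2, h3⟩ := cF ψ hz ha hv
  rw [h3, mul_inv_eq_iff_eq_mul, mul_assoc, ← B_w (U_B h2), ← mul_assoc, ← mul_assoc, mul_left_inj]
  rcases h1 with rfl | rfl | rfl | rfl
  · simp
  · exact vw
  · rfl
  · rw [← mul_assoc, ← vw]

theorem cF2 (ψ : MulAut J) (hz : ψ z = z) (ha : ψ a = a) (hw : ψ w = w) : ψ v = v := by
  have e1 : r * z * r⁻¹ = z := by rw [rz, mul_inv_cancel_right]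
  have e2 : r * a * r⁻¹ = a := by rw [ra, mul_inv_cancel_right]
  have f : ∀ {x}, ((MulAut.conj r)⁻¹ * ψ * MulAut.conj r) x = x ↔ ψ (r * x * r⁻¹) = r * x * r⁻¹ := fun {x} => by
    rw [MulAut.mul_apply, MulAut.mul_apply, MulAut.inv_def, MulEquiv.symm_apply_eq, MulAut.conj_apply]
  have := f.1 (cF1 _ (f.2 (by rwa [e1])) (f.2 (by rwa [e2])) (f.2 (by rwa [rv])))
  rwa [rw, map_mul, hw, mul_left_inj] at this

theorem cF3 (ψ : MulAut J) (hz : ψ z = z) (ha : ψ a = a) (hw : ψ (v * w) = v * w) : ψ v = v := by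
  have e1 : r * z * r⁻¹ = z := by rw [rz, mul_inv_cancel_right]
  have e2 : r * a * r⁻¹ = a := by rw [ra, mul_inv_cancel_right]
  have f : ∀ {x}, ((MulAut.conj r)⁻¹ * ψ * MulAut.conj r) x = x ↔ ψ (r * x * r⁻¹) = r * x * r⁻¹ := fun {x} => by
    rw [MulAut.mul_apply, MulAut.mul_apply, MulAut.inv_def, MulEquiv.symm_apply_eq, MulAut.conj_apply]
  have := f.1 (cF2 _ (f.2 (by rwa [e1])) (f.2 (by rwa [e2])) (f.2 (by rwa [rw])))
  exact cF2 ψ hz ha (by rwa [rv] at this)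

theorem genA (P : Subgroup J) (h0 : z ∈ P) (h : ∀ l, l * z * l⁻¹ ∈ P → l * a * l⁻¹ ∈ P) : P = ⊤ := by
  let M : Subgroup J :=
    { carrier := {g | ∀ l, l * z * l⁻¹ ∈ P ↔ l * g * z * (l * g)⁻¹ ∈ P}
      one_mem' := fun l => by rw [mul_one]
      mul_mem' := fun {g g'} h1 h2 l => by rw [h1 l, h2 (l * g), mul_assoc l g g']
      inv_mem' := fun {g} h1 l => by rw [h1 (l * g⁻¹), inv_mul_cancel_right] }
  have h1 : ∀ l, l * z * l⁻¹ ∈ P → l * s * z * (l * s)⁻¹ ∈ P := fun l e => by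
    have := h l e
    rw [← sz] at this
    convert this using 1
    group
  have h2 : ⊤ ≤ M := gen0.ge.trans (sup_le (fun c hc l => by
    rw [mul_assoc l c, mem_C0.1 hc, show l * (z * c) * (l * c)⁻¹ = l * z * l⁻¹ by group]) (zpowers_le.2 fun l =>
      ⟨h1 l, fun e => by
        have := h1 _ (h1 _ e)
        rwa [show l * s * s * s = l * s ^ 3 by simp only [pow_succ, pow_zero, one_mul, mul_assoc], s3,
          mul_one] at this⟩))
  refine eq_top_iff.2 (J_gen.ge.trans ((closure_le _).2 ?_))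
  rintro _ ⟨l, rfl⟩
  simpa using (h2 (mem_top l) 1).1 (by simpa using h0)

end CfsgLib.SJ.Rd
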