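import Mathlib
import Cfsg.Agent.Lib.SJ.RA
import Cfsg.Agent.Lib.StdW.PairA

/-! # SJ part R: two conjugates of a standard `J` in general position -/

set_option autoImplicit false

namespace CfsgLib.SJ.Rd

open Subgroup Cfsg CfsgLib.StdInt CfsgLib.StdW
open scoped commutatorElement

variable {G : Type*} [Group G] {ι κ : J →* G} {c d k t u : G} {x y : J} {φ : MulAut J}

/-- the centraliser of the image -/
def Kc (ι : J →* G) : Subgroup G := centralizer (Set.range ι)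

theorem mem_Kc : k ∈ Kc ι ↔ ∀ l, ι l * k = k * ι l :=
  ⟨fun h l => h _ ⟨l, rfl⟩, by rintro h _ ⟨l, rfl⟩; exact h l⟩

/-- `c` induces `φ` -/
def Ac (ι : J →* G) (c : G) (φ : MulAut J) : Prop := ∀ l, c * ι l * c⁻¹ = ι (φ l)
/-- `c` induces conjugation by `x` -/
def In (ι : J →* G) (c : G) (x : J) : Prop := ∀ l, c * ι l * c⁻¹ = ι (x * l * x⁻¹)

theorem In.ac (h : In ι c x) : Ac ι c (MulAut.conj x) := h

theorem In.mul (h : In ι c x) (h' : In ι d y) : In ι (c * d) (x * y) := fun l => by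
  rw [show c * d * ι l * (c * d)⁻¹ = c * (d * ι l * d⁻¹) * c⁻¹ by group, h', h, mul_inv_rev]
  simp only [mul_assoc]

theorem In.inv (h : In ι c x) : In ι c⁻¹ x⁻¹ := fun l => by
  have := h (x⁻¹ * l * x)
  rw [show x * (x⁻¹ * l * x) * x⁻¹ = l by group] at this
  rw [← this, inv_inv, inv_inv]; group

theorem In.self (x : J) : In ι (ι x) x := fun l => by simp

theorem In.ofK (h : k ∈ Kc ι) : In ι k 1 := fun l => by rw [← mem_Kc.1 h]; simp

theorem In.toK (h : In ι k 1) : k ∈ Kc ι := mem_Kc.2 fun l => by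
  have := h l
  rw [one_mul, inv_one, mul_one, mul_inv_eq_iff_eq_mul] at this
  exact this.symm

theorem In.pow (h : In ι c x) (n : ℕ) : In ι (c ^ n) (x ^ n) := by
  induction n with
  | zero => simpa using In.ofK (one_mem _)
  | succ n ih => simpa only [pow_succ] using ih.mul h

theorem In.split (h : In ι c x) : c * (ι x)⁻¹ ∈ Kc ι := In.toK (by simpa using h.mul (In.self x).inv)

theorem Ac.cj (h : Ac ι c φ) (h' : In ι d x) : In ι (c * d * c⁻¹) (φ x) := fun l => by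
  obtain ⟨l, rfl⟩ := φ.surjective l
  rw [← h, show c * d * c⁻¹ * (c * ι l * c⁻¹) * (c * d * c⁻¹)⁻¹ = c * (d * ι l * d⁻¹) * c⁻¹ by group, h', h]
  simp

theorem Ac.nK (h : Ac ι c φ) (hk : k ∈ Kc ι) : c * k * c⁻¹ ∈ Kc ι := In.toK (by simpa using h.cj (In.ofK hk))

theorem Ac.sq (h : Ac ι c φ) : ∃ x, In ι (c * c) x := by
  obtain ⟨x, e⟩ := sq_inn φ
  exact ⟨x, fun l => by rw [show c * c * ι l * (c * c)⁻¹ = c * (c * ι l * c⁻¹) * c⁻¹ by group, h, h, e]⟩

/-- conjugation by `κ x` of an element inducing `y` -/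
theorem In.cjk (h : In κ c y) (x : J) : κ x * c * (κ x)⁻¹ = κ (x * y * x⁻¹ * y⁻¹) * c := by
  have := h x⁻¹
  rw [map_inv, mul_inv_eq_iff_eq_mul] at this
  rw [mul_assoc, this, ← mul_assoc, ← map_mul]
  simp only [mul_assoc]

theorem proj (X D : Subgroup J) (hX : ⁅X, X⁆ = X) (h : ∀ x ∈ X, ∃ y ∈ D, In κ (ι x * ι x) y) :
    ∀ x ∈ X, ∃ y ∈ D, In κ (ι x) y := by
  let M : Subgroup J :=
    { carrier := {x | ∃ y ∈ D, In κ (ι x) y}
      one_mem' := ⟨1, one_mem _, by simpa using In.ofK (one_mem _)⟩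
      mul_mem' := by
        rintro g g' ⟨y, h1, h2⟩ ⟨y', h3, h4⟩
        exact ⟨_, mul_mem h1 h3, by simpa using h2.mul h4⟩
      inv_mem' := by
        rintro g ⟨y, h1, h2⟩
        exact ⟨_, inv_mem h1, by simpa using h2.inv⟩ }
  have h1 : ∀ x ∈ X, x * x ∈ M := fun x hx => by simpa [M] using h x hx
  refine hX.ge.trans (commutator_le.2 fun g hg g' hg' => ?_ : ⁅X, X⁆ ≤ M)
  have := mul_mem (mul_mem (h1 _ (mul_mem hg hg')) (h1 _ (mul_mem (mul_mem (inv_mem hg') (inv_mem hg)) hg')))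
    (h1 _ (inv_mem hg'))
  convert this using 1
  rw [commutatorElement_def]; group

/-- a copy of `J` normalised by the centralisers of the involutions of its centraliser -/
structure St (ι : J →* G) : Prop where
  inj : Function.Injective ι
  nrm : ∀ r ∈ Kc ι, r * r = 1 → r ≠ 1 → ∀ c, Commute c r → ∃ φ, Ac ι c φ

theorem St.uniq (p : St ι) (h : In ι c x) (h' : In ι c y) : x = y :=
  conj_inj fun l => p.inj ((h l).symm.trans (h' l))

theorem St.fix (p : St ι) (h : Ac ι c φ) (h' : In ι d x) (e : Commute c d) : φ x = x := by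
  have := h.cj h'
  rw [e.eq, mul_inv_cancel_right] at this
  exact p.uniq this h'

theorem St.comm (p : St ι) (h : In ι c y) (h' : In ι d x) (e : Commute c d) : y * x = x * y :=
  mul_inv_eq_iff_eq_mul.1 (p.fix h.ac h' e)

theorem St.one (p : St ι) (h : ι x ∈ Kc ι) : x = 1 := p.uniq (In.self x) (In.ofK h)

theorem St.ne (p : St ι) (h : x ≠ 1) : ι x ≠ 1 := fun e => h (p.inj (by rw [e, map_one]))

theorem St.sq (p : St ι) (h : In ι c x) (e : c * c = 1) : x * x = 1 :=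
  p.uniq (h.mul h) (In.ofK (e ▸ one_mem _))

/-- change of parameter -/
noncomputable def rp (ι : J →* G) (m : J) : J →* G := ι.comp (MulAut.conj m).toMonoidHom

theorem rp_apply (m l : J) : rp ι m l = ι (m * l * m⁻¹) := rfl

theorem Kc_rp (m : J) : Kc (rp ι m) = Kc ι := by
  ext k
  rw [mem_Kc, mem_Kc]
  exact ⟨fun h l => by simpa [rp_apply, mul_assoc] using h (m⁻¹ * l * m), fun h l => h _⟩

theorem Ac.rp (h : Ac ι c φ) (m : J) : Ac (rp ι m) c ((MulAut.conj m)⁻¹ * φ * MulAut.conj m) := fun l => by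
  rw [rp_apply, h, rp_apply]
  simp [mul_assoc]

theorem In.rp {m : J} (h : In ι c (m * x * m⁻¹)) : In (rp ι m) c x := fun l => by
  rw [rp_apply, h, rp_apply]
  congr 1; group

theorem St.rp (p : St ι) (m : J) : St (rp ι m) where
  inj := p.inj.comp (MulAut.conj m).injective
  nrm r h1 h2 h3 c h4 := by
    obtain ⟨φ, h⟩ := p.nrm r (by rwa [Kc_rp] at h1) h2 h3 c h4
    exact ⟨_, h.rp m⟩

/-- two copies in general position -/
structure Tw (ι κ : J →* G) : Prop where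
  sa : St ι
  sb : St κ
  od : ∀ x ∈ Kc ι, x ∈ Kc κ → Odd (orderOf x)
  nle : ¬∀ l, ι l ∈ Kc κ
  nle' : ¬∀ l, κ l ∈ Kc ι

namespace Tw

variable (p : Tw ι κ)
include p

theorem symm : Tw κ ι := ⟨p.sb, p.sa, fun x h1 h2 => p.od x h2 h1, p.nle', p.nle⟩

theorem rpl (m : J) : Tw (rp ι m) κ :=
  ⟨p.sa.rp m, p.sb, by rw [Kc_rp]; exact p.od, fun h => p.nle fun l => by
    simpa [rp_apply, mul_assoc] using h (m⁻¹ * l * m), by rw [Kc_rp]; exact fun h => p.nle' h⟩

theorem rpr (m : J) : Tw ι (rp κ m) := (p.symm.rpl m).symm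

omit p in
theorem projC (h : ∀ c ∈ C0, ∃ φ, Ac κ (ι c) φ) : ∀ c ∈ C0, ∃ y, In κ (ι c) y := fun c hc => by
  obtain ⟨y, -, e⟩ := proj (ι := ι) (κ := κ) C0 ⊤ C0_perf (fun x hx => by
    obtain ⟨φ, e⟩ := h x hx
    obtain ⟨y, e⟩ := e.sq
    exact ⟨y, mem_top _, e⟩) c hc
  exact ⟨y, e⟩

theorem alpha0 (h : ι z ∈ Kc κ) : ι a ∈ Kc κ := by
  have h1 := projC fun c hc => p.sb.nrm _ h (by rw [← map_mul, zz, map_one]) (p.sa.ne z_ne) _
    (Commute.map (mem_C0.1 hc) ι)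
  obtain ⟨f, fC, f5, fp⟩ := five
  obtain ⟨A, hA⟩ := h1 a a_C0
  obtain ⟨F, hF⟩ := h1 f fC
  obtain ⟨X, hX⟩ := h1 x1 (mem_C0.2 x1z)
  have hZ := In.ofK h
  have AA : A * A = 1 := p.sb.sq hA (by rw [← map_mul, aa, map_one])
  have eX : X * X = A := p.sb.uniq (hX.mul hX) (by rwa [← map_mul, x1_sq])
  have F5 : F ^ 5 = 1 := p.sb.uniq (hF.pow 5) (In.ofK (by rw [← map_pow, f5, map_one]; exact one_mem _))
  have hc : ∀ i : ℕ, In κ (ι (f ^ i * a * (f ^ i)⁻¹)) (F ^ i * A * (F ^ i)⁻¹) := fun i => by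
    simpa using ((hF.pow i).mul hA).mul (hF.pow i).inv
  by_contra n
  have A1 : A ≠ 1 := fun e => n (In.toK (e ▸ hA))
  have h2 : F * A = A * F := five_comm (eX ▸ A2_of_sq (by rwa [eX]) (by rwa [eX])) F5 fun i => by
    have h3 := hc i
    rcases q10 (pow_mem fC i) with e | e | e
    · rw [p.sb.uniq h3 (e.symm ▸ hA)]
    · rw [p.sb.uniq h3 (by rw [e, map_mul]; exact hZ.mul hA), one_mul]
    · simpa using p.sb.uniq (hA.mul h3) (by rw [← map_mul, e, map_mul, map_mul]; exact (h3.mul hA).mul hZ)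
  have h3 : ∀ i : ℕ, F ^ i * A * (F ^ i)⁻¹ = A := fun i =>
    mul_inv_eq_iff_eq_mul.2 (Commute.pow_left h2 i).eq
  simp only [h3] at hc
  have h4 := p.sb.uniq ((((hA.mul (hc 1)).mul (hc 2)).mul (hc 3)).mul (hc 4)) (by
    simp only [← map_mul, pow_one, fp]; exact hZ)
  rw [AA, one_mul, AA, one_mul] at h4
  exact A1 h4

/-- no involution of class 2A centralises a conjugate in general position -/
theorem alpha (h : A2 x) : ι x ∉ Kc κ := fun e => by
  obtain ⟨m, rfl⟩ := h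
  have := genA ((Kc κ).comap (rp ι m)) e fun l h => ((p.rpl m).rpl l).alpha0 h
  exact (p.rpl m).nle fun l => (this.ge (mem_top l) : l ∈ (Kc κ).comap (rp ι m))

theorem two (h1 : c ∈ Kc ι) (h2 : c ∈ Kc κ) (h : Two c) : c = 1 := eq_one_of_odd_two (p.od c h1 h2) h

end Tw

theorem surj_of {X : Subgroup J} {N : J → J → Prop} (h1 : ∀ x ∈ X, ∃ y ∈ X, N x y)
    (h2 : ∀ x ∈ X, ∀ x' ∈ X, ∀ y, N x y → N x' y → x = x') : ∀ y ∈ X, ∃ x ∈ X, N x y := by
  choose f f1 f2 using h1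
  let g : X → X := fun x => ⟨f x x.2, f1 x x.2⟩
  have h : Function.Injective g := fun x x' e => Subtype.ext (h2 x x.2 x' x'.2 _ (f2 x x.2) (by
    rw [show f x x.2 = f x' x'.2 from congrArg Subtype.val e]; exact f2 x' x'.2))
  intro y hy
  obtain ⟨x, e⟩ := Finite.surjective_of_injective h ⟨y, hy⟩
  exact ⟨x, x.2, by rw [← show f x x.2 = y from congrArg Subtype.val e]; exact f2 x x.2⟩

end CfsgLib.SJ.Rd
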