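import Mathlib
import Cfsg.Agent.Lib.SJ.RB

/-! # SJ part R: commuting involutions of two centralisers -/

set_option autoImplicit false

namespace CfsgLib.SJ.Rd

open Subgroup Cfsg CfsgLib.StdInt CfsgLib.StdW

variable {G : Type*} [Group G] {ι κ : J →* G} {c d k t u : G} {x y : J} {φ : MulAut J}

theorem In.comm (h : In ι u x) (e : x * y = y * x) : Commute (ι y) u := by
  have := h y
  rw [e, mul_inv_cancel_right, mul_inv_eq_iff_eq_mul] at this
  exact this.symm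

theorem Kc.comm (h : k ∈ Kc ι) (x : J) : Commute (ι x) k := mem_Kc.1 h x

namespace Tw

variable (p : Tw ι κ) (i : Iv (Kc ι) (Kc κ) t u)
include p i

theorem uK : u ∉ Kc ι := fun h => i.s1 (p.two h i.sK (two_of_sq i.ss))

theorem act (h : Commute c u) : ∃ φ, Ac κ c φ := p.sb.nrm u i.sK i.ss i.s1 c h

theorem ztype0 (h : In ι u z) (h' : In κ (ι z) z) :
    u = t * ι z ∧ ∀ c ∈ Kc ι, Two c → Commute c t → c = 1 ∨ c = t := by
  have h0 : ∀ c ∈ C0, ∃ φ, Ac κ (ι c) φ := fun c hc => p.act i (h.comm (mem_C0.1 hc).symm)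
  have h1 : ∀ y ∈ C0, ∃ x ∈ C0, In κ (ι x) y := surj_of (fun x hx => by
    obtain ⟨y, e⟩ := projC h0 x hx
    exact ⟨y, mem_C0.2 (p.sb.comm e h' (Commute.map (mem_C0.1 hx) ι)), e⟩) fun x hx x' hx' y e e' =>
      mul_inv_eq_one.1 (minN ((Kc κ).comap ι) (fun c hc x hx => by
        obtain ⟨φ, e⟩ := h0 c hc
        simpa using e.nK hx) (p.alpha A2_z) (mul_mem hx (inv_mem hx'))
        (In.toK (by simpa using e.mul e'.inv)))
  have kK := h.split
  have cz : Commute (ι z) u := h.comm rfl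
  have zi : (ι z)⁻¹ = ι z := inv_eq_of_mul_eq_one_left (by rw [← map_mul, zz, map_one])
  rw [zi] at kK
  have kk : u * ι z * (u * ι z) = 1 := by
    rw [← pow_two, cz.symm.mul_pow, pow_two, pow_two, i.ss, ← map_mul, zz, map_one, mul_one]
  have h2 : ∀ c ∈ Kc ι, Two c → Commute c (u * ι z) → c = 1 ∨ c = u * ι z := fun c hc c2 c3 => by
    obtain ⟨ψ, e⟩ := p.act i (c := c) (by simpa using c3.mul_right (Kc.comm hc z).symm.inv_right)
    rcases cC0 ψ (fun y hy => by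
      obtain ⟨x, -, e'⟩ := h1 y hy
      exact p.sb.fix e e' (Kc.comm hc x).symm) with f | f
    · exact Or.inl (p.two hc (In.toK fun l => by rw [e, f]; simp) c2)
    · have e1 : In κ c z := fun l => by rw [e, f, inv_eq_of_mul_eq_one_left zz]
      have := p.two (mul_mem hc kK) (In.toK (by simpa [zz] using e1.mul ((In.ofK i.sK).mul h')))
        (two_mul' c3 c2 (two_of_sq kk))
      exact Or.inr (by rwa [← kk, mul_left_inj] at this)
  have e := (h2 t i.tK (two_of_sq i.tt) (i.c.symm.mul_right (Kc.comm i.tK z).symm)).resolve_left i.t1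
  exact ⟨by rw [e, mul_assoc, ← map_mul, zz, map_one, mul_one], e ▸ h2⟩

theorem ztype (h : In ι u z) : u = t * ι z ∧ (∀ c ∈ Kc ι, Two c → Commute c t → c = 1 ∨ c = t) ∧
    ∃ y, A2 y ∧ In κ t y := by
  obtain ⟨X, hX⟩ := projC (fun c hc => p.act i (h.comm (mem_C0.1 hc).symm)) _ (mul_mem a_C0 b_C0)
  have h1 := hX.mul hX
  rw [← map_mul, ← mul_assoc, abab] at h1
  have h2 : A2 (X * X) := A2_of_sq (p.sb.sq h1 (by rw [← map_mul, zz, map_one])) fun e =>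
    p.alpha A2_z (In.toK (e ▸ h1))
  obtain ⟨m, e⟩ := id h2
  obtain ⟨h3, h4⟩ := (p.rpr m).ztype0 (by rwa [Kc_rp]) h (In.rp (e ▸ h1))
  refine ⟨h3, h4, _, h2, ?_⟩
  have := (In.ofK i.sK).mul h1
  rwa [h3, mul_assoc, ← map_mul, zz, map_one, mul_one, one_mul] at this

theorem bproj (h : In ι u v) (h' : In κ t v) :
    (∀ x ∈ B, ∃ y ∈ B, In κ (ι x) y) ∧ ∀ y ∈ B, ∃ x ∈ B, In κ (ι x) y := by
  have h0 : ∀ c ∈ B, ∃ φ, Ac κ (ι c) φ := fun c hc => p.act i (h.comm (B_v hc))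
  have h1 := proj (ι := ι) (κ := κ) B ⊤ B_perf fun x hx => by
    obtain ⟨φ, e⟩ := h0 x hx
    obtain ⟨y, e⟩ := e.sq
    exact ⟨y, mem_top _, e⟩
  have h2 := proj (ι := ι) (κ := κ) B B B_perf fun x hx => by
    obtain ⟨y, -, e⟩ := h1 x hx
    exact ⟨_, sqv (p.sb.comm e h' (Kc.comm i.tK x)), e.mul e⟩
  exact ⟨h2, surj_of h2 fun x hx x' hx' y e e' => mul_inv_eq_one.1 (simB ((Kc κ).comap ι) (fun c hc x _ hx => by
    obtain ⟨φ, e⟩ := h0 c hc
    simpa using e.nK hx) z_mem_B (p.alpha A2_z) (mul_mem hx (inv_mem hx')) (In.toK (by simpa using e.mul e'.inv)))⟩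

theorem btype (h : In ι u v) (h' : In κ t v) (hx : x ∈ B) (xx : x * x = 1) : ∃ y ∈ B, ι x = κ y := by
  obtain ⟨y, hy, e⟩ := (p.bproj i h h').1 x hx
  obtain ⟨h1, h2⟩ := p.symm.bproj i.symm h' h
  obtain ⟨x', hx', e'⟩ := h1 y hy
  have k1 := e.split
  have k2 := (In.self x).mul e'.inv
  have k3 : x * x'⁻¹ = 1 := cenB (mul_mem hx (inv_mem hx')) fun c hc _ => by
    obtain ⟨d, -, f⟩ := h2 c hc
    exact p.sa.comm f k2 (Kc.comm k1 d)
  have yy := p.sb.sq e (by rw [← map_mul, xx, map_one])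
  refine ⟨y, hy, mul_inv_eq_one.1 (p.two (In.toK (k3 ▸ k2)) k1 (two_of_sq ?_))⟩
  have c : Commute (ι x) (κ y)⁻¹ := by simpa using ((Kc.comm k1 y).symm.mul_left (Commute.refl _)).inv_right
  rw [← pow_two, c.mul_pow, inv_pow, ← map_pow, ← map_pow, pow_two, pow_two, xx, yy]
  simp

theorem bnorm (h : In ι u v) (h' : In κ t v) :
    ∃ m, In (rp κ m) t v ∧ ι z = rp κ m z ∧ (ι a = rp κ m a ∨ ι a = rp κ m (z * a)) := by
  obtain ⟨y1, h1, e1⟩ := p.btype i h h' z_mem_B zz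
  obtain ⟨y2, h2, e2⟩ := p.btype i h h' a_mem_B aa
  obtain ⟨c, hc, f1, f2⟩ := B_tr h1 h2 (p.sb.inj (by rw [map_mul, ← e1, ← map_mul, zz, map_one, map_one]))
    (p.sb.inj (by rw [map_mul, ← e2, ← map_mul, aa, map_one, map_one]))
    (fun e => p.sa.ne z_ne (by rw [e1, e, map_one])) (fun e => p.sa.ne a_ne (by rw [e2, e, map_one]))
    (fun e => a_ne_z (p.sa.inj (by rw [e1, e2, e])))
    (p.sb.inj (by rw [map_mul, map_mul, ← e1, ← e2, ← map_mul, ← map_mul, za]))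
  have g : ∀ y, rp κ c⁻¹ (c * y * c⁻¹) = κ y := fun y => by rw [rp_apply]; congr 1; group
  refine ⟨c⁻¹, In.rp (by rwa [mul_assoc, inv_inv, B_v hc, inv_mul_cancel_left]), by rw [e1, ← g y1, f1], ?_⟩
  rw [e2, ← g y2]
  exact f2.imp (fun e => by rw [e]) fun e => by rw [e]

theorem otype (h : Ac ι u φ) (h' : ¬∃ l : J, ∀ x, φ x = l * x * l⁻¹) :
    ∃ l y x, A2 y ∧ ι l * u * (ι l)⁻¹ = u * ι y ∧ Commute (ι y) u ∧ In κ (ι y) (x * x) ∧ A2 (x * x) ∧
      ∃ d, In κ d x ∧ Commute d t := by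
  have ui : u⁻¹ = u := inv_eq_of_mul_eq_one_left i.ss
  obtain ⟨l, y, y1, y2, y3⟩ := outer φ (fun x => p.sa.inj (by
    rw [← h, ← h, ui]; simp only [mul_assoc, i.ss, mul_one]; rw [← mul_assoc, i.ss, one_mul])) h'
  have c : Commute (ι y) u := by
    have := h y
    rw [y1, mul_inv_eq_iff_eq_mul] at this
    exact this.symm
  obtain ⟨ψ, e⟩ := p.act i c
  obtain ⟨x, e⟩ := e.sq
  have e2 : In κ (ι (y ^ 4)) (x * x) := by
    convert e.mul e using 1
    simp only [map_mul, pow_succ, pow_zero, one_mul, mul_assoc]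
  refine ⟨l, y ^ 4, x, y2, ?_, by rw [map_pow]; exact c.pow_left 4, e2, A2_of_sq (p.sb.sq e2 (by
    rw [← map_mul, A2.sq y2, map_one])) fun f => p.alpha y2 (In.toK (f ▸ e2)), _, e,
    (Kc.comm i.tK y).mul_left (Kc.comm i.tK y)⟩
  rw [← y3, map_mul, ← h, map_inv, ui, ← mul_assoc, ← mul_assoc, ← mul_assoc, i.ss, one_mul]

theorem inner (h' : In κ t v) : ∃ x, In ι u x := by
  obtain ⟨φ, h⟩ := p.symm.act i.symm i.c
  by_contra n
  obtain ⟨l, y, x, -, -, -, -, h1, d, h2, h3⟩ := p.otype i h fun ⟨l, e⟩ => n ⟨l, fun x => by rw [h, e]⟩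
  exact A2.ne h1 (nf (p.sb.comm h2 h' h3) (A2.sq h1))

theorem cls' (h : In ι u x) : A2 x ∨ B2 x :=
  (cls (p.sa.sq h i.ss)).resolve_left fun e => p.uK i (In.toK (e ▸ h))

end Tw

end CfsgLib.SJ.Rd
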