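import Mathlib
import Cfsg.Agent.Lib.SJ.RC

/-! # SJ part R: the family of conjugates; a pair of type 2A exists, `t` is not conjugate into `J` -/

set_option autoImplicit false

namespace CfsgLib.SJ.Rd

open Subgroup Cfsg CfsgLib.StdInt CfsgLib.StdW

variable {G : Type*} [Group G] {ι κ : J →* G} {c d g k t u : G} {x y : J} {φ : MulAut J}

/-- conjugate embedding -/
noncomputable def cg (g : G) (ι : J →* G) : J →* G := (MulAut.conj g).toMonoidHom.comp ι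

theorem cg_apply (l : J) : cg g ι l = g * ι l * g⁻¹ := rfl

theorem cg_cg (g h : G) : cg g (cg h ι) = cg (g * h) ι := by
  ext l
  simp only [cg_apply, mul_inv_rev, mul_assoc]

theorem cg_rp (m : J) : cg g (rp ι m) = rp (cg g ι) m := rfl

theorem mem_cg : k ∈ Kc (cg g ι) ↔ g⁻¹ * k * g ∈ Kc ι := by
  rw [mem_Kc, mem_Kc]
  exact forall_congr' fun l => ⟨fun h => (comm_conj.1 (Commute.symm h)).symm, fun h => (comm_conj.2 (Commute.symm h)).symm⟩

theorem Ac.cg (h : Ac ι (g⁻¹ * c * g) φ) : Ac (cg g ι) c φ := fun l => by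
  rw [cg_apply, cg_apply, ← h]; group

theorem St.cg (p : St ι) (g : G) : St (cg g ι) where
  inj := (MulAut.conj g).injective.comp p.inj
  nrm r h1 h2 h3 c h4 := by
    obtain ⟨φ, h⟩ := p.nrm _ (mem_cg.1 h1) (by simpa using (sq_map (MulAut.conj g⁻¹)).2 h2)
      (by simpa using (MulAut.conj g⁻¹).map_ne_one_iff.2 h3) (g⁻¹ * c * g) (by simpa using h4.map (MulAut.conj g⁻¹))
    exact ⟨φ, h.cg⟩

theorem Tw.cg (p : Tw ι κ) (g : G) : Tw (cg g ι) (cg g κ) where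
  sa := p.sa.cg g
  sb := p.sb.cg g
  od x h1 h2 := by
    have := p.od _ (mem_cg.1 h1) (mem_cg.1 h2)
    rwa [show g⁻¹ * x * g = MulAut.conj g⁻¹ x by simp, MulEquiv.orderOf_eq] at this
  nle h := p.nle fun l => by simpa [cg_apply, mul_assoc] using mem_cg.1 (h l)
  nle' h := p.nle' fun l => by simpa [cg_apply, mul_assoc] using mem_cg.1 (h l)

/-- a standard copy of `J` -/
structure Fam (ι : J →* G) : Prop where
  st : St ι
  tw : ∀ g, (∃ φ, Ac ι g φ) ∨ Tw ι (cg g ι)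

theorem Fam.rp (p : Fam ι) (m : J) : Fam (rp ι m) :=
  ⟨p.st.rp m, fun g => (p.tw g).imp (fun ⟨_, h⟩ => ⟨_, h.rp m⟩) fun h => (h.rpl m).rpr m⟩

theorem Fam.cg (p : Fam ι) (g : G) : Fam (cg g ι) :=
  ⟨p.st.cg g, fun h => (p.tw (g⁻¹ * h * g)).imp (fun ⟨_, e⟩ => ⟨_, e.cg⟩) fun e => by
    have := e.cg g
    rwa [cg_cg, show g * (g⁻¹ * h * g) = h * g by group, ← cg_cg] at this⟩

/-- a pair -/
structure Pr (ι κ : J →* G) (t u : G) : Prop where
  fa : Fam ι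
  fb : Fam κ
  tw : Tw ι κ
  iv : Iv (Kc ι) (Kc κ) t u
  cj : ∃ g, Kc κ = Kc (cg g ι)

theorem Pr.symm (p : Pr ι κ t u) : Pr κ ι u t := by
  obtain ⟨g, h⟩ := p.cj
  refine ⟨p.fb, p.fa, p.tw.symm, p.iv.symm, g⁻¹, ext fun k => ?_⟩
  rw [mem_cg, h, mem_cg]
  simp [mul_assoc]

theorem Pr.rpl (p : Pr ι κ t u) (m : J) : Pr (rp ι m) κ t u :=
  ⟨p.fa.rp m, p.fb, p.tw.rpl m, by rw [Kc_rp]; exact p.iv, by simpa only [cg_rp, Kc_rp] using p.cj⟩

theorem Pr.rpr (p : Pr ι κ t u) (m : J) : Pr ι (rp κ m) t u := (p.symm.rpl m).symm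

theorem Fam.pr (p : Fam ι) (tK : t ∈ Kc ι) (tt : t * t = 1) (t1 : t ≠ 1) (c : Commute (g * t * g⁻¹) t)
    (n : g * t * g⁻¹ ∉ Kc ι) : Pr ι (Rd.cg g ι) t (g * t * g⁻¹) :=
  ⟨p, p.cg g, (p.tw g).resolve_left fun ⟨_, h⟩ => n (h.nK tK), ⟨tK, mem_cg.2 (by simpa [mul_assoc] using tK), tt,
    by rw [conj_mul, tt, mul_one, mul_inv_cancel], t1, by simpa using t1, c⟩, g, rfl⟩

/-- existence of a pair of type 2A -/
def ExZ (G : Type*) [Group G] : Prop := ∃ (ι κ : J →* G) (t u : G), Pr ι κ t u ∧ In ι u z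

theorem Pr.ofA (p : Pr ι κ t u) (h : In ι u x) (h' : A2 x) : ExZ G := by
  obtain ⟨m, rfl⟩ := h'
  exact ⟨_, _, _, _, p.rpl m, h.rp⟩

theorem Pr.half (p : Pr ι κ t u) : ExZ G ∨ ∃ m, In (rp ι m) u v := by
  obtain ⟨φ, h⟩ := p.tw.symm.act p.iv.symm p.iv.c
  by_cases n : ∃ l : J, ∀ x, φ x = l * x * l⁻¹
  · obtain ⟨l, e⟩ := n
    have h1 : In ι u l := fun x => by rw [h, e]
    exact (p.tw.cls' p.iv h1).imp (p.ofA h1) fun ⟨m, f⟩ => ⟨m, In.rp (f ▸ h1)⟩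
  · obtain ⟨l, y, x, y1, h1, h2, h3, h4, -⟩ := p.tw.otype p.iv h n
    refine Or.inl ((p.fb.pr (g := ι l) p.iv.sK p.iv.ss p.iv.s1 (h1 ▸ (Commute.refl u).mul_left h2) fun e =>
      p.tw.alpha y1 ((mul_mem_cancel_left p.iv.sK).1 (h1 ▸ e))).ofA ?_ h4)
    rw [h1]
    simpa using (In.ofK p.iv.sK).mul h3

theorem Pr.exZ (p : Pr ι κ t u) : ExZ G := by
  refine p.half.elim id fun ⟨m, h⟩ => p.symm.half.elim id fun ⟨m', h'⟩ => ?_
  have q := (p.rpl m).rpr m'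
  obtain ⟨n, h1, h2, -⟩ := q.tw.bnorm q.iv h h'
  obtain ⟨x, -, -, hx, -⟩ := pv
  have e := h1.cjk x
  rw [hx, mul_inv_cancel_right, ← h2] at e
  have tK := q.iv.tK
  refine ⟨_, _, _, _, q.fa.pr tK q.iv.tt q.iv.t1 (e ▸ (Kc.comm tK z).mul_left rfl) fun f =>
    z_ne (q.fa.st.one ((mul_mem_cancel_right tK).1 (e ▸ f))), ?_⟩
  rw [e]
  simpa using (In.self z).mul (In.ofK tK)

/-- `⟨t⟩` is a Sylow 2-subgroup of the centraliser -/
structure Sy (ι : J →* G) (t : G) : Prop where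
  fa : Fam ι
  tK : t ∈ Kc ι
  tt : t * t = 1
  t1 : t ≠ 1
  two : ∀ c ∈ Kc ι, Two c → Commute c t → c = 1 ∨ c = t

theorem Sy.rp (p : Sy ι t) (m : J) : Sy (rp ι m) t :=
  ⟨p.fa.rp m, by rw [Kc_rp]; exact p.tK, p.tt, p.t1, by rw [Kc_rp]; exact p.two⟩

theorem Sy.pr (p : Sy ι t) (h : g * t * g⁻¹ = ι x) : Pr ι (cg g ι) t (ι x) :=
  h ▸ p.fa.pr p.tK p.tt p.t1 (h ▸ Kc.comm p.tK x) fun e => by
    rw [h] at e
    rw [p.fa.st.one e, map_one] at h
    exact p.t1 (by simpa using h)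

theorem Sy.bset (p : Sy ι t) (h : g * t * g⁻¹ = ι v) : ∃ κ, Tw ι κ ∧ ι v ∈ Kc κ ∧ In κ t v ∧ ι z = κ z ∧
    (ι a = κ a ∨ ι a = κ (z * a)) ∧ (In κ (ι w) w ∨ In κ (ι w) (v * w)) := by
  have q := p.pr h
  have hv := In.self (ι := ι) v
  obtain ⟨x, h1⟩ := q.tw.symm.inner q.iv.symm hv
  obtain ⟨m, e⟩ := (q.tw.symm.cls' q.iv.symm h1).resolve_left fun ⟨m, e⟩ => by
    have q' := (q.rpr m).symm
    obtain ⟨-, -, y, y1, y2⟩ := q'.tw.ztype q'.iv (In.rp (e ▸ h1))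
    exact not_A2_B2 y1 (p.fa.st.uniq hv y2 ▸ B2_v)
  have q1 := q.rpr m
  obtain ⟨n, h2, h3, h4⟩ := q1.tw.bnorm q1.iv hv (In.rp (e ▸ h1))
  have q2 := q1.rpr n
  have two : ∀ c ∈ Kc (Rd.rp (Rd.rp (cg g ι) m) n), Two c → Commute c (ι v) → c = 1 ∨ c = ι v := fun c hc c2 c3 => by
    rw [Kc_rp, Kc_rp, mem_cg] at hc
    rw [← h] at c3 ⊢
    refine (p.two _ hc (by simpa using (two_map (MulAut.conj g⁻¹)).2 c2) (comm_conj.1 c3)).imp
      (fun e => by simpa [mul_assoc] using congrArg (MulAut.conj g) e) fun e => by rw [← e]; group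
  generalize Rd.rp (Rd.rp (cg g ι) m) n = κ at *
  refine ⟨κ, q2.tw, q2.iv.sK, h2, h3, h4, ?_⟩
  have cw : Commute (ι w) (ι v) := Commute.map vw.symm ι
  obtain ⟨ψ, h5⟩ := q2.tw.act q2.iv cw
  have h6 : ∀ y ∈ B, y * y = 1 → ψ y = y := fun y hy yy => by
    obtain ⟨x, hx, e⟩ := q2.tw.symm.btype q2.iv.symm h2 hv hy yy
    exact q2.tw.sb.fix h5 (In.self y) (e ▸ Commute.map (B_w hx) ι)
  obtain ⟨e, u, e1, u1, h7⟩ := cF ψ (h6 z z_mem_B zz) (h6 a a_mem_B aa) (q2.tw.sb.fix h5 h2 (Kc.comm p.tK w))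
  obtain rfl : u = 1 := cenB (U_B u1) fun y hy yy => by
    have := h7 y
    rw [h6 y hy yy, eq_mul_inv_iff_mul_eq, ← mul_assoc, ← (V4 e1).2 y hy, mul_assoc, mul_assoc, mul_right_inj] at this
    exact this
  have h8 : In κ (ι w) e := fun l => by rw [h5, h7, mul_one]
  have w2 : ι w * ι w = 1 := by rw [← map_mul, ww, map_one]
  rcases e1 with rfl | rfl | rfl | rfl
  · rcases two _ h8.toK (two_of_sq w2) cw with f | f
    · exact absurd f (p.fa.st.ne w_ne)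
    · exact absurd (p.fa.st.inj f) w_ne_v
  · have f1 : ∀ x, ι w * t ≠ ι x := fun x f => by
      have f2 : t = ι (w⁻¹ * x) := by rw [map_mul, ← f, map_inv, inv_mul_cancel_left]
      exact p.t1 (by rw [f2, p.fa.st.one (x := w⁻¹ * x) (f2 ▸ p.tK), map_one])
    rcases two _ (In.toK (vv ▸ h8.mul h2)) (two_mul' (Kc.comm p.tK w) (two_of_sq w2) (two_of_sq p.tt))
      (cw.mul_left (Kc.comm p.tK v).symm) with f | f
    · exact absurd (f.trans (map_one ι).symm) (f1 1)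
    · exact absurd f (f1 v)
  · exact Or.inl h8
  · exact Or.inr h8

theorem Sy.kill (p : Sy ι t) (h : g * t * g⁻¹ = ι v) {γ : G} (h1 : Commute γ (ι z)) (h2 : Commute γ (ι a))
    (h3 : Commute γ (ι v)) (h4 : Commute γ (t * ι w) ∨ Commute γ (t * ι (v * w))) (h5 : γ * t * γ⁻¹ = ι z * t) :
    False := by
  obtain ⟨κ, q, vK, k1, k2, k3, k4⟩ := p.bset h
  obtain ⟨ψ, e⟩ := q.sb.nrm _ vK (by rw [← map_mul, vv, map_one]) (q.sa.ne v_ne) γ h3
  have f1 : ψ z = z := q.sb.fix e (In.self z) (k2 ▸ h1)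
  have f2 : ψ a = a := by
    rcases k3 with k | k
    · exact q.sb.fix e (In.self a) (k ▸ h2)
    · have := q.sb.fix e (In.self _) (k ▸ h2)
      rwa [map_mul, f1, mul_right_inj] at this
  have f3 : ∀ y, In κ (ι w) y → ψ (v * y) = v * y := fun y k => by
    rcases h4 with h4 | h4
    · exact q.sb.fix e (k1.mul k) h4
    · exact q.sb.fix e (by simpa using k1.mul ((In.ofK vK).mul k)) h4
  have f4 : ψ v = v := by
    rcases k4 with k | k
    · exact cF3 ψ f1 f2 (f3 _ k)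
    · exact cF2 ψ f1 f2 (by simpa only [← mul_assoc, vv, one_mul] using f3 _ k)
  have f5 := (e.cj k1).mul k1.inv
  rw [h5, f4, mul_inv_cancel_right, mul_inv_cancel] at f5
  exact q.alpha A2_z f5.toK

theorem Sy.nconjv (p : Sy ι t) (h : g * t * g⁻¹ = ι v) : False := by
  obtain ⟨κ, q, vK, k1, k2, k3, k4⟩ := p.bset h
  obtain ⟨x, xz, xa, xv, xw⟩ := pv
  have c1 : Commute (ι x * κ x) (ι z) := (Commute.map xz ι).mul_left (k2 ▸ Commute.map xz κ)
  have c2 : Commute (ι x * κ x) (ι a) := (Commute.map xa ι).mul_left (by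
    rcases k3 with k | k
    · exact k ▸ Commute.map xa κ
    · exact k ▸ Commute.map (Commute.mul_right xz xa) κ)
  have cj : ∀ c, ι x * κ x * c * (ι x * κ x)⁻¹ = ι x * (κ x * c * (κ x)⁻¹) * (ι x)⁻¹ := fun c => by group
  have cx : ∀ l, ι x * ι l * (ι x)⁻¹ = ι (x * l * x⁻¹) := In.self x
  have e1 : ι x * κ x * t * (ι x * κ x)⁻¹ = ι z * t := by
    rw [cj, k1.cjk, xv, mul_inv_cancel_right, ← k2, ← conj_mul, cx, xz, mul_inv_cancel_right, (Kc.comm p.tK x).eq,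
      mul_inv_cancel_right]
  have e2 : ι x * κ x * ι v * (ι x * κ x)⁻¹ = ι (z * v) := by
    rw [cj, (Kc.comm vK x).eq, mul_inv_cancel_right, cx, xv]
  have c3 : Commute (ι x * κ x) (t * ι v) := mul_inv_eq_iff_eq_mul.1 (by
    rw [← conj_mul, e1, e2, map_mul, (Kc.comm p.tK z).eq, mul_assoc, ← mul_assoc (ι z), ← map_mul, zz, map_one, one_mul])
  have zza : z * (z * a) = a := by rw [← mul_assoc, zz, one_mul]
  have e3 : κ a = ι a ∧ κ (z * a) = ι (z * a) ∨ κ a = ι (z * a) ∧ κ (z * a) = ι a := by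
    rcases k3 with k | k
    · exact Or.inl ⟨k.symm, by rw [map_mul, map_mul, k, k2]⟩
    · exact Or.inr ⟨by rw [map_mul, k, k2, ← map_mul, zza], k.symm⟩
  have e4 : κ x * ι w * (κ x)⁻¹ = ι a * ι w ∨ κ x * ι w * (κ x)⁻¹ = ι (z * a) * ι w := by
    rcases k4 with k | k
    · rw [k.cjk, xw, mul_inv_cancel_right]
      exact e3.symm.imp (fun e => by rw [e.2]) fun e => by rw [e.2]
    · rw [k.cjk, ← conj_mul, xv, xw, show z * v * (z * a * w) * (v * w)⁻¹ = a by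
        rw [mul_inv_eq_iff_eq_mul, ← vz, mul_assoc, mul_assoc z a, ← mul_assoc z, zz, one_mul, ← mul_assoc, va,
          mul_assoc]]
      exact e3.imp (fun e => by rw [e.1]) fun e => by rw [e.1]
  have xa' : x * a * x⁻¹ = a := by rw [xa, mul_inv_cancel_right]
  have xz' : x * z * x⁻¹ = z := by rw [xz, mul_inv_cancel_right]
  have r1 : r * z * r⁻¹ = z := by rw [rz, mul_inv_cancel_right]
  have r2 : r * a * r⁻¹ = a := by rw [ra, mul_inv_cancel_right]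
  have r3 : r * (v * w) * r⁻¹ = v := by rw [← conj_mul, rv, rw, ← mul_assoc, ← vw, mul_assoc, ww, mul_one]
  have hr : ∀ m, ι m * g * t * (ι m * g)⁻¹ = Rd.rp ι m v := fun m => by
    rw [rp_apply, map_mul, map_mul, ← h, map_inv]; group
  rw [cj] at e1
  rcases e4 with e4 | e4
  · have e5 : ι x * κ x * ι (v * w) * (ι x * κ x)⁻¹ = ι (v * w) := by
      rw [map_mul ι v, ← conj_mul, e2, cj, e4, ← map_mul, cx, ← conj_mul, xa', xw, ← map_mul, ← map_mul]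
      congr 1
      rw [← mul_assoc a, ← mul_assoc a, ← za, mul_assoc z a, aa, mul_one, ← vz, mul_assoc, ← mul_assoc z, zz, one_mul]
    have f : ∀ l, Rd.rp (Rd.rp ι r) r l = ι (r * (r * l * r⁻¹) * r⁻¹) := fun l => rfl
    refine ((p.rp r).rp r).kill (g := ι (r * r) * g) (γ := ι x * κ x) (by
      rw [hr, f, rp_apply, mul_inv_rev]; simp only [mul_assoc]) (by rwa [f, r1, r1]) (by rwa [f, r2, r2])
      (by rw [f, rv, rw]; exact mul_inv_eq_iff_eq_mul.1 e5) (Or.inl (by rwa [f, rw, r3])) (by rwa [f, r1, r1, cj])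
  · have e5 : ι x * κ x * ι w * (ι x * κ x)⁻¹ = ι w := by
      rw [cj, e4, ← map_mul, cx, ← conj_mul, ← conj_mul, xa', xz', xw, ← mul_assoc, mul_assoc z a, ← mul_assoc a, ← za,
        mul_assoc z a, aa, mul_one, zz, one_mul]
    exact (p.rp r).kill (hr r) (γ := ι x * κ x) (by rwa [rp_apply, r1]) (by rwa [rp_apply, r2])
      (by rw [rp_apply, rv]; exact mul_inv_eq_iff_eq_mul.1 e5) (Or.inr (by rwa [rp_apply, r3]))
      (by rwa [rp_apply, r1, cj])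

theorem Sy.nconj (p : Sy ι t) (g : G) (l : J) : g * t * g⁻¹ ≠ ι l := fun h => by
  have q := p.pr h
  rcases q.tw.cls' q.iv (In.self l) with e | ⟨m, rfl⟩
  · exact q.tw.alpha e q.iv.sK
  · exact (p.rp m).nconjv h

end CfsgLib.SJ.Rd
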