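import Mathlib
import Cfsg.Agent.Lib.SJ.RD
import Cfsg.Agent.Lib.StdW.Pair

/-! # SJ part R: a standard subgroup `J2` gives a frame -/

set_option autoImplicit false

namespace CfsgLib.SJ

open Subgroup Cfsg CfsgLib.StdInt CfsgLib.StdW

namespace Rd

theorem exists_Y {H : Type*} [Group H] [Finite H] {t : H} (h : ∀ c : H, Two c → c = 1 ∨ c = t)
    (ht : ∀ c, Commute c t) (tt : t * t = 1) : ∃ Y : Subgroup H, (∀ y ∈ Y, Odd (orderOf y)) ∧ ∀ g, g ∈ Y ∨ g * t ∈ Y := by
  obtain ⟨P⟩ : Nonempty (Sylow 2 H) := inferInstance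
  have h1 : ∀ x ∈ P, x = 1 ∨ x = t := fun x hx => h x ((P.isPGroup' ⟨x, hx⟩).imp fun k e => congrArg Subtype.val e)
  have hP : normalizer (P : Set H) ≤ centralizer (P : Set H) := fun c _ x hx => by
    rcases h1 x hx with rfl | rfl
    · simp
    · exact (ht c).symm
  refine ⟨_, fun y hy => odd_of_mem (Nat.not_even_iff_odd.1 fun e =>
    MonoidHom.not_dvd_card_ker_transferSylow P hP e.two_dvd) hy, fun g => ?_⟩
  obtain ⟨⟨n, x⟩, e⟩ := (MonoidHom.ker_transferSylow_isComplement' P hP).2 g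
  obtain rfl : (n : H) * x = g := e
  rcases h1 x x.2 with f | f
  · exact Or.inl (by rw [f, mul_one]; exact n.2)
  · exact Or.inr (by rw [f, mul_assoc, tt, mul_one]; exact n.2)

variable {G : Type*} [Group G] [Finite G] {ι κ : J →* G} {t u : G}

theorem Pr.fr (p : Pr ι κ t u) (h : In ι u z) : ∃ Y, Fr ι t Y := by
  have i := p.iv
  obtain ⟨h1, h2, -⟩ := p.tw.ztype i h
  have q : Sy ι t := ⟨p.fa, i.tK, i.tt, i.t1, h2⟩
  obtain ⟨Y, y1, y2⟩ := exists_Y (H := ↥(Kc ι ⊓ centralizer {t}))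
    (t := ⟨t, i.tK, mem_centralizer_singleton_iff.2 rfl⟩)
    (fun c hc => (h2 c c.2.1 (two_coe.2 hc) (mem_centralizer_singleton_iff.1 c.2.2)).imp Subtype.ext Subtype.ext)
    (fun c => Subtype.ext (mem_centralizer_singleton_iff.1 c.2.2)) (Subtype.ext i.tt)
  refine ⟨Y.map (Subgroup.subtype _), p.fa.st.inj, i.tt, i.t1, fun l => (mem_Kc.1 i.tK l).symm, ?_, ?_, ?_,
    fun g hg => p.fa.st.nrm t i.tK i.tt i.t1 g hg, fun g h3 h4 => ?_, q.nconj, ?_⟩
  · rintro _ ⟨y, hy, rfl⟩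
    simpa using y1 y hy
  · rintro _ ⟨y, -, rfl⟩
    exact mem_centralizer_singleton_iff.1 y.2.2
  · rintro _ ⟨y, -, rfl⟩ l
    exact (mem_Kc.1 y.2.1 l).symm
  · exact (y2 ⟨g, mem_Kc.2 fun l => (h4 l).symm, mem_centralizer_singleton_iff.2 h3⟩).imp
      (fun e => ⟨_, e, rfl⟩) fun e => ⟨_, e, rfl⟩
  · obtain ⟨g, hg⟩ := p.cj
    have s1 := mem_cg.1 (hg ▸ i.sK)
    have s2 : g⁻¹ * u * g * (g⁻¹ * u * g) = 1 := by simp [mul_assoc, ← mul_assoc u, i.ss]
    rw [← h1]
    refine isConj_iff.1 (IsConj.trans (b := g⁻¹ * u * g) (by_contra fun e => ?_) (isConj_iff.2 ⟨g, by group⟩))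
    obtain ⟨y, z1, z2, z3, z4⟩ := Invol.exists_central_involution_of_not_isConj i.tt s2 e
    obtain ⟨z0, z2⟩ := Invol.orderOf_eq_two_iff.1 z2
    obtain rfl := (h2 y (zpowers_le_of_mem (mul_mem i.tK s1) z1) (two_of_sq z2) z3).resolve_left z0
    rcases h2 _ s1 (two_of_sq s2) z4.symm with e' | e'
    · exact i.s1 (by simpa [mul_assoc] using congrArg (MulAut.conj g) e')
    · exact e (by rw [e'])

variable {L : Subgroup G} (e : J ≃* L)

/-- the embedding -/
noncomputable def emb : J →* G := L.subtype.comp e.toMonoidHom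

omit [Finite G] in
theorem Kc_emb : Kc (emb e) = centralizer (L : Set G) := by
  ext k
  rw [mem_Kc, mem_cent]
  exact ⟨fun h l hl => show _ * _ = _ * _ by simpa [emb] using h (e.symm ⟨l, hl⟩), fun h l => h _ (e l).2⟩

omit [Finite G] in
theorem Kc_cg (g : G) : Kc (cg g (emb e)) = cj g (centralizer (L : Set G)) := by
  ext k
  rw [mem_cg, mem_cj, Kc_emb]

omit [Finite G] in
theorem ac_emb {c : G} (h : c ∈ normalizer (L : Set G)) : Ac (emb e) c (back e (StdInt.aut h)) := fun l => by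
  simp [emb, back_apply, aut_apply]

variable (hL : IsStandardSubgroup L)
include hL

theorem st_emb : St (emb e) :=
  ⟨L.subtype_injective.comp e.injective, fun _ h1 h2 h3 _ h4 =>
    ⟨_, ac_emb e (norm_of_even hL (Kc_emb e ▸ h1) h2 h3 h4)⟩⟩

theorem tw_emb {g : G} (hg : g ∉ normalizer (L : Set G)) : Tw (emb e) (cg g (emb e)) where
  sa := st_emb e hL
  sb := (st_emb e hL).cg g
  od x h1 h2 := odd_of_mem (hL.2.1.2 g (hL.2.2.2 ▸ hg)) ⟨Kc_emb e ▸ h1, by rwa [Kc_cg] at h2⟩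
  nle h := hL.2.2.1 g (mt norm_of_cj hg) (commutator_eq_bot_iff_le_centralizer.2 (by
    rw [cent_cj, ← Kc_cg e]
    exact fun l hl => by simpa [emb] using h (e.symm ⟨l, hl⟩)))
  nle' h := hL.2.2.1 g (mt norm_of_cj hg) (by
    rw [commutator_comm, commutator_eq_bot_iff_le_centralizer, ← Kc_emb e]
    rintro _ ⟨l, hl, rfl⟩
    simpa [emb, cg_apply] using h (e.symm ⟨l, hl⟩))

theorem fam_emb : Fam (emb e) :=
  ⟨st_emb e hL, fun g => (em (g ∈ normalizer (L : Set G))).imp (fun h => ⟨_, ac_emb e h⟩) (tw_emb e hL)⟩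

theorem exists_pr (hF : IsSimpleGroup (generalizedFittingSubgroup G))
    (hF' : ¬IsMulCommutative (generalizedFittingSubgroup G)) : ∃ g t u, Pr (emb e) (cg g (emb e)) t u := by
  obtain ⟨t, tK, tt, t1⟩ := exists_invol (Nat.not_odd_iff_even.2 hL.2.1.1)
  obtain ⟨g, hg, h1⟩ : ∃ g ∉ normalizer (L : Set G),
      ¬Odd (Nat.card ↥(cj g (centralizer (L : Set G)) ⊓ normalizer (L : Set G))) := by
    by_contra! h1
    rw [hL.2.2.2] at h1
    rcases Cfsg.Agent.S1911.result _ hL.2.1 h1 with f | f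
    · exact not_normal hF hF' hL (normalizer_eq_top_iff.1 (hL.2.2.2.trans (normalizer_eq_top_iff.2 f)))
    · have h2 : L ≤ normalClosure (centralizer (L : Set G) : Set G) := (le_fstar hF hF' hL).trans
        (fstar_le hF inferInstance fun e => t1 (mem_bot.1 (e ▸ subset_normalClosure tK)))
      have r1 := (st_emb e hL).ne z_ne
      have := solvable_of_se f ⟨⟨emb e z, h2 (e z).2⟩, ⟨t, subset_normalClosure tK⟩,
        fun e => r1 (congrArg Subtype.val e), fun e => t1 (congrArg Subtype.val e),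
        fun f => z_ne ((st_emb e hL).one (by rw [show emb e z = t from congrArg Subtype.val f, Kc_emb]; exact tK)),
        Subtype.ext (show emb e z * emb e z = 1 by rw [← map_mul, zz, map_one]), Subtype.ext tt,
        Subtype.ext (mem_cent.1 tK _ (e z).2)⟩
      let f := (inclusion h2).codRestrict ((normalizer (centralizer (L : Set G) : Set G)).subgroupOf _) fun x =>
        hL.2.2.2.le (le_normalizer x.2)
      exact not_solvable hL (Group.isSolvable_of_isSolvable_injective (f := f)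
        fun x y e => inclusion_injective h2 (congrArg Subtype.val e))
  obtain ⟨u, ⟨s2, s3⟩, ss, s1⟩ := exists_invol h1
  have p := tw_emb e hL hg
  rw [← Kc_cg e] at s2
  rw [← Kc_emb e] at tK
  obtain ⟨t, tK, tt, t1, c⟩ := exists_comm (fun k => (ac_emb e s3).nK) ss
    (fun f => s1 (p.two f s2 (two_of_sq ss))) tK tt t1
  exact ⟨g, t, u, fam_emb e hL, (fam_emb e hL).cg g, p, ⟨tK, s2, tt, ss, t1, s1, c⟩, g, rfl⟩

end Rd

/-- a standard subgroup `J2` gives a frame -/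
theorem red {G : Type*} [Group G] [Finite G] (hF : IsSimpleGroup (generalizedFittingSubgroup G))
    (hF' : ¬IsMulCommutative (generalizedFittingSubgroup G)) {A : Subgroup G} (hA : IsStandardSubgroup A)
    (hJ : Spor.IsoJ2 A) : ∃ (ι : J →* G) (t : G) (Y : Subgroup G), Fr ι t Y := by
  obtain ⟨e⟩ := hJ
  obtain ⟨g, t, u, p⟩ := Rd.exists_pr (e.trans CfsgLib.J2.isoQ).symm hA hF hF'
  obtain ⟨ι, κ, t, u, p, h⟩ := p.exZ
  obtain ⟨Y, h⟩ := p.fr h
  exact ⟨ι, t, Y, h⟩

end CfsgLib.SJ
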